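import Cfsg.Agent.Lib.MS.Sec15
import Cfsg.Agent.Lib.FT.Sec8C

/-!
BG section 16: the types of maximal subgroups and the main theorems.
-/

set_option linter.unusedSectionVars false
set_option linter.unusedVariables false
set_option linter.style.haveILetI false
set_option linter.unusedSimpArgs false

namespace Cfsg.Agent.MS

open Subgroup Cfsg.Agent.Transfer

universe u
variable {G : Type u} [Group G] [Finite G]

section
variable {A B E H K L M N P U V X Y : Subgroup G} {p q r : ℕ} {a g x y z : G} {π : Set ℕ}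

theorem complIn_symm (h : IsComplIn A B M) : IsComplIn B A M :=
  ⟨h.2.1, h.1, by rw [inf_comm, h.2.2.1], fun m hm => by
    obtain ⟨a, ha, b, hb, e⟩ := h.2.2.2 _ (inv_mem hm)
    exact ⟨_, inv_mem hb, _, inv_mem ha, by rw [← mul_inv_rev, ← e, inv_inv]⟩⟩

theorem ti_iff (h : NN H = M) : IsTISubset (H : Set G) ↔ TI H M := by
  subst h
  refine ⟨fun h g hg => eq_bot_iff.2 fun x hx => h g⁻¹ (mt inv_mem_iff.1 hg) x hx.1 ?_,
    fun h g hg x hx h1 => ?_⟩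
  · simpa using mem_cj.1 hx.2
  · exact conj_eq_one_iff.1 (mem_bot.1 ((h g hg).le ⟨h1, conj_mem_cj_iff.2 hx⟩))

theorem ti_of_mem {T : Set G} (h1 : ∀ m ∈ M, ∀ x ∈ T, m * x * m⁻¹ ∈ T)
    (h2 : ∀ x ∈ T, x ≠ 1 → ∀ g : G, g * x * g⁻¹ ∈ T → g ∈ M) : IsTISubset T :=
  fun g hg x hx h => by_contra fun e => hg (FT.mem_normalizer_set.2 (h1 g (h2 x hx e g h)))

theorem exponent_subgroupOf (h : X ≤ M) : Monoid.exponent (X.subgroupOf M) = Monoid.exponent X :=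
  Monoid.exponent_eq_of_mulEquiv (subgroupOfEquivOfLe h)

theorem typeF_of (h : FT.TF M U) (hs : Group.IsSolvable M) (ho : Odd #M) : IsOfTypeF M := by
  obtain ⟨U1, a1, a2, a3, a4⟩ := h.ex1
  obtain ⟨U0, b1, b2, b3⟩ := h.ex0
  have l := h.le
  unfold IsOfTypeF
  rw [← FT.MF_subgroupOf]
  refine ⟨hs, ho, mt (FT.sub_eq_bot (MF_le M)).1 h.ne, fun e => h.lt.not_ge (subgroupOf_eq_top.1 e),
    U.subgroupOf M, mt (FT.sub_eq_bot l).1 h.neU, ?_, ⟨U1.subgroupOf M, comap_mono a1,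
      (FT.sub_nn l (a1.trans l)).2 a2, ?_, fun x hx h1 y hy => a4 x hx (fun e => h1 (Subtype.ext e))
        ⟨hy.1, mem_C1.2 (congrArg Subtype.val (mem_C1.1 hy.2))⟩⟩, U0.subgroupOf M, comap_mono b1,
    by rw [exponent_subgroupOf (b1.trans l), exponent_subgroupOf l, b2], fun u hu h1 x hx e =>
      Subtype.ext (mem_bot.1 ((b3 u hu fun e => h1 (Subtype.ext e)).le
        ⟨hx, mem_C1.2 (congrArg Subtype.val e).symm⟩))⟩
  · refine isComplement'_of_disjoint_and_mul_eq_univ (by rw [disjoint_iff, FT.sub_inf', h.inf, bot_subgroupOf]) ?_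
    rw [← normal_mul, FT.sub_sup (MF_le M) l, h.sup, subgroupOf_self, coe_top]
  · exact ⟨⟨fun x y => Subtype.ext (Subtype.ext (comm_of_ab a3 x.2 y.2))⟩⟩

theorem cyc_pPrimeCore [Fact p.Prime] (h : IsCyclic (O {p}ᶜ H)) : IsCyclic (pPrimeCore p H) := by
  rw [← map_pPrimeCore] at h
  exact isCyclic_of_surjective _ (equivMapOfInjective _ _ H.subtype_injective).symm.surjective

theorem card_pCore [Fact p.Prime] (H : Subgroup G) : #(pCore p H) = #(O {p} H) := by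
  rw [← map_pCore, card_map_of_injective H.subtype_injective]

theorem exponent_quot_dvd {n : ℕ} (h : ∀ m ∈ M, m ^ n ∈ MF M) : Monoid.exponent (M ⧸ fittingHall M) ∣ n :=
  Monoid.exponent_dvd_iff_forall_pow_eq_one.2 fun x => by
    obtain ⟨x, rfl⟩ := QuotientGroup.mk_surjective x
    rw [← QuotientGroup.mk_pow, QuotientGroup.eq_one_iff, ← FT.MF_subgroupOf]
    exact h x x.2

theorem exists_frobC (h1 : H ⊔ E = M) (hn : M ≤ NN H) (hH : H ≠ ⊥) (hE : E ≠ ⊥) (h : Reg H E) :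
    IsFrobeniusComplement (E.subgroupOf M) ∧ frobeniusKernel (E.subgroupOf M) = H.subgroupOf M := by
  have a1 : H ≤ M := h1 ▸ le_sup_left
  have a2 : E ≤ M := h1 ▸ le_sup_right
  haveI := FT.normal_sub hn
  have a3 : H.subgroupOf M ⊔ E.subgroupOf M = ⊤ := by rw [FT.sub_sup a1 a2, h1, subgroupOf_self]
  have a4 : ∀ x ∈ E.subgroupOf M, x ≠ 1 → H.subgroupOf M ⊓ C1 x = ⊥ := fun x hx h1 =>
    eq_bot_iff.2 fun y hy => Subtype.ext (mem_bot.1 ((h x hx fun e => h1 (Subtype.ext e)).le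
      ⟨hy.1, mem_C1.2 (congrArg Subtype.val (mem_C1.1 hy.2))⟩))
  have a5 := Solv.isFrobeniusComplement_of_fpf a3 (mt (FT.sub_eq_bot a1).1 hH) (mt (FT.sub_eq_bot a2).1 hE) a4
  exact ⟨a5, Solv.frobeniusKernel_eq_of_normal a3 a4⟩

variable [hG : MinS G]
include hG

theorem kc_iff (hM : IsCoatom M) : IsSigmaDecomposition M K U ↔ KC M U K := by
  have a : ∀ {K}, Hall (kappa M) K M → Hall (sigma M ∪ kappa M) (K ⊔ Sg M) M := fun h =>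
    sup_comm (Sg M) _ ▸ (Sg_hall hM).sup_union h (nn_Sg' h.le)
  refine ⟨fun h => ⟨h.hall, BG.HallIn.compl_of_isComplIn (a h.hall) (complIn_symm h.compl), h.normal⟩,
    fun h => ⟨kappa_cyc hM h.hK, h.hK, complIn_symm (BG.HallIn.isComplIn (a h.hK) h.hU), h.nn⟩⟩

theorem MF_eq_of_not_tp1 (hM : IsCoatom M) (h : ¬ TP1 M) : MF M = Sg M :=
  (MF_eq_Sg_iff hM).2 (Sg_nil_of_not_tp1 hM h)

theorem not_tp1_of_empty (hM : IsCoatom M) (h : kappa M = ∅) : ¬ TP1 M := fun e => (e.nonempty hM).ne_empty h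

theorem supportR_eq (hM : IsCoatom M) (hx : x ∈ Sg M) (h1 : x ≠ 1) : supportR M x = RR x := by
  by_cases h : C1 x ≤ M
  · rw [FT.R_of_le h, RR_eq_bot hM hx h]
  obtain ⟨N, a1, -, a2, -, a3, -⟩ := bg14_4 hM hx h1 h
  rw [FT.R_of_um h a1, a2, MF_eq_of_not_tp1 a1.max a3]

theorem tildeOf_eq (hM : IsCoatom M) : tildeOf M ((Sg M : Set G) \ {1}) = CS (Mt M) :=
  Set.ext fun g => ⟨fun ⟨a, ha, r, hr, y, e⟩ => ⟨_, ⟨a, ha.1, ha.2, r, supportR_eq hM ha.1 ha.2 ▸ hr, rfl⟩, y, e⟩,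
    fun ⟨_, ⟨a, h1, h2, r, hr, rfl⟩, y, e⟩ => ⟨a, ⟨h1, h2⟩, r, (supportR_eq hM h1 h2).symm ▸ hr, y, e⟩⟩

theorem F_ti (hM : IsCoatom M) (h : TP2 M ∨ MF M ≠ Sg M) : IsTISubset (F M : Set G) :=
  (ti_iff (nn_F_max hM)).2 fun g hg => by_contra fun e =>
    h.elim (bg15_7 hM hg rfl e).1 fun h => h (bg15_7 hM hg rfl e).2.1

theorem nn_MF_max (hM : IsCoatom M) : NN (MF M) = M := max_nn' hM (MF_ne_bot hM) (MF_le M) (nn_MF' le_rfl)

theorem KC.hall (hM : IsCoatom M) (h : KC M U K) : Hall (kappa M)ᶜ (Sg M ⊔ U) M :=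
  ((Sg_hall hM).sup_union h.hU (nn_Sg' h.hU.le)).congr fun p _ _ =>
    ⟨fun a b => a.elim (kappa_ns b) fun a => a (Or.inr b), fun a => by
      by_cases b : p ∈ sigma M
      exacts [Or.inl b, Or.inr fun c => c.elim b a]⟩

theorem der_hall (hM : IsCoatom M) (h : (kappa M).Nonempty) : Hall (kappa M)ᶜ ⁅M, M⁆ M := by
  obtain ⟨K, hK⟩ := exists_hall (max_sol hM) (kappa M)
  obtain ⟨U, hU⟩ := exists_KC hM hK
  exact bg15_1b hM hU ((kappa_nonempty_iff hK).1 h) ▸ hU.hall hM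

theorem Partner.snc (hM : IsCoatom M) (hK : Hall (kappa M) K M) (h0 : K ≠ ⊥) (h : Partner M K L H) :
    IsSelfNormalizingCyclic K L := by
  have z := (h.zp hM hK h0).1
  refine ⟨h0, h.eq ▸ z.ne2, h.eq ▸ z.inf, fun a ha b hb => ?_, h.cyc, fun T h1 ⟨t, ht⟩ => le_antisymm
    (fun g hg => ?_) fun g hg => FT.mem_normalizer_set.2 fun x hx => ?_⟩
  · exact comm_of_ab (ab_of_cyc h.cyc) (mem_sup_left ha) (mem_sup_right hb)
  · have k : ∀ s ∈ T, s ∈ Zh K L := fun s hs => ⟨(h1 hs).1, fun e => (h1 hs).2 (Or.inl e),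
      fun e => (h1 hs).2 (Or.inr e)⟩
    exact h.ti' t (k t ht) g (k _ (FT.mem_normalizer_set.1 hg t ht))
  · rwa [(comm_of_ab (ab_of_cyc h.cyc) hg (h1 hx).1).eq, mul_inv_cancel_right]

theorem typeP_of (hM : IsCoatom M) (hK : Hall (kappa M) K M) (h0 : K ≠ ⊥)
    (hV : Hall {p | p ∣ #(MF M)}ᶜ V ⁅M, M⁆) (hn : K ≤ NN V) : IsTypePWith M K V (Sg M ⊓ CC K) := by
  obtain ⟨H, hp⟩ := bg14_7 hM hK h0
  obtain ⟨-, ⟨a1, a2, -⟩, a3, a4⟩ := bg15_5 hM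
  obtain ⟨b1, b2, b3⟩ := bg15_6 hM hK h0
  have c1 := (MF_hall M).mono ((MF_le_Sg hM).trans (Sg_le_der hM)) (der_le M)
  have c2 : K ≤ NN ⁅M, M⁆ := nn_comm (nn_of_le hK.le) (nn_of_le hK.le)
  refine ⟨h0, kappa_cyc hM hK, hK.coprime, (isComplIn_iff c2).2 hp.der,
    a3.nil (nn_MF' (der_le M)) hV.le (c1.pi.inf hV.pi), hn, BG.HallIn.isComplIn c1 hV, b3, a2 ▸ a1, a2,
    a4 ((kappa_nonempty_iff hK).2 h0), le_inf b2 b1, fun x hx h1 => ?_, hp.snc hM hK h0⟩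
  have := dedekind (b1.trans (der_le _)) (nn_of_cc (cc_symm inf_le_right) : K ≤ NN (Sg M ⊓ CC K))
  rw [inf_comm K, hp.der.2, sup_bot_eq, sup_comm, ← hp.c1 x hx h1, inf_right_comm,
    inf_eq_right.2 (der_le M)] at this
  exact this

theorem exists_typeP (hM : IsCoatom M) (hK : Hall (kappa M) K M) (h0 : K ≠ ⊥) :
    ∃ V, IsTypePWith M K V (Sg M ⊓ CC K) := by
  obtain ⟨V, a, b⟩ := cop_hall (nn_comm (nn_of_le hK.le) (nn_of_le hK.le))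
    (hK.pi.coprime (der_hall hM ((kappa_nonempty_iff hK).2 h0)).pi) (sol_of_le hM (der_le M))
    {p | p ∣ #(MF M)}ᶜ
  exact ⟨V, typeP_of hM hK h0 a b⟩

theorem typeI_iff (hM : IsCoatom M) : IsOfTypeI M ↔ kappa M = ∅ := by
  obtain ⟨K, hK⟩ := exists_hall (max_sol hM) (kappa M)
  refine ⟨fun h => (kappa_eq_empty_iff hK).2 (by_contra fun e => ?_), fun h => ?_⟩
  · obtain ⟨V, hV⟩ := exists_typeP hM hK e
    exact hV.not_typeI h
  obtain rfl := (kappa_eq_empty_iff hK).1 h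
  obtain ⟨U, hU⟩ := exists_KC hM hK
  have a1 := not_tp1_of_empty hM h
  have a2 := MF_eq_of_not_tp1 hM a1
  obtain ⟨a3, a4⟩ := bg15_1de hM hU.hU
  refine ⟨typeF_of ⟨MF_ne_bot hM, mt hU.tp1_iff.2 a1, a2 ▸ sup_bot_eq (Sg M ⊔ U) ▸ (bg15_1a hM hU).2.1,
    a2 ▸ Sg_inf hU.pi', a2 ▸ a3, a2 ▸ a4⟩ (max_sol hM) (odd_sub M), ?_⟩
  rw [ti_iff (nn_MF_max hM), or_iff_not_imp_left]
  intro e
  obtain ⟨g, hg, e⟩ : ∃ g, g ∉ M ∧ MF M ⊓ cj g (MF M) ≠ ⊥ := by by_contra! c; exact e c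
  obtain ⟨-, -, b1, -, -, -, ⟨-, b2, b3, b4⟩ | ⟨b2, -, -, b3, b4 | b4⟩⟩ := bg15_7 hM hg rfl
    (ne_bot_of_le_ne_bot e (inf_le_inf (MF_le_F M) (cj_mono g (MF_le_F M))))
  · exact Or.inl ⟨b2, rankLE_iff.2 b4, mt rankLE_iff.1 (not_not.2 b3)⟩
  · haveI := Fact.mk b2
    exact Or.inr ⟨fun p hp hd => exponent_quot_dvd (b4 p hp hd), _, b2, card_dvd b1, cyc_pPrimeCore b3⟩
  · exact absurd b4.2.1 a1

theorem typeII_of (hM : IsCoatom M) (h : TP2 M) : IsOfTypeII M := by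
  obtain ⟨K, hK⟩ := exists_hall (max_sol hM) (kappa M)
  obtain ⟨U, hU⟩ := exists_KC hM hK
  have h0 := (kappa_nonempty_iff hK).1 h.1
  have a1 := MF_eq_of_not_tp1 hM h.2
  have a2 := bg15_1b hM hU h0
  have a3 := mt hU.tp1_iff.2 h.2
  have a4 := der_hall hM h.1
  have a5 : MF ⁅M, M⁆ = MF M := le_antisymm (le_MF ((MF_hall _).trans' a4) (by nrm) (MF_nil _))
    (le_MF ((MF_hall M).mono (a1.le.trans (Sg_le_der hM)) (der_le M)) (nn_MF' (der_le M)) (MF_nil M))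
  have a6 : MF M ⊓ U = ⊥ := a1 ▸ Sg_inf hU.pi'
  obtain ⟨b1, b2⟩ := bg15_1de hM hU.hU
  obtain ⟨r, hr, hd⟩ := exists_prime_dvd a3
  haveI := Fact.mk hr
  obtain ⟨R, hR⟩ := exists_isSyl r U
  obtain ⟨H, hH, b3⟩ := exists_max (pg_nn_ne_top hR.pgroup (syl_ne_bot hR hd))
  obtain ⟨N, hp⟩ := bg14_7 hM hK h0
  refine ⟨K, U, _, typeP_of hM hK h0 (((MF_hall M).mono (a1.le.trans (Sg_le_der hM)) (der_le M)).compl
    (nn_MF' hU.hU.le) (a1 ▸ a2) a6) hU.nn, a3, (bg14_2g hM hK h).2.1, F_ti hM (Or.inl h), hU.ab hM h0,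
    fun e => (bg14_12 hM hU h0 hp hR hH b3).2.2.2.1 (inf_le_right.trans e), typeF_of (U := U) ?_
      (sol_of_le hM (der_le M)) (odd_sub _), a5⟩
  rw [← a1, ← a5] at b1 b2
  exact ⟨a5 ▸ MF_ne_bot hM, a3, by rw [a5, a1, a2], a5 ▸ a6, b1, b2⟩

theorem type34_of (hM : IsCoatom M) (h : MF M ≠ Sg M) : IsOfTypeIII M ∨ IsOfTypeIV M := by
  obtain ⟨K, hK⟩ := exists_hall (max_sol hM) (kappa M)
  obtain ⟨⟨a1, -, a2⟩, ⟨a3, -⟩, -⟩ := bg15_2 hM hK h rfl rfl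
  obtain ⟨V, hV⟩ := exists_typeP hM hK (prime_ne_bot a3)
  have a4 : V ≠ ⊥ := fun e => h ((hV.der_eq_of_bot e).symm.trans a2.symm)
  have a5 : NN V ≤ M := by
    obtain ⟨r, hr, hd⟩ := exists_prime_dvd a4
    haveI := Fact.mk hr
    have b1 := FT.compl_hall (M := M) hV.H_sup_UW hV.H_inf_UW
    have b2 : Hall {p | p ∣ #(MF M)}ᶜ V (Sg M) := a2 ▸ ((MF_hall M).mono hV.H_le (der_le M)).compl
      (nn_MF' hV.U_le) hV.H_sup hV.H_inf
    have b3 := Sg_pi M r hr (hd.trans (card_dvd b2.le))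
    exact (nn_O le_rfl).trans (sigma_nn b3 (Sg_syl hM b3
      (b2.syl_trans (nil_syl hV.U_nilpotent) (b2.pi r hr hd))))
  by_cases c : IsMulCommutative V
  exacts [Or.inl ⟨K, V, _, hV, a4, a3, F_ti hM (Or.inr h), c, a5⟩,
    Or.inr ⟨K, V, _, hV, a4, a3, F_ti hM (Or.inr h), c, a5⟩]

theorem typeV_of (hM : IsCoatom M) (h : TP1 M) (h1 : MF M = Sg M) : IsOfTypeV M := by
  obtain ⟨K, hK⟩ := exists_hall (max_sol hM) (kappa M)
  obtain ⟨a1, a2, a3⟩ := tp1_compl hM hK h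
  refine ⟨K, ⊥, _, typeP_of hM hK a1 (Hall.bot (by rw [← a3, ← h1]; exact (isPi_self _).compl_compl)) nn_bot,
    rfl, ?_⟩
  rw [ti_iff (nn_MF_max hM), or_iff_not_imp_left]
  intro e
  obtain ⟨g, hg, e⟩ : ∃ g, g ∉ M ∧ MF M ⊓ cj g (MF M) ≠ ⊥ := by by_contra! c; exact e c
  obtain ⟨-, -, b1, -, -, -, ⟨b2, -⟩ | ⟨b2, -, -, b3, b4 | b4⟩⟩ := bg15_7 hM hg rfl
    (ne_bot_of_le_ne_bot e (inf_le_inf (MF_le_F M) (cj_mono g (MF_le_F M))))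
  · exact absurd b2 (h.nonempty hM).ne_empty
  · haveI := Fact.mk b2
    obtain ⟨a, ha, rfl⟩ := exists_zpowers (kappa_cyc hM hK)
    refine Or.inl ⟨_, b2, card_dvd b1, ?_, cyc_pPrimeCore b3⟩
    rw [Nat.card_zpowers]
    exact orderOf_dvd_of_pow_eq_one (eq_one_of_inf (Sg_inf a2.pi) (h1 ▸ b4 _ b2 (card_dvd b1) a (hK.le ha))
      (pow_mem ha _))
  · haveI := Fact.mk b2
    refine Or.inr ⟨_, b2, card_dvd b1, by rw [card_pCore, b4.1], ?_, cyc_pPrimeCore b3⟩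
    rw [← (Sg_hall hM).relIndex_eq a2, ← h1]
    exact b4.2.2

theorem type_cases (hM : IsCoatom M) : (kappa M = ∅ ∧ MF M = Sg M ∧ IsOfTypeI M) ∨
    (TP2 M ∧ MF M = Sg M ∧ IsOfTypeII M) ∨ (TP1 M ∧ MF M ≠ Sg M ∧ (IsOfTypeIII M ∨ IsOfTypeIV M)) ∨
    (TP1 M ∧ MF M = Sg M ∧ IsOfTypeV M) := by
  by_cases h : TP1 M
  · by_cases h1 : MF M = Sg M
    exacts [Or.inr (Or.inr (Or.inr ⟨h, h1, typeV_of hM h h1⟩)), Or.inr (Or.inr (Or.inl ⟨h, h1, type34_of hM h1⟩))]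
  rcases (kappa M).eq_empty_or_nonempty with h1 | h1
  exacts [Or.inl ⟨h1, MF_eq_of_not_tp1 hM h, (typeI_iff hM).2 h1⟩,
    Or.inr (Or.inl ⟨⟨h1, h⟩, MF_eq_of_not_tp1 hM h, typeII_of hM ⟨h1, h⟩⟩)]

theorem typeII_iff (hM : IsCoatom M) : IsOfTypeII M ↔ TP2 M := by
  refine ⟨fun h => ?_, typeII_of hM⟩
  obtain ⟨_, _, _, t⟩ := FT.typeP_of (Or.inl h)
  rcases type_cases hM with a | a | a | a
  exacts [absurd a.2.2 t.not_typeI, a.1, absurd h (t.not_II_of_34 a.2.2), absurd (t.of_V a.2.2).1 (t.of_II h).1]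

theorem type34_iff (hM : IsCoatom M) : IsOfTypeIII M ∨ IsOfTypeIV M ↔ MF M ≠ Sg M := by
  refine ⟨fun h => ?_, type34_of hM⟩
  obtain ⟨_, _, _, t⟩ := FT.typeP_of (Or.inr (h.imp_right Or.inl))
  rcases type_cases hM with a | a | a | a
  exacts [absurd a.2.2 t.not_typeI, absurd a.2.2 (t.not_II_of_34 h), a.2.1,
    absurd (t.of_V a.2.2).1 (t.of_34 h).1]

theorem typeV_iff (hM : IsCoatom M) : IsOfTypeV M ↔ TP1 M ∧ MF M = Sg M := by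
  refine ⟨fun h => ?_, fun h => typeV_of hM h.1 h.2⟩
  obtain ⟨_, _, _, t⟩ := FT.typeP_of (Or.inr (Or.inr (Or.inr h)))
  rcases type_cases hM with a | a | a | a
  exacts [absurd a.2.2 t.not_typeI, absurd (t.of_V h).1 (t.of_II a.2.2).1,
    absurd (t.of_V h).1 (t.of_34 a.2.2).1, ⟨a.1, a.2.1⟩]

theorem core_eq (hM : IsCoatom M) : typeCore M = Sg M := by
  by_cases h : MF M = Sg M
  · rw [typeCore, if_neg (mt (type34_iff hM).1 (not_not.2 h)), h]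
  obtain ⟨K, hK⟩ := exists_hall (max_sol hM) (kappa M)
  rw [FT.core_34 (type34_of hM h), ← (bg15_2 hM hK h rfl rfl).1.2.2]

theorem A1_eq (hM : IsCoatom M) : typeA1 M = (Sg M : Set G) \ {1} := by rw [typeA1, core_eq hM]

/-- the set `A(M)` -/
def AA (M : Subgroup G) (a : G) : Prop := a ∈ M ∧ a ≠ 1 ∧ PiE (kappa M)ᶜ a ∧ Sg M ⊓ C1 a ≠ ⊥

omit hG in
theorem cent_iff : (∃ y ∈ H, y ≠ 1 ∧ x * y = y * x) ↔ H ⊓ C1 x ≠ ⊥ :=
  ⟨fun ⟨y, a, b, c⟩ => ne_bot_of_mem (mem_inf.2 ⟨a, mem_C1.2 c.symm⟩) b, fun h => by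
    obtain ⟨y, a, b⟩ := exists_ne_one h
    exact ⟨y, a.1, b, (mem_C1.1 a.2).symm⟩⟩

theorem mem_hall_iff (hH : Hall π H M) (hn : M ≤ NN H) : x ∈ H ↔ x ∈ M ∧ PiE π x :=
  ⟨fun h => ⟨hH.le h, hH.pi.piE h⟩, fun h => h.2.mem_hall hH h.1 (hn h.1)⟩

theorem mem_A (hM : IsCoatom M) : x ∈ typeA M ↔ AA M x := by
  rcases (kappa M).eq_empty_or_nonempty with h | h
  · rw [FT.mem_A_I ((typeI_iff hM).2 h), cent_iff, MF_eq_of_not_tp1 hM (not_tp1_of_empty hM h), AA, h]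
    exact ⟨fun a => ⟨a.1, a.2.1, fun _ _ _ => id, a.2.2⟩, fun a => ⟨a.1, a.2.1, a.2.2.2⟩⟩
  · rw [FT.mem_A_P (mt (typeI_iff hM).1 h.ne_empty), cent_iff, core_eq hM,
      mem_hall_iff (der_hall hM h) (by nrm), AA]
    tauto

theorem AA.conj (h : AA M x) (g : G) : AA (cj g M) (g * x * g⁻¹) :=
  ⟨conj_mem_cj_iff.2 h.1, mt conj_eq_one_iff.1 h.2.1, kappa_cj g M ▸ h.2.2.1.conj g, by
    rw [← cj_Sg, ← cj_centralizer_singleton, ← cj_inf]; exact mt cj_eq_bot_iff.1 h.2.2.2⟩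

theorem AA.conj' (h : AA M x) (hg : g ∈ M) : AA M (g * x * g⁻¹) := by
  have := h.conj g; rwa [cj_eq_of_mem hg] at this

theorem aa_of_Sg (hx : x ∈ Sg M) (h1 : x ≠ 1) : AA M x :=
  ⟨Sg_le M hx, h1, ((Sg_pi M).piE hx).sub fun p a b => kappa_ns b a,
    ne_bot_of_mem (mem_inf.2 ⟨hx, self_mem_C1 x⟩) h1⟩

theorem AA.um (hM : IsCoatom M) (h : AA M x) (h1 : x ∉ Sg M) : UM (C1 (part (sigma M)ᶜ x)) M := by
  rw [← cc_zpowers]
  refine (bg15_1c hM (zpowers_le.2 (part_mem_of h.1)) (((part_pi _ x).inter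
    (h.2.2.1.of_mem (part_mem _ x))).sub fun p a b => b.elim a.1 a.2) (zpowers_ne_bot.2 fun e => h1
      (mem_Sg hM h.1 (compl_compl (sigma M) ▸ part_eq_one.1 e))) fun e => h.2.2.2 (eq_bot_iff.2 ?_)).1
  rw [← e, cc_zpowers]
  exact inf_le_inf_left _ (C1_le_part _ x)

theorem conj_mem_Sg_iff (hM : IsCoatom M) (h1 : x ∈ M) (h2 : g * x * g⁻¹ ∈ M) :
    g * x * g⁻¹ ∈ Sg M ↔ x ∈ Sg M :=
  ⟨fun h => mem_Sg hM h1 (by simpa [mul_assoc] using ((Sg_pi M).piE h).conj g⁻¹),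
    fun h => mem_Sg hM h2 (((Sg_pi M).piE h).conj g)⟩

theorem AA.mem (hM : IsCoatom M) (h : AA M x) (h1 : x ∉ Sg M) (h2 : AA M (g * x * g⁻¹)) : g ∈ M := by
  have a := (h.um hM h1).cj g
  rw [cj_centralizer_singleton, ← part_conj] at a
  exact (cj_max_iff hM).1 ((h2.um hM (mt (conj_mem_Sg_iff hM h.1 h2.1).1 h1)).eq a)

theorem Zh_not_piE (hM : IsCoatom M) (hK : Hall (kappa M) K M) (h0 : K ≠ ⊥) (hz : z ∈ Zh K (Sg M ⊓ CC K)) :
    ¬ PiE (kappa M)ᶜ z := fun e => by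
  obtain ⟨-, -, a, b⟩ := ZP.part ⟨hM, hK, h0, rfl⟩ hz
  exact b ((hK.pi.piE a).eq_one (e.of_mem (part_mem _ z)))

theorem mem_A0 (hM : IsCoatom M) (hK : Hall (kappa M) K M) : x ∈ typeA0 M ↔
    AA M x ∨ (K ≠ ⊥ ∧ ∃ m ∈ M, ∃ z ∈ Zh K (Sg M ⊓ CC K), x = m * z * m⁻¹) := by
  rcases eq_or_ne K ⊥ with h | h
  · rw [FT.A0_I ((typeI_iff hM).2 ((kappa_eq_empty_iff hK).2 h)), mem_A hM]
    exact ⟨Or.inl, fun a => a.resolve_right fun a => a.1 h⟩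
  obtain ⟨V, hV⟩ := exists_typeP hM hK h
  rw [FT.mem_A0_P hV, mem_A hM]
  exact or_congr_right ⟨fun ⟨m, hm, w, a, b, c, e⟩ => ⟨h, m, hm, w, ⟨a, b, c⟩, e⟩,
    fun ⟨_, m, hm, w, ⟨a, b, c⟩, e⟩ => ⟨m, hm, w, a, b, c, e⟩⟩

theorem mem_of_conj_A0 (hM : IsCoatom M) (hx : x ∈ typeA0 M) (h1 : x ∉ Sg M) (h : g * x * g⁻¹ ∈ typeA0 M) :
    g ∈ M := by
  obtain ⟨K, hK⟩ := exists_hall (max_sol hM) (kappa M)
  rcases (mem_A0 hM hK).1 hx with a | ⟨a, m, hm, z, hz, rfl⟩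
  · refine a.mem hM h1 (((mem_A0 hM hK).1 h).resolve_right fun ⟨b, m, hm, z, hz, e⟩ => Zh_not_piE hM hK b hz ?_)
    have := (e ▸ a.2.2.1.conj g).conj m⁻¹
    simpa [mul_assoc] using this
  · have := ZP.ti ⟨hM, hK, a, rfl⟩ hz (g := g * m) (by simpa [mul_assoc] using (FT.A0_spec h).1)
    exact (mul_mem_cancel_right hm).1 this

theorem fusion_A0 (hM : IsCoatom M) (hx : x ∈ typeA0 M) (h : g * x * g⁻¹ ∈ typeA0 M) :
    ∃ m ∈ M, m * x * m⁻¹ = g * x * g⁻¹ := by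
  by_cases h1 : x ∈ Sg M
  · obtain ⟨n, a, b⟩ := bg15_3b hM (Hall.self (Sg_pi M)) h1
      ((conj_mem_Sg_iff hM (Sg_le M h1) (FT.A0_spec h).1).2 h1)
    exact ⟨n, a.1, b⟩
  · exact ⟨g, mem_of_conj_A0 hM hx h1 h, rfl⟩

theorem frob_of (hM : IsCoatom M) (hk : kappa M = ∅) (h : ∀ E, Hall (sigma M)ᶜ E M → Reg (Sg M) E) :
    FT.Frob M := by
  obtain ⟨E, hE⟩ := exists_hall (max_sol hM) (sigma M)ᶜ
  have a := MF_eq_of_not_tp1 hM (not_tp1_of_empty hM hk)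
  exact FT.frob_of_reg (max_sol hM) (a ▸ Sg_sup hM hE) (a ▸ Sg_inf hE.pi) (a ▸ h E hE)

theorem supp_A0 (hM : IsCoatom M) (hx : x ∈ typeA0 M) (h : ¬ C1 x ≤ M) :
    x ∈ typeA1 M ∧ ∃ L, FT.Supp M L x := by
  have h1 := (FT.A0_spec hx).2
  have a0 : x ∈ Sg M := by_contra fun e => h fun g hg => mem_of_conj_A0 hM hx e (by rwa [conj_eq_of_C1 hg])
  obtain ⟨N, a1, a2, a3, a4, a5, a6, -, -, a7, a8⟩ := bg14_4 hM a0 h1 h
  have hN := a1.max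
  have b1 := MF_eq_of_not_tp1 hN a5
  refine ⟨A1_eq hM ▸ ⟨a0, h1⟩, N, a1, b1 ▸ Sg_sup hN a7, ?_, by rw [b1, ← a3, a6], fun y hy => ?_,
    (mem_A hN).2 ⟨a1.le (self_mem_C1 x), h1, a2.sub fun p a b => kappa_not2 b a, a3 ▸ a4⟩,
    fun e => h1 ?_, ?_, fun t => ?_⟩
  · rw [b1, ← Sg_inf a7.pi, inf_comm M, ← inf_assoc, inf_eq_left.2 (Sg_le N)]
  · rw [b1]
    refine (Sg_pi N).coprime fun p hp hd e => ?_
    obtain ⟨c1, -, c2⟩ := bg14_13a hM a0 h1 h hN a1.le e (hd.trans (card_dvd inf_le_left))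
    have c3 := frob_of hM c1 c2
    have c4 := MF_eq_of_not_tp1 hM (not_tp1_of_empty hM c1)
    rw [FT.A0_I ((typeI_iff hM).2 c1), mem_A hM] at hy
    obtain ⟨w, d1, d2⟩ := exists_ne_one hy.2.2.2
    exact bg13_9 hM hN a8 p (Sg_pi M p hp (hd.trans (card_dvd (c4 ▸ c3 y (c3 w (c4 ▸ d1.1) d2
      ⟨hy.1, mem_C1_comm.1 d1.2⟩) hy.2.1)))) e
  · rw [A1_eq hN] at e
    exact ((Sg_pi N).piE e.1).eq_one (a2.sub fun p => tau2_ns)
  · rcases (kappa N).eq_empty_or_nonempty with e | e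
    exacts [Or.inl ((typeI_iff hN).2 e), Or.inr (typeII_of hN ⟨e, a5⟩)]
  · obtain ⟨c1, -, -, c2⟩ := bg15_9 hM a0 h1 h hN a1.le ((typeII_iff hN).1 t).1
    exact frob_of hM c1 fun E hE => (c2 E hE).2

theorem A_ti (hM : IsCoatom M) : IsTISubset {x | AA M x ∧ x ∉ Sg M} :=
  ti_of_mem (M := M) (fun m hm x hx => ⟨hx.1.conj' hm, mt (conj_mem_Sg_iff hM hx.1.1 (hx.1.conj' hm).1).1 hx.2⟩)
    fun x hx _ g hg => hx.1.mem hM hx.2 hg.1

theorem syl_U [Fact p.Prime] (hM : IsCoatom M) (hU : U ≤ M) (h : IsPi (sigma M)ᶜ U) (hP : P ≤ U)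
    (h1 : IsPGroup p P) : IsMulCommutative P ∧ ¬ Rk p 3 P :=
  ⟨bg12_10a hM (hP.trans hU) (h.mono hP) (nil_of_pg h1), fun e =>
    not_rk3_of_ns hM (h p Fact.out (e.mono hP).dvd) (e.mono (hP.trans hU))⟩

theorem hall_of_compl (hM : IsCoatom M) (h : (IsOfTypeI M ∧ IsComplIn (MF M) U M) ∨
    (IsOfTypeII M ∧ IsComplIn (MF M) U ⁅M, M⁆)) : MF M = Sg M ∧ Hall (sigma M ∪ kappa M)ᶜ U M := by
  rcases h with ⟨t, h⟩ | ⟨t, h⟩
  · have a := (typeI_iff hM).1 t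
    have b := MF_eq_of_not_tp1 hM (not_tp1_of_empty hM a)
    rw [a, Set.union_empty]
    exact ⟨b, BG.HallIn.compl_of_isComplIn (Sg_hall hM) (b ▸ h)⟩
  · have a := (typeII_iff hM).1 t
    have b := MF_eq_of_not_tp1 hM a.2
    rw [Set.compl_union]
    exact ⟨b, Hall.trans' (BG.HallIn.compl_of_isComplIn ((Sg_hall hM).mono (Sg_le_der hM) (der_le M)) (b ▸ h))
      (der_hall hM a.1)⟩

theorem exists_nilpotent_fusion (hH : Hall π H ⊤) (hn : Group.IsNilpotent H) (hx : x ∈ H)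
    (h : g * x * g⁻¹ ∈ H) : ∃ n ∈ NN H, n * x * n⁻¹ = g * x * g⁻¹ := by
  obtain ⟨M, hM, a⟩ := bg15_4 hH hn
  obtain ⟨n, b, c⟩ := bg15_3b hM (hH.mono a le_top) hx h
  exact ⟨n, b.2, c⟩

theorem not_I_cases (hM : IsCoatom M) (h : (kappa M).Nonempty) :
    IsOfTypeII M ∨ IsOfTypeIII M ∨ IsOfTypeIV M ∨ IsOfTypeV M := by
  rcases type_cases hM with a | a | a | a
  exacts [absurd a.1 h.ne_empty, Or.inl a.2.2, Or.inr (a.2.2.imp_right Or.inl), Or.inr (Or.inr (Or.inr a.2.2))]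

/-- The main theorems of the local analysis. -/
theorem bg16 : FT.BG16 G where
  types M hM := (kappa M).eq_empty_or_nonempty.imp (typeI_iff hM).2 (not_I_cases hM)
  str := by
    rw [or_iff_not_imp_left]
    intro e
    obtain ⟨M, hM, e⟩ : ∃ M : Subgroup G, IsCoatom M ∧ ¬ IsOfTypeI M := by by_contra! c; exact e c
    obtain ⟨K, hK⟩ := exists_hall (max_sol hM) (kappa M)
    have h0 := mt (kappa_eq_empty_iff hK).2 (mt (typeI_iff hM).2 e)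
    obtain ⟨H, hp⟩ := bg14_7 hM hK h0
    have h1 := bg14_2c hM hK
    obtain ⟨V, hV⟩ := exists_typeP hM hK h0
    obtain ⟨W, hW⟩ := exists_typeP hp.max hp.hk h1
    exact ⟨K, _, M, H, hp.snc hM hK h0, hM, hp.max, hV.W₁_compl, hW.W₁_compl, hp.inf,
      hp.p2.imp (fun a => typeII_of hM a.1) fun a => typeII_of hp.max a.1, ⟨_, _, _, hV⟩, ⟨_, _, _, hW⟩,
      fun N hN => (kappa N).eq_empty_or_nonempty.imp (typeI_iff hN).2 (hp.cls N hN)⟩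
  core_syl M hM p hp P hP h0 := by
    haveI := Fact.mk hp
    rw [core_eq hM] at hP
    have := pg_mem_pi hP.pgroup h0 ((Sg_pi M).mono hP.le)
    exact sigma_nn this (Sg_syl hM this hP)
  MF_hall M hM := relIndex_top_right (MF M) ▸
    (((MF_hall M).mono (MF_le_Sg hM) (Sg_le M)).trans' (Sg_hall_top hM)).coprime
  core_hall M hM := by rw [core_eq hM]; exact relIndex_top_right (Sg M) ▸ (Sg_hall_top hM).coprime
  compl M U hM h := by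
    obtain ⟨a, b⟩ := hall_of_compl hM h
    refine ⟨fun p hp P hP => ?_, fun X h1 h2 h3 => (bg15_1c hM (h1.trans b.le) (b.pi.mono h1) h2 (a ▸ h3)).1, ?_⟩
    · haveI := Fact.mk hp
      exact syl_U hM b.le (b.pi.sub fun p a b => a (Or.inl b)) hP.le hP.pgroup
    · convert A_ti hM using 1
      ext x
      rw [Set.mem_diff, mem_A hM, A1_eq hM]
      exact and_congr_right fun a => not_congr ⟨fun b => b.1, fun b => ⟨b, a.2.1⟩⟩
  fusion M hM x hx g h := fusion_A0 hM hx h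
  supp M hM x hx h := supp_A0 hM hx h
  prime_core p hp hd := by
    obtain ⟨M, hM, h⟩ := exists_sigma hp hd
    exact ⟨M, hM, core_eq hM ▸ dvd_Sg hM h⟩
  core_cop M N hM hN h := by
    rw [core_eq hM, core_eq hN]
    exact (Sg_pi M).coprime (Sg_pi_ns hM hN h)
  tilde_disj M N hM hN h := by
    rw [A1_eq hM, A1_eq hN, tildeOf_eq hM, tildeOf_eq hN]
    exact bg14_5b hM hN h
  cover h g hg := by
    obtain ⟨M, hM, a⟩ := bg14_9a (fun M hM => (typeI_iff hM).1 (h M hM)) hg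
    exact ⟨M, hM, by rwa [A1_eq hM, tildeOf_eq hM]⟩

end

end Cfsg.Agent.MS
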