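import Cfsg.Agent.Lib.MS.Base

/-!
Hall subgroups, coprime action, ranks.
-/

set_option linter.unusedSectionVars false
set_option linter.unusedVariables false
set_option linter.style.haveILetI false
set_option linter.unusedSimpArgs false

namespace Cfsg.Agent.MS

open Subgroup Cfsg.Agent.Transfer

universe u
variable {G : Type u} [Group G] [Finite G]

/-- `H` is a Hall `π`-subgroup of `M` -/
def Hall (π : Set ℕ) (H M : Subgroup G) : Prop := IsPiHallOf π H M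

namespace Hall
variable {π ρ : Set ℕ} {A B H K M : Subgroup G} {p : ℕ}
theorem le (h : Hall π H M) : H ≤ M := h.1
theorem pi (h : Hall π H M) : IsPi π H := h.2.1
theorem nd (h : Hall π H M) (hp : p.Prime) (h1 : p ∈ π) : ¬ p ∣ H.relIndex M := h.2.2 p hp h1
theorem mk' (h1 : H ≤ M) (h2 : IsPi π H) (h3 : ∀ p, p.Prime → p ∈ π → ¬ p ∣ H.relIndex M) :
    Hall π H M := ⟨h1, h2, h3⟩
theorem self (h : IsPi π H) : Hall π H H := mk' le_rfl h fun p hp _ => by simpa using hp.one_lt.ne'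
theorem bot (h : IsPi πᶜ H) : Hall π ⊥ H := mk' bot_le .bot fun p hp h1 h2 =>
  h p hp (by simpa using h2) h1
theorem mono (h : Hall π H M) (h1 : H ≤ K) (h2 : K ≤ M) : Hall π H K :=
  mk' h1 h.pi fun p hp h3 h4 => h.nd hp h3 (h4.trans (Dvd.intro _ (relIndex_mul_relIndex H K M h1 h2)))
theorem trans (h : Hall π H K) (h1 : Hall ρ K M) (h2 : π ⊆ ρ) : Hall π H M :=
  mk' (h.le.trans h1.le) h.pi fun p hp h3 h4 => by
    rw [← relIndex_mul_relIndex H K M h.le h1.le] at h4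
    exact (hp.dvd_mul.1 h4).elim (h.nd hp h3) (h1.nd hp (h2 h3))
theorem trans' (h : Hall π H K) (h1 : Hall ρ K M) : Hall (π ∩ ρ) H M :=
  mk' (h.le.trans h1.le) (h.pi.inter (h1.pi.mono h.le)) fun p hp h3 h4 => by
    rw [← relIndex_mul_relIndex H K M h.le h1.le] at h4
    exact (hp.dvd_mul.1 h4).elim (h.nd hp h3.1) (h1.nd hp h3.2)
theorem congr (h : Hall π H M) (h1 : ∀ p, p.Prime → p ∣ #M → (p ∈ π ↔ p ∈ ρ)) : Hall ρ H M :=
  mk' h.le (fun p hp hd => (h1 p hp (hd.trans (card_dvd h.le))).1 (h.pi p hp hd)) fun p hp h2 h3 =>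
    h.nd hp ((h1 p hp (h3.trans (relIndex_dvd _ _))).2 h2) h3
theorem cj (h : Hall π H M) (g : G) : Hall π (cj g H) (cj g M) :=
  mk' (cj_mono g h.le) (h.pi.cj g) fun p hp h1 => relIndex_cj g H M ▸ h.nd hp h1
theorem cj_nn (h : Hall π H M) {g : G} (hg : g ∈ NN M) : Hall π (Transfer.cj g H) M :=
  MS.cj_nn hg ▸ h.cj g
theorem coprime (h : Hall π H M) : (#H).Coprime (H.relIndex M) := Solv.coprime_of_pi h.pi h.2.2
theorem dvd (h : Hall π H M) (hp : p.Prime) (h1 : p ∈ π) (h2 : p ∣ #M) : p ∣ #H :=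
  (dvd_card_or hp h.le h2).resolve_right (h.nd hp h1)
theorem card_dvd (h : Hall π H M) (h1 : A ≤ M) (h2 : IsPi π A) : #A ∣ #H :=
  (Solv.coprime_of_pi h2 h.2.2).dvd_of_dvd_mul_right (card_mul_relIndex h.le ▸ MS.card_dvd h1)
theorem card_eq (h : Hall π H M) (h1 : Hall π K M) : #H = #K :=
  Nat.dvd_antisymm (h1.card_dvd h.le h.pi) (h.card_dvd h1.le h1.pi)
theorem eq_of_le (h : Hall π H M) (h1 : K ≤ M) (h2 : IsPi π K) (h3 : H ≤ K) : K = H :=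
  (eq_of_card_le h3 (Nat.le_of_dvd (card_pos' _) (h.card_dvd h1 h2))).symm
theorem of_card (h : Hall π H M) (h1 : K ≤ M) (h2 : #K = #H) : Hall π K M :=
  mk' h1 (h.pi.of_card h2) fun p hp h3 => by
    have := (card_mul_relIndex h1).trans (card_mul_relIndex h.le).symm
    rw [h2, Nat.mul_left_cancel_iff (card_pos' _)] at this
    exact this ▸ h.nd hp h3
theorem of_card_le (h : Hall π H M) (h1 : K ≤ M) (h2 : IsPi π K) (h3 : #H ≤ #K) : Hall π K M :=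
  h.of_card h1 (le_antisymm (Nat.le_of_dvd (card_pos' _) (h.card_dvd h1 h2)) h3)
/-- a `π`-subgroup normalizing a Hall `π`-subgroup lies in it -/
theorem le_of_nn (h : Hall π H M) (h1 : A ≤ M) (h2 : IsPi π A) (h3 : A ≤ NN H) : A ≤ H :=
  (h.eq_of_le (sup_le h.le h1) (h.pi.sup_l h2 h3) le_sup_left) ▸ le_sup_right
theorem le_of_nn' (h : Hall π H M) (h1 : A ≤ M) (h2 : IsPi π A) (h3 : H ≤ NN A) : A ≤ H :=
  (h.eq_of_le (sup_le h.le h1) (h.pi.sup_r h2 h3) le_sup_left) ▸ le_sup_right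
theorem le_of_normal (h : Hall π H M) (h0 : M ≤ NN H) (h1 : A ≤ M) (h2 : IsPi π A) : A ≤ H :=
  h.le_of_nn h1 h2 (h1.trans h0)
theorem O_le (h : Hall π H M) : O π M ≤ H :=
  h.le_of_nn' (MS.O_le _ _) (O_pi _ _) (nn_O (nn_of_le h.le))
theorem eq_O (h : Hall π H M) (h0 : M ≤ NN H) : H = O π M := le_antisymm (le_O h.le h0 h.pi) h.O_le
theorem nn (h : Hall π H M) (h0 : M ≤ NN H) (h1 : A ≤ NN M) : A ≤ NN H := h.eq_O h0 ▸ nn_O h1
theorem inf_normal (h : Hall π H M) (h1 : K ≤ M) (h2 : M ≤ NN K) : Hall π (H ⊓ K) K :=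
  Solv.isPiHallOf_inf_normal h h1 h2
/-- a normal Hall subgroup meets every subgroup in a Hall subgroup -/
theorem normal_inf (h : Hall π H M) (h0 : M ≤ NN H) (h1 : K ≤ M) : Hall π (H ⊓ K) K :=
  mk' inf_le_right (h.pi.mono inf_le_left) fun p hp h2 h3 => h.nd hp h2
    (h3.trans (by rw [inf_relIndex_right]; exact relIndex_dvd_of_nn h.le h1 (h1.trans h0)))
theorem eq_bot_iff (h : Hall π H M) : H = ⊥ ↔ IsPi πᶜ M :=
  ⟨fun e p hp hd h1 => ne_bot_of_dvd hp (h.dvd hp h1 hd) e, fun h1 => h.pi.eq_bot (h1.mono h.le)⟩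
theorem eq_self (h : Hall π H M) (h1 : IsPi π M) : H = M := (h.eq_of_le le_rfl h1 h.le).symm
theorem map {G' : Type*} [Group G'] [Finite G'] (h : Hall π H M) (f : G →* G') : Hall π (H.map f) (M.map f) :=
  mk' (map_mono h.le) (h.pi.map f) fun p hp h1 h2 => h.nd hp h1 (h2.trans (by
    rw [relIndex_map_map, sup_comm M, ← inf_relIndex_right]
    have := relIndex_sup_of_le_normalizer (H := M) (N := f.ker) nn_normal
    have e : (H ⊔ f.ker).relIndex (f.ker ⊔ M) = (H ⊔ f.ker).relIndex M := by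
      refine ((Solv.relIndex_eq_iff_isProd le_sup_right).2 ?_).symm
      intro g hg
      obtain ⟨a, ha, b, hb, rfl⟩ := (mem_sup_r (nn_normal (H := f.ker))).1 (sup_comm M f.ker ▸ hg)
      exact ⟨a, ha, b, mem_sup_right hb, rfl⟩
    rw [inf_relIndex_right, e]
    exact relIndex_dvd_of_le_left M le_sup_left))
/-- a Hall `π`-subgroup and a Hall `π'`-subgroup have product `M` -/
theorem card_mul (h : Hall π H M) (h1 : Hall πᶜ K M) : #H * #K = #M := by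
  refine Nat.dvd_antisymm ((h.pi.coprime h1.pi).mul_dvd_of_dvd_of_dvd (MS.card_dvd h.le)
    (MS.card_dvd h1.le)) ?_
  rw [← card_mul_relIndex h.le]
  have e : H.relIndex M ∣ #K * K.relIndex M := by
    rw [card_mul_relIndex h1.le]; exact relIndex_dvd _ _
  refine Nat.mul_dvd_mul_left _ (Nat.Coprime.dvd_of_dvd_mul_right ?_ e)
  refine Nat.coprime_of_dvd fun q hq h2 h3 => ?_
  by_cases h4 : q ∈ π
  · exact h.nd hq h4 h2
  · exact h1.nd hq h4 h3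
theorem prod (h : Hall π H M) (h1 : Hall πᶜ K M) : Solv.IsProd M H K :=
  Solv.isProd_of_card_le h.le h1.le (by rw [h.pi.inf h1.pi, card_bot, mul_one, h.card_mul h1])
theorem sup (h : Hall π H M) (h1 : Hall πᶜ K M) : H ⊔ K = M :=
  le_antisymm (sup_le h.le h1.le) (h.prod h1).le_sup
/-- a complement of a normal Hall `π`-subgroup is a Hall `π'`-subgroup -/
theorem compl (h : Hall π H M) (h0 : K ≤ NN H) (h1 : H ⊔ K = M) (h2 : H ⊓ K = ⊥) : Hall πᶜ K M := by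
  have e := card_sup_l h0 h2
  rw [h1] at e
  have hK : K ≤ M := h1 ▸ le_sup_right
  have e1 : H.relIndex M = #K := Nat.eq_of_mul_eq_mul_left (card_pos' H) (by rw [card_mul_relIndex h.le, e])
  have e2 : K.relIndex M = #H := Nat.eq_of_mul_eq_mul_left (card_pos' K)
    (by rw [card_mul_relIndex hK, e, mul_comm])
  exact mk' hK (fun p hp hd h3 => h.nd hp h3 (e1 ▸ hd)) fun p hp h3 h4 => h3 (h.pi p hp (e2 ▸ h4))
theorem of_sup (h1 : IsPi π H) (h2 : IsPi πᶜ K) (h : K ≤ NN H) : Hall π H (H ⊔ K) :=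
  mk' le_sup_left h1 fun p hp h3 h4 => h2 p hp (h4.trans (relIndex_sup_l h ▸ relIndex_dvd _ _)) h3
theorem of_sup' (h1 : IsPi π H) (h2 : IsPi πᶜ K) (h : H ≤ NN K) : Hall π H (H ⊔ K) :=
  mk' le_sup_left h1 fun p hp h3 h4 => h2 p hp (h4.trans (Comp.relIndex_sup_dvd_card h)) h3
/-- `H K` is a Hall `π ∪ ρ`-subgroup -/
theorem sup_union (h : Hall π H M) (h1 : Hall ρ K M) (h2 : K ≤ NN H) : Hall (π ∪ ρ) (H ⊔ K) M :=
  mk' (sup_le h.le h1.le) ((h.pi.sub Set.subset_union_left).sup_l (h1.pi.sub Set.subset_union_right) h2)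
    fun p hp h3 h4 => h3.elim (fun h5 => h.nd hp h5 (h4.trans (relIndex_dvd_of_le_left M le_sup_left)))
      fun h5 => h1.nd hp h5 (h4.trans (relIndex_dvd_of_le_left M le_sup_right))
theorem syl [hp : Fact p.Prime] (h : Hall {p} H M) : IsSyl p H M :=
  ⟨h.le, pg_of_pi h.pi, h.nd hp.out rfl⟩
theorem syl_trans [hp : Fact p.Prime] (h : Hall π H M) (h1 : IsSyl p A H) (h2 : p ∈ π) : IsSyl p A M :=
  h1.trans h.le (h.nd hp.out h2)
theorem relIndex_pi (h : Hall π H M) : ∀ p, p.Prime → p ∣ H.relIndex M → p ∈ πᶜ :=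
  fun p hp h1 h2 => h.nd hp h2 h1
end Hall

section
variable {π ρ : Set ℕ} {A B H K M P : Subgroup G} {p : ℕ}

theorem hall_of_syl [hp : Fact p.Prime] (h : IsSyl p P M) : Hall {p} P M :=
  .mk' h.le (pi1_of_pg h.pgroup) fun q _ e => e ▸ h.not_dvd
theorem hall_of_coprime (h : H ≤ M) (h1 : (#H).Coprime (H.relIndex M)) : Hall {q | q ∣ #H} H M :=
  Solv.isPiHallOf_of_coprime h h1
theorem hall_of_syls (h : H ≤ M) (h1 : IsPi π H)
    (h2 : ∀ p, p.Prime → p ∈ π → p ∣ #M → ∃ P, IsSyl p P M ∧ P ≤ H) : Hall π H M :=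
  .mk' h h1 fun p hp h3 h4 => by
    obtain ⟨P, h5, h6⟩ := h2 p hp h3 (h4.trans (relIndex_dvd _ _))
    exact h5.not_dvd (h4.trans (relIndex_dvd_of_le_left M h6))
theorem exists_hall_ge (hM : Group.IsSolvable M) (h1 : A ≤ M) (h2 : IsPi π A) :
    ∃ H, Hall π H M ∧ A ≤ H := Solv.exists_isPiHallOf_ge hM h1 h2
theorem exists_hall (hM : Group.IsSolvable M) (π : Set ℕ) : ∃ H, Hall π H M :=
  Solv.exists_isPiHallOf hM π
theorem Hall.conj (hM : Group.IsSolvable M) (h : Hall π H M) (h1 : Hall π K M) :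
    ∃ g ∈ M, Transfer.cj g H = K := by
  simpa only [cj_eq_smul] using Solv.isPiHallOf_conj hM h h1
theorem Hall.exists_cj_le (hM : Group.IsSolvable M) (h : Hall π H M) (h1 : A ≤ M) (h2 : IsPi π A) :
    ∃ g ∈ M, Transfer.cj g A ≤ H := by
  obtain ⟨K, h3, h4⟩ := exists_hall_ge hM h1 h2
  obtain ⟨g, h5, h6⟩ := h3.conj hM h
  exact ⟨g, h5, h6 ▸ cj_mono g h4⟩
theorem Hall.frattini (hM : Group.IsSolvable K) (h : Hall π H K) (h1 : K ≤ M) (h2 : M ≤ NN K) :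
    K ⊔ (M ⊓ NN H) = M := by
  refine le_antisymm (sup_le h1 inf_le_left) fun g hg => ?_
  obtain ⟨k, h3, h4⟩ := Solv.isPiHallOf_frattini_elt hM h (h2 hg)
  rw [← mul_inv_cancel_left k g]
  exact mul_mem (mem_sup_left h3) (mem_sup_right (mem_inf.2 ⟨M.mul_mem (M.inv_mem (h1 h3)) hg, h4⟩))
theorem frattini [Fact p.Prime] (h : IsSyl p P K) (h1 : K ≤ M) (h2 : M ≤ NN K) :
    K ⊔ (M ⊓ NN P) = M := by
  refine le_antisymm (sup_le h1 inf_le_left) fun g hg => ?_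
  obtain ⟨k, h3, n, h4, rfl⟩ := h.frattini (h2 hg)
  exact mul_mem (mem_sup_left h3) (mem_sup_right (mem_inf.2
    ⟨by simpa using M.mul_mem (M.inv_mem (h1 h3)) hg, h4⟩))
theorem nil_hall (h : Group.IsNilpotent H) (π : Set ℕ) : Hall π (O π H) H := by
  have := Hall.of_sup (O_pi π H) (O_pi πᶜ H) (nn_O (nn_of_le (O_le _ _)))
  rwa [nil_O_sup h π] at this
theorem nil_syl [Fact p.Prime] (h : Group.IsNilpotent H) : IsSyl p (O {p} H) H := (nil_hall h _).syl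
theorem nil_hall_nn (h : Group.IsNilpotent H) (h1 : Hall π K H) : H ≤ NN K :=
  (h1.eq_of_le (O_le _ _) (O_pi _ _) (nil_le_O h h1.le h1.pi)) ▸ nn_O (le_nn H)
theorem nil_hall_eq (h : Group.IsNilpotent H) (h1 : Hall π K H) : K = O π H := h1.eq_O (nil_hall_nn h h1)
theorem nil_syl_nn [Fact p.Prime] (h : Group.IsNilpotent H) (h1 : IsSyl p K H) : H ≤ NN K :=
  nil_hall_nn h (hall_of_syl h1)
theorem syl_eq_O [Fact p.Prime] (h1 : IsSyl p K H) (h : H ≤ NN K) : K = O {p} H :=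
  (hall_of_syl h1).eq_O h
theorem syl_nn [Fact p.Prime] (h1 : IsSyl p K H) (h : H ≤ NN K) (h2 : A ≤ NN H) : A ≤ NN K :=
  (hall_of_syl h1).nn h h2
theorem O_le_syl [Fact p.Prime] (h1 : IsSyl p K H) : O {p} H ≤ K := (hall_of_syl h1).O_le
theorem syl_ne_bot [Fact p.Prime] (h : IsSyl p P H) (h1 : p ∣ #H) : P ≠ ⊥ := fun e => h.eq_bot_iff.1 e h1
theorem syl_of_nn [Fact p.Prime] (h1 : P ≤ H) (h : IsSyl p P (H ⊓ NN P)) : IsSyl p P H :=
  (Solv.IsSylowIn.of_normalizer h1 (inf_comm H _ ▸ Solv.isSylowIn_of_syl h)).toSyl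
theorem nil_of_syls (h : ∀ p : ℕ, p.Prime → p ∣ #H → ∃ P, IsSyl p P H ∧ H ≤ NN P) :
    Group.IsNilpotent H := Solv.isNilpotent_of_forall_sylowIn fun p hp hd =>
  (h p hp hd).imp fun P h => ⟨Solv.isSylowIn_of_syl h.1, h.2⟩
/-- Schur–Zassenhaus -/
theorem exists_compl (h : Hall π H M) (h1 : M ≤ NN H) : ∃ K, H ⊔ K = M ∧ H ⊓ K = ⊥ := by
  obtain ⟨B, -, h2, h3, -⟩ := Solv.sz_exists_internal h.le h1 h.coprime
  exact ⟨B, h3, h2⟩
theorem isComplIn_iff (h : B ≤ NN A) : IsComplIn A B M ↔ A ⊔ B = M ∧ A ⊓ B = ⊥ :=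
  ⟨fun ⟨h1, h2, h3, h4⟩ => ⟨le_antisymm (sup_le h1 h2) fun m hm => (mem_sup_l h).2 (h4 m hm), h3⟩,
   fun ⟨h1, h2⟩ => ⟨h1 ▸ le_sup_left, h1 ▸ le_sup_right, h2, fun m hm => (mem_sup_l h).1 (h1 ▸ hm)⟩⟩
theorem isComplIn_iff' (h : A ≤ NN B) : IsComplIn A B M ↔ A ⊔ B = M ∧ A ⊓ B = ⊥ :=
  ⟨fun ⟨h1, h2, h3, h4⟩ => ⟨le_antisymm (sup_le h1 h2) fun m hm => (mem_sup_r h).2 (h4 m hm), h3⟩,
   fun ⟨h1, h2⟩ => ⟨h1 ▸ le_sup_left, h1 ▸ le_sup_right, h2, fun m hm => (mem_sup_r h).1 (h1 ▸ hm)⟩⟩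

/-! ### coprime action (BG 1.5, 1.6, 1.10, 1.16) -/

theorem cop_hall (hA : A ≤ NN K) (hc : (#A).Coprime #K) (hs : Group.IsSolvable K) (π : Set ℕ) :
    ∃ H, Hall π H K ∧ A ≤ NN H := Solv.coprime_exists_isPiHallOf hA hc hs π
theorem cop_hall_conj (hA : A ≤ NN K) (hc : (#A).Coprime #K) (hs : Group.IsSolvable K)
    (h1 : Hall π H K) (h2 : Hall π B K) (h3 : A ≤ NN H) (h4 : A ≤ NN B) :
    ∃ c ∈ K ⊓ CC A, cj c H = B := by
  simpa only [cj_eq_smul] using Solv.coprime_isPiHallOf_conj hA hc hs h1 h2 h3 h4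
theorem cop_syl_ge [Fact p.Prime] (hA : A ≤ NN K) (hc : (#A).Coprime #K) (hs : Group.IsSolvable K)
    (h1 : B ≤ K) (h2 : IsPGroup p B) (h3 : A ≤ NN B) : ∃ P, IsSyl p P K ∧ B ≤ P ∧ A ≤ NN P := by
  obtain ⟨P, h4, h5⟩ := Solv.coprime_exists_sylowIn_ge hA hc (.inr hs) h1 h2 h3
  exact ⟨P, h4.toSyl, h5⟩
theorem cop_syl (p : ℕ) [Fact p.Prime] (hA : A ≤ NN K) (hc : (#A).Coprime #K)
    (hs : Group.IsSolvable K) : ∃ P, IsSyl p P K ∧ A ≤ NN P := by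
  obtain ⟨P, h4, -, h5⟩ := cop_syl_ge (p := p) hA hc hs bot_le IsPGroup.of_bot nn_bot
  exact ⟨P, h4, h5⟩
theorem cop_syl_conj [Fact p.Prime] (hA : A ≤ NN K) (hc : (#A).Coprime #K) (hs : Group.IsSolvable K)
    (h1 : IsSyl p H K) (h2 : IsSyl p B K) (h3 : A ≤ NN H) (h4 : A ≤ NN B) :
    ∃ c ∈ K ⊓ CC A, cj c H = B := cop_hall_conj hA hc hs (hall_of_syl h1) (hall_of_syl h2) h3 h4
theorem cop_comm_sup (hA : A ≤ NN K) (hc : (#A).Coprime #K) (hs : Group.IsSolvable K) :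
    ⁅K, A⁆ ⊔ (K ⊓ CC A) = K := Solv.coprime_commutator_sup_centralizer hA hc (.inr hs)
theorem cop_comm_comm (hA : A ≤ NN K) (hc : (#A).Coprime #K) (hs : Group.IsSolvable K) :
    ⁅⁅K, A⁆, A⁆ = ⁅K, A⁆ := Solv.coprime_commutator_commutator hA hc (.inr hs)
theorem cop_sup_cc (h1 : H ≤ K) (h2 : K ≤ NN H) (h3 : A ≤ NN H) (hc : (#A).Coprime #H)
    (hs : Group.IsSolvable H) (h : ⁅K, A⁆ ≤ H) : H ⊔ (K ⊓ CC A) = K :=
  Solv.coprime_sup_centralizer_of_commutator_le h1 h2 h3 hc (.inr hs) h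
theorem cop_stable (hc : (#A).Coprime #H) (h1 : ⁅K, A⁆ ≤ H) (h2 : A ≤ CC H) : A ≤ CC K :=
  Solv.coprime_le_centralizer_of_commutator_le hc h1 h2
theorem cop_ab_inf (hK : IsMulCommutative K) (hA : A ≤ NN K) (hc : (#A).Coprime #K) :
    (K ⊓ CC A) ⊓ ⁅K, A⁆ = ⊥ := Solv.coprime_abelian_inf_eq_bot hK hA hc
theorem cop_nil_cc (hK : Group.IsNilpotent K) (hA : A ≤ NN K) (hc : (#A).Coprime #K)
    (h : K ⊓ CC (K ⊓ CC A) ≤ CC A) : A ≤ CC K :=
  Solv.coprime_le_centralizer_of_self_centralizing hK hA hc h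
theorem cop_gen (hA : IsMulCommutative A) (hnc : ¬ IsCyclic A) (hAK : A ≤ NN K)
    (hc : (#A).Coprime #K) (h : ∀ a ∈ A, a ≠ 1 → K ⊓ C1 a ≤ H) : K ≤ H :=
  Solv.le_of_forall_centralizer_le hA hnc hAK hc h
theorem cop_comm_eq (hA : A ≤ NN K) (hc : (#A).Coprime #K) (hs : Group.IsSolvable K)
    (h : K ⊓ CC A = ⊥) : ⁅K, A⁆ = K := by
  simpa [h] using cop_comm_sup hA hc hs

/-- an `A`-invariant `π`-subgroup lies in an `A`-invariant Hall `π`-subgroup -/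
theorem cop_hall_ge (hA : A ≤ NN K) (hc : (#A).Coprime #K) (hs : Group.IsSolvable K)
    (hsA : Group.IsSolvable A) (h1 : B ≤ K) (h2 : IsPi π B) (h3 : A ≤ NN B) :
    ∃ H, Hall π H K ∧ B ≤ H ∧ A ≤ NN H := by
  set ρ := {p | p ∣ #A}
  have hK : IsPi ρᶜ K := pi_of_coprime hc.symm
  obtain ⟨L, h4, h5⟩ := exists_hall_ge (sol_sup_l hs hsA hA) (π := (π ∩ ρᶜ) ∪ ρ)
    (sup_le_sup_right h1 A) (((h2.inter (hK.mono h1)).sub Set.subset_union_left).sup_l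
      ((isPi_self A).sub Set.subset_union_right) h3)
  have h6 := h4.inf_normal le_sup_left (sup_le (le_nn K) hA)
  refine ⟨L ⊓ K, h6.congr fun p hp hd => ?_, le_inf (le_sup_left.trans h5) h1,
    nn_inf (nn_of_le (le_sup_right.trans h5)) hA⟩
  have := hK p hp hd
  simp only [Set.mem_union, Set.mem_inter_iff, Set.mem_compl_iff] at this ⊢
  tauto
end

/-! ### elementary abelian subgroups and ranks -/

/-- `A ∈ ℰ_p^n(H)` -/
structure El (p n : ℕ) (A H : Subgroup G) : Prop where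
  le : A ≤ H
  elem : IsElementaryAbelian p A
  card : #A = p ^ n

/-- `r_p(H) ≥ n` -/
def Rk (p n : ℕ) (H : Subgroup G) : Prop := ∃ A, El p n A H

/-- `r(H) ≥ n` -/
def RkA (n : ℕ) (H : Subgroup G) : Prop := ∃ p : ℕ, p.Prime ∧ Rk p n H

/-- `A ∈ ℰ_p^*(H)` -/
structure MaxEl (p : ℕ) (A H : Subgroup G) : Prop where
  le : A ≤ H
  elem : IsElementaryAbelian p A
  max : ∀ B ≤ H, IsElementaryAbelian p B → A ≤ B → B = A

section
variable {π : Set ℕ} {A B H K P : Subgroup G} {p n m : ℕ}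

theorem El.mono (h : El p n A H) (h1 : H ≤ K) : El p n A K := ⟨h.le.trans h1, h.elem, h.card⟩
theorem El.of_le (h : El p n A H) (h1 : A ≤ K) : El p n A K := ⟨h1, h.elem, h.card⟩
theorem El.self (h : El p n A H) : El p n A A := h.of_le le_rfl
theorem El.pg (h : El p n A H) : IsPGroup p A := elem_isPGroup h.elem
theorem El.ab (h : El p n A H) : IsMulCommutative A := h.elem.1
theorem El.cc (h : El p n A H) : A ≤ CC A := ab_cc h.ab
theorem El.rk (h : El p n A H) : Rk p n H := ⟨A, h⟩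
theorem El.cj (h : El p n A H) (g : G) : El p n (cj g A) (cj g H) :=
  ⟨cj_mono g h.le, elem_cj h.elem g, (card_cj g A).trans h.card⟩
theorem El.ne_bot [hp : Fact p.Prime] (h : El p (n + 1) A H) : A ≠ ⊥ :=
  ne_bot_of_dvd hp.out (h.card ▸ dvd_pow_self p n.succ_ne_zero)
theorem El.not_cyc [hp : Fact p.Prime] (h : El p (n + 2) A H) : ¬ IsCyclic A :=
  Comp.IsElementaryAbelian.not_isCyclic h.elem
    (h.card ▸ Nat.pow_le_pow_right hp.out.pos (Nat.le_add_left 2 n))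
theorem El.dvd (h : El p (n + 1) A H) : p ∣ #H :=
  (h.card ▸ dvd_pow_self p n.succ_ne_zero : p ∣ #A).trans (card_dvd h.le)
theorem el_one [hp : Fact p.Prime] (h1 : A ≤ H) (h2 : #A = p) : El p 1 A H :=
  ⟨h1, ⟨ab_of_cyc (prime_cyc (h2 ▸ hp.out)), fun a ha => h2 ▸ Solv.pow_card_eq_one_of_mem ha⟩,
    by rw [h2, pow_one]⟩
theorem El.card1 (h : El p 1 A H) : #A = p := h.card.trans (pow_one p)
theorem elem_exists_el [hp : Fact p.Prime] (h : IsElementaryAbelian p A) : ∃ n, El p n A A := by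
  obtain ⟨n, hn⟩ := (elem_isPGroup h).exists_card_eq
  exact ⟨n, le_rfl, h, hn⟩
theorem elem_sub [hp : Fact p.Prime] (h : IsElementaryAbelian p A) (h1 : B ≤ A) {k : ℕ}
    (h2 : #B = p ^ k) (h3 : k ≤ n) (h4 : p ^ n ≤ #A) : ∃ C, El p n C A ∧ B ≤ C := by
  obtain ⟨K, h5, h6, h7, -⟩ := Solv.exists_normal_between_card (nil_of_ab h.1) (elem_isPGroup h)
    le_rfl (le_nn A) (ab_nn h.1 le_rfl h1) h1 (n - k) (by rwa [h2, ← pow_add, Nat.add_sub_cancel' h3])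
  exact ⟨K, ⟨h6, elem_mono h h6, by rw [h7, h2, ← pow_add, Nat.add_sub_cancel' h3]⟩, h5⟩
theorem rk_of_elem [hp : Fact p.Prime] (h : IsElementaryAbelian p A) (h1 : A ≤ H) (h2 : p ^ n ≤ #A) :
    Rk p n H := by
  obtain ⟨C, h3, -⟩ := elem_sub h bot_le (k := 0) (by simp) n.zero_le h2
  exact ⟨C, h3.mono h1⟩
theorem Rk.mono (h : Rk p n H) (h1 : H ≤ K) : Rk p n K := h.imp fun _ h => h.mono h1
theorem Rk.anti [hp : Fact p.Prime] (h : Rk p n H) (h1 : m ≤ n) : Rk p m H := by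
  obtain ⟨A, h⟩ := h
  exact rk_of_elem h.elem h.le (h.card ▸ Nat.pow_le_pow_right hp.out.pos h1)
theorem Rk.cj (h : Rk p n H) (g : G) : Rk p n (cj g H) := by
  obtain ⟨A, h⟩ := h; exact ⟨_, h.cj g⟩
theorem rk_cj {g : G} : Rk p n (cj g H) ↔ Rk p n H :=
  ⟨fun h => cj_inv_cj g H ▸ h.cj g⁻¹, fun h => h.cj g⟩
theorem Rk.dvd (h : Rk p (n + 1) H) : p ∣ #H := by obtain ⟨A, h⟩ := h; exact h.dvd
theorem rk_one [hp : Fact p.Prime] : Rk p 1 H ↔ p ∣ #H :=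
  ⟨Rk.dvd, fun h => (exists_card_eq hp.out h).imp fun _ h => el_one h.1 h.2⟩
theorem Rk.rkA [hp : Fact p.Prime] (h : Rk p n H) : RkA n H := ⟨p, hp.out, h⟩
theorem RkA.mono (h : RkA n H) (h1 : H ≤ K) : RkA n K := h.imp fun _ h => ⟨h.1, h.2.mono h1⟩
theorem RkA.anti (h : RkA n H) (h1 : m ≤ n) : RkA m H :=
  h.imp fun _ h => ⟨h.1, haveI := Fact.mk h.1; h.2.anti h1⟩
theorem RkA.cj (h : RkA n H) (g : G) : RkA n (cj g H) := h.imp fun _ h => ⟨h.1, h.2.cj g⟩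
theorem Rk.syl [hp : Fact p.Prime] (h : Rk p n H) (h1 : IsSyl p P H) : Rk p n P := by
  obtain ⟨A, h⟩ := h
  obtain ⟨g, -, h2⟩ := h1.exists_cj_le h.pg h.le
  exact ⟨_, (h.cj g).of_le h2⟩
theorem Rk.hall [hp : Fact p.Prime] (h : Rk p n H) (h1 : Hall π K H) (h2 : p ∈ π) : Rk p n K := by
  obtain ⟨P, hP⟩ := exists_isSyl p K
  exact (h.syl (h1.syl_trans hP h2)).mono hP.le
theorem RkA.pg [hp : Fact p.Prime] (h : RkA (n + 1) H) (h1 : IsPGroup p H) : Rk p (n + 1) H := by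
  obtain ⟨q, hq, h⟩ := h
  exact Solv.eq_of_isPGroup_of_dvd h1 hq h.dvd ▸ h
theorem prankLE_iff [hp : Fact p.Prime] : PRankLE p n H ↔ ¬ Rk p (n + 1) H := by
  rw [pRankLE_sub_iff]
  refine ⟨fun h ⟨A, h1⟩ => ?_, fun h A h1 h2 => ?_⟩
  · have := h A h1.le h1.elem
    rw [h1.card, Nat.pow_le_pow_iff_right hp.out.one_lt] at this; omega
  · obtain ⟨k, hk⟩ := elem_exists_el h2
    rw [hk.card, Nat.pow_le_pow_iff_right hp.out.one_lt]
    by_contra h3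
    exact h (((hk.mono h1).rk).anti (by omega))
theorem rankLE_iff : RankLE n H ↔ ¬ RkA (n + 1) H :=
  ⟨fun h ⟨p, hp, h1⟩ => haveI := Fact.mk hp; prankLE_iff.1 (h p hp) h1,
   fun h p hp => haveI := Fact.mk hp; prankLE_iff.2 fun h1 => h ⟨p, hp, h1⟩⟩
theorem prankLE_top [hp : Fact p.Prime] : PRankLE p n G ↔ ¬ Rk p (n + 1) (⊤ : Subgroup G) := by
  rw [← prankLE_iff, pRankLE_congr topEquiv]
theorem card_le_of_not_rk [hp : Fact p.Prime] (h : ¬ Rk p (n + 1) H) (h1 : A ≤ H)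
    (h2 : IsElementaryAbelian p A) : #A ≤ p ^ n := pRankLE_sub_iff.1 (prankLE_iff.2 h) A h1 h2
theorem El.eq_of_not_rk [hp : Fact p.Prime] (h : El p n A H) (h1 : ¬ Rk p (n + 1) H) (h2 : B ≤ H)
    (h3 : IsElementaryAbelian p B) (h4 : A ≤ B) : B = A :=
  (eq_of_card_le h4 (h.card ▸ card_le_of_not_rk h1 h2 h3)).symm
theorem El.maxEl [hp : Fact p.Prime] (h : El p n A H) (h1 : ¬ Rk p (n + 1) H) : MaxEl p A H :=
  ⟨h.le, h.elem, fun B h2 h3 h4 => h.eq_of_not_rk h1 h2 h3 h4⟩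
theorem rk2_of_not_cyc [hp : Fact p.Prime] (hp2 : p ≠ 2) (h : IsPGroup p P) (h1 : ¬ IsCyclic P) :
    Rk p 2 P := by
  obtain ⟨E, h2, h3, h4, h5, -⟩ := Solv.exists_normal_elementary_sq hp2 (nil_of_pg h) h le_rfl (le_nn P) h1
  exact ⟨E, h2, ⟨h4, h5⟩, h3⟩
/-- BG 4.5(a) -/
theorem exists_normal_el2 [hp : Fact p.Prime] (hp2 : p ≠ 2) (h : IsPGroup p P) (h0 : H ≤ P)
    (h1 : P ≤ NN H) (h2 : ¬ IsCyclic H) : ∃ E, El p 2 E H ∧ P ≤ NN E := by
  obtain ⟨E, h2, h3, h4, h5, h6⟩ :=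
    Solv.exists_normal_elementary_sq hp2 (nil_of_pg h) (h.to_le h0) h0 h1 h2
  exact ⟨E, ⟨h2, ⟨h4, h5⟩, h3⟩, h6⟩
theorem cyc_of_not_rk2 [hp : Fact p.Prime] (hp2 : p ≠ 2) (h : IsPGroup p P) (h1 : ¬ Rk p 2 P) :
    IsCyclic P := by_contra fun h2 => h1 (rk2_of_not_cyc hp2 h h2)
theorem not_rk2_of_cyc [hp : Fact p.Prime] (h : IsCyclic H) : ¬ Rk p 2 H :=
  fun ⟨A, h1⟩ => h1.not_cyc (cyc_mono h h1.le)
theorem not_rkA2_of_cyc (h : IsCyclic H) : ¬ RkA 2 H :=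
  fun ⟨p, hp, h1⟩ => haveI := Fact.mk hp; not_rk2_of_cyc h h1
theorem elem_not_cyc [hp : Fact p.Prime] (h : IsElementaryAbelian p A) (h1 : ¬ IsCyclic A) :
    Rk p 2 A := by
  obtain ⟨n, hn⟩ := elem_exists_el h
  match n with
  | 0 => exact absurd (card_eq_one.1 (by simpa using hn.card) ▸ cyc_bot) h1
  | 1 => exact absurd (prime_cyc (hn.card1 ▸ hp.out)) h1
  | n + 2 => exact hn.rk.anti (by omega)
theorem exists_maxEl (h : IsElementaryAbelian p A) (h1 : A ≤ H) : ∃ B, MaxEl p B H ∧ A ≤ B := by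
  obtain ⟨B, h2, h3, h4⟩ := Solv.exists_maximal_ge (P := fun B => B ≤ H ∧ IsElementaryAbelian p B) ⟨h1, h⟩
  exact ⟨B, ⟨h3.1, h3.2, fun C h5 h6 h7 => h4 C ⟨h5, h6⟩ h7⟩, h2⟩
theorem MaxEl.mono (h : MaxEl p A H) (h1 : A ≤ K) (h2 : K ≤ H) : MaxEl p A K :=
  ⟨h1, h.elem, fun B h3 => h.max B (h3.trans h2)⟩
theorem MaxEl.cj (h : MaxEl p A H) (g : G) : MaxEl p (cj g A) (cj g H) :=
  ⟨cj_mono g h.le, elem_cj h.elem g, fun B h1 h2 h3 => by
    rw [← h.max (Transfer.cj g⁻¹ B) (le_cj_iff_cj_inv_le.1 h1) (elem_cj h2 _)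
      (cj_le_iff_le_cj_inv.1 h3), cj_cj_inv]⟩
theorem MaxEl.mem (h : MaxEl p A H) {x : G} (h1 : x ∈ H) (h2 : x ∈ CC A) (h3 : x ^ p = 1) : x ∈ A :=
  h.max _ (sup_le h.le (zpowers_le.2 h1)) (elem_sup_zpowers h.elem h2 h3) le_sup_left ▸
    mem_sup_right (mem_zpowers x)
theorem MaxEl.le_of (h : MaxEl p A H) (h1 : B ≤ H) (h2 : B ≤ CC A) (h3 : IsElementaryAbelian p B) :
    B ≤ A := fun x hx => h.mem (h1 hx) (h2 hx) (h3.2 x hx)
theorem maxEl_of_mem (h0 : A ≤ H) (h : IsElementaryAbelian p A)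
    (h1 : ∀ x ∈ H, x ∈ CC A → x ^ p = 1 → x ∈ A) : MaxEl p A H :=
  ⟨h0, h, fun B h2 h3 h4 => le_antisymm (fun x hx => h1 x (h2 hx) (ab_le_cc h3.1 le_rfl h4 hx)
    (h3.2 x hx)) h4⟩
/-- if `A ∈ ℰ²` is not maximal then its centralizer has rank at least three -/
theorem El.rk_succ [hp : Fact p.Prime] (h : El p n A H) (h1 : ¬ MaxEl p A H) :
    Rk p (n + 1) (H ⊓ CC A) := by
  by_contra h2
  exact h1 ⟨h.le, h.elem, fun B h3 h4 h5 => (h.of_le (le_inf h.le h.cc)).eq_of_not_rk h2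
    (le_inf h3 (ab_le_cc h4.1 le_rfl h5)) h4 h5⟩
theorem El.sup [hp : Fact p.Prime] (h : El p n A H) (h1 : El p m B H) (h2 : A ≤ CC B)
    (h3 : A ⊓ B = ⊥) : El p (n + m) (A ⊔ B) H :=
  ⟨sup_le h.le h1.le, elem_sup h.elem h1.elem h2, by
    rw [card_sup_r (nn_of_cc h2) h3, h.card, h1.card, pow_add]⟩
theorem El.eq_of_le (h : El p n A H) (h1 : El p n B K) (h2 : A ≤ B) : A = B :=
  eq_of_card_le h2 (by rw [h.card, h1.card])
/-- two distinct lines span a plane -/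
theorem El.sup_lines [hp : Fact p.Prime] (h : El p 2 A H) {X Y : Subgroup G} (h1 : X ≤ A) (h2 : Y ≤ A)
    (h3 : #X = p) (h4 : #Y = p) (h5 : X ≠ Y) : X ⊔ Y = A :=
  (El.sup (el_one h1 h3) (el_one h2 h4) (ab_le_cc h.ab h1 h2) (prime_inf (h3 ▸ hp.out) fun h6 =>
    h5 (eq_of_card_le h6 (by rw [h3, h4])))).eq_of_le h (sup_le h1 h2)
theorem El.line_or [hp : Fact p.Prime] (h : El p 2 A H) (h1 : B ≤ A) : B = ⊥ ∨ #B = p ∨ B = A := by
  obtain ⟨k, h2, h3⟩ := (Nat.dvd_prime_pow hp.out).1 (h.card ▸ card_dvd h1)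
  interval_cases k
  · exact .inl (card_eq_one.1 (by simpa using h3))
  · exact .inr (.inl (by simpa using h3))
  · exact .inr (.inr (eq_of_card_le h1 (by rw [h3, h.card])))
theorem El.exists_line [hp : Fact p.Prime] (h : El p 2 A H) (h1 : #B = p) :
    ∃ X ≤ A, #X = p ∧ X ≠ B := by
  obtain ⟨X, h2, Y, h3, h4, h5, h6⟩ := Solv.exists_two_subgroups_of_card_sq hp.out h.card h.elem.2
  by_cases e : X = B
  · exact ⟨Y, h3, h5, fun e' => h6 (e.trans e'.symm)⟩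
  · exact ⟨X, h2, h4, e⟩
theorem El.card_zpowers [hp : Fact p.Prime] (h : El p n A H) {x : G} (h1 : x ∈ A) (h2 : x ≠ 1) :
    #(zpowers x) = p := by
  rw [Nat.card_zpowers]; exact Comp.IsElementaryAbelian.orderOf_eq h.elem h1 h2

theorem omega_le (p : ℕ) (H : Subgroup G) : omegaOne p H ≤ H := (closure_le _).2 fun _ h => h.1
theorem mem_omega {x : G} (h1 : x ∈ H) (h2 : x ^ p = 1) : x ∈ omegaOne p H := subset_closure ⟨h1, h2⟩
theorem le_omega (h1 : A ≤ H) (h2 : IsElementaryAbelian p A) : A ≤ omegaOne p H :=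
  fun x hx => mem_omega (h1 hx) (h2.2 x hx)
theorem omega_le_iff : omegaOne p H ≤ K ↔ ∀ x ∈ H, x ^ p = 1 → x ∈ K :=
  ⟨fun h x h1 h2 => h (mem_omega h1 h2), fun h => (closure_le _).2 fun x hx => h x hx.1 hx.2⟩
theorem omega_mono (h : H ≤ K) : omegaOne p H ≤ omegaOne p K :=
  omega_le_iff.2 fun x h1 h2 => mem_omega (h h1) h2
theorem omega_elem (h : IsMulCommutative H) : IsElementaryAbelian p (omegaOne p H) :=
  ⟨ab_mono h (omega_le _ _), fun x hx =>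
    ((omega_le_iff (K := Solv.omegaAb p H h)).2 (fun x h1 h2 => ⟨h1, h2⟩) hx).2⟩
theorem omega_ne_bot [hp : Fact p.Prime] (h : p ∣ #H) : omegaOne p H ≠ ⊥ := by
  obtain ⟨X, h1, h2⟩ := exists_card_eq hp.out h
  exact fun e => prime_ne_bot (h2 ▸ hp.out) (le_bot_iff.1 (e ▸ le_omega h1 (el_one h1 h2).elem))
theorem omega_cyc [hp : Fact p.Prime] (h : IsCyclic H) (h1 : p ∣ #H) : #(omegaOne p H) = p := by
  obtain ⟨n, hn⟩ := elem_exists_el (omega_elem (p := p) (ab_of_cyc h))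
  match n with
  | 0 => exact absurd (card_eq_one.1 (by simpa using hn.card)) (omega_ne_bot h1)
  | 1 => exact hn.card1
  | n + 2 => exact absurd (cyc_mono h (omega_le _ _)) hn.not_cyc
theorem rk_omega (h : Rk p n H) : Rk p n (omegaOne p H) :=
  h.imp fun A h => h.of_le (le_omega h.le h.elem)
theorem MaxEl.omega (h : MaxEl p A H) : omegaOne p (H ⊓ CC A) = A :=
  le_antisymm (omega_le_iff.2 fun x h1 => h.mem h1.1 h1.2) (le_omega (le_inf h.le (ab_cc h.elem.1)) h.elem)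
theorem cj_omega (g : G) : cj g (omegaOne p H) = omegaOne p (cj g H) := by
  have h : ∀ (g : G) (H : Subgroup G), cj g (omegaOne p H) ≤ omegaOne p (cj g H) := fun g H =>
    cj_le_iff_le_cj_inv.2 (omega_le_iff.2 fun x h1 h2 => mem_cj.2 (mem_omega
      (by simpa using conj_mem_cj (g := g) h1) (by simp [conj_pow, h2])))
  refine le_antisymm (h g H) (le_cj_iff_cj_inv_le.2 ?_)
  simpa only [cj_inv_cj] using h g⁻¹ (cj g H)

/-- a nilpotent group of odd order and rank one is cyclic -/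
theorem nil_cyc (h : Group.IsNilpotent H) (ho : Odd #H) (h1 : ¬ RkA 2 H) : IsCyclic H := by
  haveI : IsZGroup H := ⟨fun p hp P => by
    haveI := Fact.mk hp
    by_cases h2 : p = 2
    · subst h2
      rw [Solv.eq_bot_of_isPGroup_of_not_dvd P.isPGroup' fun h3 => ho.not_two_dvd_nat
        (h3.trans (card_subgroup_dvd_card _))]
      infer_instance
    have := cyc_of_not_rk2 h2 (isSyl_map_subtype P).pgroup fun h3 =>
      h1 (h3.mono (map_subtype_le _)).rkA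
    exact isCyclic_of_injective ((P : Subgroup H).equivMapOfInjective _ H.subtype_injective).toMonoidHom
      (MulEquiv.injective _)⟩
  infer_instance
theorem ab_cyc (h : IsMulCommutative H) (h1 : ¬ RkA 2 H) : IsCyclic H := by
  by_contra h2
  obtain ⟨p, hp, E, h3, h4⟩ := Solv.exists_elementary_sq_of_not_isCyclic h h2
  refine h1 ⟨p, hp, E.map H.subtype, map_subtype_le _, ⟨ab_mono h (map_subtype_le _), ?_⟩, by
    rw [Comp.card_map_subtype, h3]⟩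
  rintro _ ⟨x, hx, rfl⟩; rw [← map_pow, h4 x hx, map_one]
/-- hyperplane generation -/
theorem cop_hyper [hp : Fact p.Prime] (hA : El p (n + 1) A H) (hAK : A ≤ NN K) (hc : IsPi {p}ᶜ K)
    (h : ∀ B, El p n B A → K ⊓ CC B ≤ P) : K ≤ P :=
  Comp.le_of_forall_hyperplane hA.elem hA.ne_bot hAK (pi_compl_iff_coprime.1 hc) fun B h1 h2 =>
    h B ⟨h1, elem_mono hA.elem h1, by
      have := card_mul_relIndex h1
      rw [h2, hA.card, pow_succ] at this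
      exact Nat.eq_of_mul_eq_mul_right hp.out.pos this⟩
theorem cop_lines [hp : Fact p.Prime] (hA : El p 2 A H) (hAK : A ≤ NN K) (hc : IsPi {p}ᶜ K)
    (h : ∀ B ≤ A, #B = p → K ⊓ CC B ≤ P) : K ≤ P :=
  cop_hyper hA hAK hc fun B h1 => h B h1.le h1.card1
end

/-- `R` acts semiregularly on `K` -/
def Reg (K R : Subgroup G) : Prop := ∀ x ∈ R, x ≠ 1 → K ⊓ C1 x = ⊥
/-- `R` acts in a prime manner on `K` -/
def Prm (K R : Subgroup G) : Prop := ∀ x ∈ R, x ≠ 1 → K ⊓ C1 x = K ⊓ CC R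

section
variable {K K' R R' : Subgroup G}
theorem Reg.mono (h : Reg K R) (h1 : K' ≤ K) (h2 : R' ≤ R) : Reg K' R' := Solv.fpf_mono h1 h2 h
theorem Reg.prm (h : Reg K R) : Prm K R := fun x h1 h2 =>
  (h x h1 h2).trans (inf_bot_mono (h x h1 h2) le_rfl (cc_le_C1 h1)).symm
theorem Reg.cc (h : Reg K R) (h1 : R' ≤ R) (h2 : R' ≠ ⊥) : K ⊓ CC R' = ⊥ := by
  obtain ⟨x, h3, h4⟩ := exists_ne_one h2
  exact inf_bot_mono (h x (h1 h3) h4) le_rfl (cc_le_C1 h3)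
theorem Reg.symm (h : Reg K R) : Reg R K := fun x h1 h2 => by
  by_contra h3
  obtain ⟨y, h4, h5⟩ := exists_ne_one h3
  exact h2 (eq_one_of_inf (h y h4.1 h5) h1 (mem_C1_comm.1 h4.2))
theorem Prm.cc (h : Prm K R) (h1 : R' ≤ R) (h2 : R' ≠ ⊥) : K ⊓ CC R' = K ⊓ CC R := by
  obtain ⟨x, h3, h4⟩ := exists_ne_one h2
  exact le_antisymm (h x (h1 h3) h4 ▸ inf_le_inf_left _ (cc_le_C1 h3)) (inf_le_inf_left _ (cc_anti h1))
theorem Prm.mono_r (h : Prm K R) (h1 : R' ≤ R) : Prm K R' := fun x h2 h3 =>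
  (h x (h1 h2) h3).trans (h.cc h1 (ne_bot_of_mem h2 h3)).symm
theorem Prm.mono_l (h : Prm K R) (h1 : K' ≤ K) : Prm K' R := fun x h2 h3 => by
  rw [← inf_eq_left.2 h1, inf_assoc, inf_assoc, h x h2 h3]
theorem Prm.reg (h : Prm K R) (h1 : K ⊓ CC R = ⊥) : Reg K R := fun x h2 h3 => (h x h2 h3).trans h1
theorem prm_of_prime (h : ∀ X ≤ R, (#X).Prime → K ⊓ CC X ≤ CC R) : Prm K R := fun x h1 h2 => by
  obtain ⟨X, h3, h4⟩ := exists_prime_sub (H := zpowers x) (by rwa [Ne, zpowers_eq_bot])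
  refine le_antisymm (le_inf inf_le_left (le_trans ?_ (h X (h3.trans (zpowers_le.2 h1)) h4)))
    (inf_le_inf_left _ (cc_le_C1 h1))
  rw [← cc_zpowers]; exact inf_le_inf_left _ (cc_anti h3)
theorem reg_of_prime (h : ∀ X ≤ R, (#X).Prime → K ⊓ CC X = ⊥) : Reg K R := fun x h1 h2 => by
  obtain ⟨X, h3, h4⟩ := exists_prime_sub (H := zpowers x) (by rwa [Ne, zpowers_eq_bot])
  exact inf_bot_mono (h X (h3.trans (zpowers_le.2 h1)) h4) le_rfl (cc_zpowers x ▸ cc_anti h3)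
theorem reg_prime (hR : (#R).Prime) (h : K ⊓ CC R = ⊥) : Reg K R := fun x h1 h2 =>
  prime_cc hR h1 h2 ▸ h
theorem prm_prime (hR : (#R).Prime) : Prm K R := fun x h1 h2 => by rw [prime_cc hR h1 h2]
/-- BG 3.7 -/
theorem Reg.nil (h : Reg K R) (h1 : R ≤ NN K) (h2 : R ≠ ⊥) : Group.IsNilpotent K :=
  Solv.thompson_fpf h1 h2 h
theorem prime_nil (hR : (#R).Prime) (h1 : R ≤ NN K) (h : K ⊓ CC R = ⊥) : Group.IsNilpotent K :=
  (reg_prime hR h).nil h1 (prime_ne_bot hR)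
theorem Reg.dvd (h : Reg K R) (h1 : R ≤ NN K) : #R ∣ #K - 1 := Solv.card_dvd_sub_one_of_fpf h1 h
theorem Reg.coprime (h : Reg K R) (h1 : R ≤ NN K) : (#R).Coprime #K := Solv.coprime_of_fpf h1 h
theorem Reg.cj (h : Reg K R) (g : G) : Reg (cj g K) (cj g R) := by
  rintro _ ⟨x, h1, rfl⟩ h2
  have := congrArg (Transfer.cj g) (h x h1 (by simpa using h2))
  rwa [cj_inf, cj_centralizer_singleton, cj_bot] at this
end

end Cfsg.Agent.MS
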