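import Cfsg.Agent.Lib.MS.Min
import Cfsg.Agent.Lib.BG.Sec1

/-!
Results of BG section 1 (and 6.1, 6.2) in the vocabulary of this directory.
-/

set_option linter.unusedSectionVars false
set_option linter.unusedVariables false
set_option linter.style.haveILetI false
set_option linter.unusedSimpArgs false

namespace Cfsg.Agent.MS

open Subgroup Cfsg.Agent.Transfer

universe u
variable {G : Type u} [Group G] [Finite G]

section
variable {A B E H K L M N P R S X Y : Subgroup G} {p q n : ℕ} {π ρ : Set ℕ}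

theorem syl_in [Fact p.Prime] (h : IsSyl p P H) : Comp.SylIn p P H := BG.sylIn_of_syl h
theorem rk_iff [Fact p.Prime] : Rk p n H ↔ n ≤ BG.prank p H :=
  Iff.symm (BG.le_prank_iff.trans ⟨fun ⟨A, a, b⟩ => ⟨A, a, b.elem, b.card⟩,
    fun ⟨A, h⟩ => ⟨A, h.le, h.elem, h.card⟩⟩)
theorem not_rk_iff [Fact p.Prime] : ¬ Rk p (n + 1) H ↔ BG.prank p H ≤ n := by rw [rk_iff]; omega
theorem El.bg (h : El p n A H) : BG.El p n A := ⟨h.elem, h.card⟩
theorem MaxEl.bg (h : MaxEl p A H) : BG.MaxEl p A H := ⟨h.elem, h.le, fun B a b c => h.max B b a c⟩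
theorem maxEl_of_bg (h : BG.MaxEl p A H) : MaxEl p A H := ⟨h.le, h.elem, fun B a b c => h.max B b a c⟩
theorem pl1_bg [Fact p.Prime] : PL1 p H ↔ BG.PL1 p H := by
  obtain ⟨P, hP⟩ := exists_isSyl p H
  refine ⟨fun h => BG.pl1_of_normal_sup (syl_in hP) (pi_compl_iff_coprime.1 (O_pi _ H)) (O_le _ _)
    (nn_O (nn_of_le hP.le)) (h P hP), fun h => pl1_of_exists hP ?_⟩
  rw [O1c_eq]; exact h.le_normalizer_sup (syl_in hP)
theorem pl1_iff [Fact p.Prime] : PL1 p H ↔ PLengthLE p 1 H := pl1_bg.trans BG.pl1_iff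
theorem PL1.mono [Fact p.Prime] (h : PL1 p H) (h1 : K ≤ H) : PL1 p K := pl1_bg.2 ((pl1_bg.1 h).mono h1)
theorem PL1.of_normal [Fact p.Prime] (h : PL1 p K) (h1 : K ≤ H) (h2 : H ≤ NN K)
    (h3 : ¬ p ∣ K.relIndex H) : PL1 p H :=
  pl1_bg.2 ((pl1_bg.1 h).of_normal h1 h2 (Comp.coprime_iff_not_dvd.2 h3))
/-- the rank drops by at most one in a subgroup of index at most `p` -/
theorem Rk.of_index [Fact p.Prime] (h : Rk p (n + 1) H) (hi : K.relIndex H ≤ p) : Rk p n K := by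
  have := BG.prank_le_add (p := p) (j := 1) (H := H) (K := K) (by simpa)
  rw [rk_iff] at h ⊢; omega
theorem zgroup_iff (ho : Odd #H) : IsZGroup H ↔ ¬ RkA 2 H := by
  rw [BG.isZGroup_iff_sylIn]
  refine ⟨fun h ⟨p, hp, h1⟩ => ?_, fun h q hq P hP => ?_⟩
  · haveI := Fact.mk hp
    obtain ⟨P, hP⟩ := exists_isSyl p H
    exact not_rk2_of_cyc (h p hp P (syl_in hP)) (h1.syl hP)
  · haveI := Fact.mk hq
    exact nil_cyc (nil_of_pg hP.toSyl.pgroup) (odd_mono ho hP.toSyl.le) fun h1 => h (h1.mono hP.toSyl.le)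
theorem der_cc_of_cyc (h : IsCyclic H) (h1 : A ≤ NN H) : ⁅A, A⁆ ≤ CC H :=
  Solv.commutator_le_centralizer_of_isCyclic h h1
theorem zgroup_der_cyc (h : IsZGroup H) : IsCyclic (⁅H, H⁆ : Subgroup G) :=
  BG.isCyclic_commutator_of_isZGroup h

/-- BG 1.4 -/
theorem cop_cent_F (hs : Group.IsSolvable K) (hA : A ≤ NN K) (hc : (#A).Coprime #K)
    (h : A ≤ CC (F K)) : A ≤ CC K := BG.le_Ct_of_le_Ct_Fit hs hA hc (F_eq K ▸ h)
/-- BG 1.6(d) and 6.3(a), second part -/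
theorem cop_cc_le_der (hA : A ≤ NN K) (hc : (#A).Coprime #K) (h : ⁅K, A⁆ = K) : K ⊓ CC A ≤ ⁅K, K⁆ :=
  BG.inf_Ct_le_commutator hA hc h
/-- BG 1.11 -/
theorem cop_omega [Fact p.Prime] (h2 : p ≠ 2) (hH : IsPGroup p H) (hA : A ≤ NN H) (hc : IsPi {p}ᶜ A)
    (h : A ≤ CC (omegaOne p H)) : A ≤ CC H :=
  BG.le_Ct_of_le_Ct_omegaOne h2 hH hA (pi_compl_iff_coprime.1 hc) h
/-- BG 1.12 -/
theorem cop_maxEl [Fact p.Prime] (h2 : p ≠ 2) (hH : IsPGroup p H) (hE : MaxEl p E H) (hA : A ≤ NN H)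
    (hc : IsPi {p}ᶜ A) (h : A ≤ CC E) : A ≤ CC H :=
  BG.le_Ct_of_le_Ct_maxEl h2 hH hE.bg hA (pi_compl_iff_coprime.1 hc) h
/-- a coprime operator group fixing a nontrivial element of a cyclic `p`-group acts trivially -/
theorem cop_cyc [Fact p.Prime] (hH : IsPGroup p H) (hc : IsCyclic H) (hA : A ≤ NN H)
    (hp : IsPi {p}ᶜ A) (h : H ⊓ CC A ≠ ⊥) : A ≤ CC H := by
  have hc' := (pg_coprime hH hp (by simp)).symm
  have h1 := cop_ab_inf (ab_of_cyc hc) hA hc'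
  by_contra h2
  have h3 : ⁅H, A⁆ ≠ ⊥ := fun e => h2 (comm_eq_bot'.1 e)
  obtain ⟨X, a, b⟩ := pg_exists_card (hH.to_le inf_le_left) h
  obtain ⟨Y, c, d⟩ := pg_exists_card (hH.to_le (comm_le_left hA)) h3
  have := cyc_eq hc (a.trans inf_le_left) (c.trans (comm_le_left hA)) (b.trans d.symm)
  exact prime_ne_bot (b ▸ Fact.out) (eq_bot_of_le h1 a (this ▸ c))
/-- BG 1.15(b) -/
theorem O_cc_le [Fact p.Prime] (hs : Group.IsSolvable H) (hP : IsPGroup p P) (h : P ≤ H) :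
    O {p}ᶜ (H ⊓ CC P) ≤ O {p}ᶜ H := by rw [O1c_eq, O1c_eq]; exact BG.Opp_inf_Ct_le hs hP h
theorem O_nn_le [Fact p.Prime] (hs : Group.IsSolvable H) (hP : IsPGroup p P) (h : P ≤ H) :
    O {p}ᶜ (H ⊓ NN P) ≤ O {p}ᶜ H := by rw [O1c_eq, O1c_eq]; exact BG.Opp_inf_Nm_le hs hP h
/-- BG 1.15(b), applied form: `K ≤ O_{p'}(L)` with `C_H(P) ≤ L` -/
theorem le_O_of_cent [Fact p.Prime] (hs : Group.IsSolvable H) (hP : IsPGroup p P) (h : P ≤ H)
    (h1 : H ⊓ CC P ≤ L) (h2 : K ≤ O {p}ᶜ L) (h3 : K ≤ H) (h4 : K ≤ CC P) : K ≤ O {p}ᶜ H :=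
  ((le_inf h2 (le_inf h3 h4)).trans (O_inf_le h1)).trans (O_cc_le hs hP h)
theorem cc_O_le [Fact p.Prime] (hs : Group.IsSolvable H) (h : O {p}ᶜ H = ⊥) :
    H ⊓ CC (O {p} H) ≤ O {p} H := by rw [O1_eq]; exact BG.inf_Ct_Op_le hs (O1c_eq (p := p) H ▸ h)
theorem F_eq_O [Fact p.Prime] (h : O {p}ᶜ H = ⊥) : F H = O {p} H := by
  have := nil_O_sup (F_nil H) {p}
  rw [O1_F, le_bot_iff.1 (h ▸ O_le_O (F_le H) (by nrm) : O {p}ᶜ (F H) ≤ ⊥), sup_bot_eq] at this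
  exact this.symm
theorem O_eq_bot_of_F (hs : Group.IsSolvable H) (h : IsPi πᶜ (F H)) : O π H = ⊥ := by
  by_contra h1
  exact F_ne_bot (sol_mono hs (O_le _ _)) h1
    (((O_pi π H).mono (F_le _)).eq_bot (h.mono (F_le_F (O_le _ _) (by nrm))))
theorem O_F (π : Set ℕ) (H : Subgroup G) : O π (F H) = F (O π H) :=
  le_antisymm (le_F (O_le_O (F_le H) (by nrm)) (nn_O (nn_F (nn_of_le (O_le _ _))))
    (nil_mono (F_nil H) (O_le _ _))) (nil_le_O (F_nil H) (F_le_F (O_le _ _) (by nrm))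
      ((O_pi π H).mono (F_le _)))
theorem le_O_inter (h : ∀ r ∈ π, r.Prime → r ∣ #H → K ≤ O {r}ᶜ H) (h1 : K ≤ H) : K ≤ O πᶜ H := by
  obtain ⟨L, hL⟩ : ∃ L : Subgroup G, ∀ x, x ∈ L ↔ ∀ r ∈ π, r.Prime → r ∣ #H → x ∈ O {r}ᶜ H :=
    ⟨⨅ r ∈ π, ⨅ (_ : r.Prime), ⨅ (_ : r ∣ #H), O {r}ᶜ H, fun x => by simp only [mem_iInf]⟩
  refine le_trans (le_inf h1 fun x hx => (hL x).2 fun r a b c => h r a b c hx : K ≤ H ⊓ L)
    (le_O inf_le_left (nn_inf (le_nn H) fun g hg => mem_normalizer_of_conj_mem fun x hx =>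
      (hL _).2 fun r a b c => conj_mem_of_mem_normalizer (nn_O (le_nn H) hg) ((hL x).1 hx r a b c))
      fun r hr hd h2 => ?_)
  exact O_pi {r}ᶜ H r hr (hd.trans (card_dvd fun x hx =>
    (hL x).1 hx.2 r h2 hr (hd.trans (card_dvd inf_le_left)))) rfl
/-- BG 1.17, focal subgroup theorem -/
theorem focal_le [Fact p.Prime] (hP : IsSyl p P H)
    (h : ∀ x ∈ P, ∀ k ∈ H, k * x * k⁻¹ ∈ P → k * x * k⁻¹ * x⁻¹ ∈ L) : P ⊓ ⁅H, H⁆ ≤ L :=
  BG.focal_le (syl_in hP) h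
/-- BG 1.18, Burnside -/
theorem burnside [Fact p.Prime] (hP : IsSyl p P H) (h : H ⊓ NN P ≤ CC P) : NPC p H := by
  obtain ⟨S, rfl⟩ := hP.exists_sylow_map
  have h1 : NN (S : Subgroup H) ≤ CC (S : Subgroup H) := fun g hg x hx => Subtype.ext
    (h (mem_inf.2 ⟨g.2, mem_normalizer_of_conj_mem (by
      rintro _ ⟨y, hy, rfl⟩; exact ⟨_, conj_mem_of_mem_normalizer hg hy, rfl⟩)⟩) _ ⟨x, hx, rfl⟩)
  exact npc_iff.2 ⟨S, _, inferInstance, MonoidHom.ker_transferSylow_isComplement' S h1⟩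
theorem npc_not_dvd_der [Fact p.Prime] (h : NPC p H) (hP : IsSyl p P H) (hc : IsMulCommutative P) :
    ¬ p ∣ #(⁅H, H⁆ : Subgroup G) := BG.not_dvd_commutator_of_hasNPC (npc_iff.1 h) (syl_in hP) hc
/-- BG 1.19(a) -/
theorem cyc_syl_der [Fact p.Prime] (hP : IsSyl p P H) (hc : IsCyclic P) :
    P ⊓ ⁅H, H⁆ = ⊥ ∨ P ≤ ⁅H, H⁆ := BG.inf_commutator_eq_bot_or_le (syl_in hP) hc
/-- BG 6.1 -/
theorem comm_le_O_of_ab [Fact p.Prime] (hs : Group.IsSolvable H) (ho : Odd #H) (hS : IsSyl p S H)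
    (hA : A ≤ S) (hc : IsMulCommutative A) (hn : S ≤ NN A) (h0 : B ≤ A) (h1 : Y ≤ H) (h2 : IsPi {p}ᶜ Y)
    (h3 : B ≤ NN Y) : ⁅Y, B⁆ ≤ O {p}ᶜ H := by
  have h4 := h0.trans (BG.le_Oppp_of_comm hs ho (syl_in hS) hA hc hn)
  rw [O1c_eq]
  exact Comp.le_Opp_of_le_Oppp ((commutator_mono le_rfl h4).trans (comm_le_right
    (h1.trans (Comp.le_normalizer_Oppp_self H)))) (pi_compl_iff_coprime.1 (h2.mono (comm_le_left h3)))
theorem ab_le_O [Fact p.Prime] (hs : Group.IsSolvable H) (ho : Odd #H) (hS : IsSyl p S H)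
    (hA : A ≤ S) (hc : IsMulCommutative A) (hn : S ≤ NN A) (h0 : O {p}ᶜ H = ⊥) : A ≤ O {p} H := by
  rw [O1_eq, ← Comp.Oppp_eq_Op (O1c_eq (p := p) H ▸ h0)]
  exact BG.le_Oppp_of_comm hs ho (syl_in hS) hA hc hn
/-- `Z(J(S))` -/
abbrev ZJ (S : Subgroup G) : Subgroup G := centerThompsonOf 0 S
theorem nn_ZJ (h : A ≤ NN S) : A ≤ NN (ZJ S) := h.trans (normalizer_le_normalizer_ZJ S)
/-- BG 6.2 -/
theorem ZJ_nn [Fact p.Prime] (hs : Group.IsSolvable H) (ho : Odd #H) (hS : IsSyl p S H)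
    (h0 : O {p}ᶜ H = ⊥) : H ≤ NN (ZJ S) := by
  have := BG.le_normalizer_ZJ_sup (n := 0) (.inr rfl) hs ho (syl_in hS)
  rwa [← O1c_eq, h0, sup_bot_eq] at this
/-- a `p'`-subgroup normalized by an SCN-subgroup of a Sylow subgroup lies in `O_{p'}` -/
theorem scn_le_O [Fact p.Prime] (hs : Group.IsSolvable H) (ho : Odd #H) (hP : IsSyl p P H)
    (hA : IsSCN P A) (h1 : Y ≤ H) (h2 : IsPi {p}ᶜ Y) (h3 : A ≤ NN Y) : Y ≤ O {p}ᶜ H := by
  have h4 := comm_le_O_of_ab hs ho hP hA.le hA.comm hA.norm le_rfl h1 h2 h3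
  obtain ⟨Q, _, _, f, q⟩ := exists_qm (O_le {p}ᶜ H) (by nrm)
  have hAH := hA.le.trans hP.le
  have h0 : O {p}ᶜ (im f H) = ⊥ := by rw [← q.im_O le_rfl (O_le _ _) (O_pi _ _), q.im_N]
  have h5 : im f A ≤ O {p} (im f H) := ab_le_O (im_sol hs le_rfl) (im_odd ho le_rfl) (im_syl hP le_rfl)
    (im_mono hA.le) (im_ab hA.comm hAH) (im_nn hP.le hAH hA.norm) h0
  have h6 : im f Y ≤ CC (im f A) := (q.cc_iff h1 hAH).2 h4
  have h7 : im f P ⊓ CC (im f A) ≤ im f A := by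
    rw [← q.im_sup_N hP.le, ← q.im_inf_cc (sup_le q.le hP.le) hAH le_sup_left
      (nn_of_le (hA.le.trans le_sup_right)) (pg_coprime (hP.pgroup.to_le hA.le) (O_pi _ _) (by simp))
      (sol_mono hs q.le), q.im_le_iff (inf_le_left.trans (sup_le q.le hP.le)) hAH]
    intro x hx
    obtain ⟨a, ha, b, hb, rfl⟩ := (mem_sup_l (hP.le.trans q.nn)).1 hx.1
    refine mul_mem (mem_sup_left ha) (mem_sup_right (hA.inf_eq ▸ mem_inf.2 ⟨hb, fun y hy => ?_⟩))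
    have e := hx.2 y hy
    have h8 : b * y * b⁻¹ * y⁻¹ ∈ O {p}ᶜ H := by
      have : b * y * b⁻¹ * y⁻¹ = a⁻¹ * (y * a * y⁻¹) := by
        have e' : a * b * y = y * (a * b) := e.symm
        calc b * y * b⁻¹ * y⁻¹ = a⁻¹ * (a * b * y) * b⁻¹ * y⁻¹ := by group
          _ = _ := by rw [e']; group
      rw [this]
      exact mul_mem (inv_mem ha) (conj_mem_of_mem_normalizer (q.nn (hAH hy)) ha)
    have := eq_one_of_inf (pg_inf hP.pgroup (O_pi {p}ᶜ H) (by simp))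
      (mul_mem (mul_mem (mul_mem hb (hA.le hy)) (inv_mem hb)) (inv_mem (hA.le hy))) h8
    exact (mul_inv_eq_iff_eq_mul.1 (mul_inv_eq_one.1 this)).symm
  have h8 : im f Y ≤ CC (O {p} (im f H)) := cop_nil_cc (nil_of_pg (O_pg _)) (nn_O (nn_of_le (im_mono h1)))
    (pg_coprime (O_pg _) (h2.im h1) (by simp)).symm
    (((inf_le_inf (O_le_syl (im_syl hP le_rfl)) (cc_anti (le_inf h5 (cc_symm h6)))).trans h7).trans
      (cc_symm h6))
  have h9 := (le_inf (im_mono h1) h8).trans (cc_O_le (im_sol hs le_rfl) h0)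
  exact (q.im_eq_bot h1).1 (((O_pi _ _).mono h9).eq_bot (h2.im h1))
theorem index_C1_le {x : G} (h : ∀ g ∈ P, g * x * g⁻¹ * x⁻¹ ∈ X) : (C1 x).relIndex P ≤ #X := by
  refine Nat.card_le_card_of_injective (fun q : P ⧸ (C1 x).subgroupOf P =>
    (⟨_, h _ q.out.2⟩ : X)) fun a b e => ?_
  rw [← a.out_eq', ← b.out_eq', QuotientGroup.eq]
  have e1 : (a.out : G) * x * (a.out : G)⁻¹ = b.out * x * (b.out : G)⁻¹ := mul_right_cancel (congrArg Subtype.val e)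
  refine mem_C1_of_conj (g := (a.out : G)⁻¹ * b.out) ?_
  rw [mul_inv_rev, inv_inv, show (a.out : G)⁻¹ * b.out * x * ((b.out : G)⁻¹ * a.out) =
    (a.out : G)⁻¹ * (b.out * x * (b.out : G)⁻¹) * a.out by group, ← e1]; group
/-- a normal subgroup of order `p²` of a `p`-group has centralizer of index at most `p` -/
theorem index_cc_el2 [hp : Fact p.Prime] (hP : IsPGroup p P) (h : El p 2 E P) (h1 : P ≤ NN E) :
    (CC E).relIndex P ≤ p := by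
  by_cases h0 : P ≤ CC E
  · rw [relIndex_eq_one.2 h0]; exact hp.out.pos
  have h2 := nil_comm_lt (nil_of_pg hP) h.le h1 h.ne_bot
  have h3 : #(⁅E, P⁆ : Subgroup G) = p :=
    ((h.line_or h2.le).resolve_left fun e => h0 (comm_eq_bot'.1 e)).resolve_right h2.ne
  have h4 : ⁅E, P⁆ ≤ CC P := prime_le (h3 ▸ hp.out) (nil_meet (nil_of_pg hP) (h2.le.trans h.le) (by nrm)
    (prime_ne_bot (h3 ▸ hp.out)))
  obtain ⟨x, h5, h6⟩ := SetLike.exists_of_lt h2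
  have h7 : ⁅E, P⁆ ⊔ zpowers x = E := h.sup_lines h2.le (zpowers_le.2 h5) h3
    (h.card_zpowers h5 fun e => h6 (e ▸ one_mem _)) fun e => h6 (e ▸ mem_zpowers x)
  have h8 : CC E ⊓ P = C1 x ⊓ P := by
    conv_lhs => rw [← h7, cc_sup, cc_zpowers, inf_right_comm, inf_eq_right.2 (cc_symm h4), inf_comm]
  rw [← inf_relIndex_right, h8, inf_relIndex_right, ← h3]
  exact index_C1_le fun g hg => commutator_comm P E ▸ commutator_mem_commutator hg h5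
end

end Cfsg.Agent.MS
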