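import Cfsg.Agent.Lib.MS.Base2

/-!
Quotients of subgroups, nilpotence modulo a normal subgroup, `p`-length one, `π`-parts of elements.
-/

set_option linter.unusedSectionVars false
set_option linter.unusedVariables false
set_option linter.style.haveILetI false
set_option linter.unusedSimpArgs false

namespace Cfsg.Agent.MS

open Subgroup Cfsg.Agent.Transfer

universe u
variable {G : Type u} [Group G] [Finite G]

/-! ### quotients `M/N` for subgroups `N ⊴ M` of `G` -/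

/-- `f` is a surjection from `M` with kernel `N` -/
structure QM (N M : Subgroup G) {Q : Type u} [Group Q] (f : M →* Q) : Prop where
  le : N ≤ M
  surj : Function.Surjective f
  ker : f.ker = N.subgroupOf M

/-- image of `H ⊓ M` -/
def im {M : Subgroup G} {Q : Type u} [Group Q] (f : M →* Q) (H : Subgroup G) : Subgroup Q :=
  (H.subgroupOf M).map f
/-- full preimage, as a subgroup of `G` -/
def pre {M : Subgroup G} {Q : Type u} [Group Q] (f : M →* Q) (X : Subgroup Q) : Subgroup G :=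
  (X.comap f).map M.subtype

theorem exists_qm {N M : Subgroup G} (h1 : N ≤ M) (h2 : M ≤ NN N) :
    ∃ (Q : Type u) (_ : Group Q) (_ : Finite Q) (f : M →* Q), QM N M f := by
  haveI : (N.subgroupOf M).Normal := normal_subgroupOf_of_le_normalizer h2
  exact ⟨M ⧸ N.subgroupOf M, inferInstance, inferInstance, QuotientGroup.mk' _, h1,
    QuotientGroup.mk'_surjective _, QuotientGroup.ker_mk' _⟩

section
variable {M N H K A : Subgroup G} {Q : Type u} [Group Q] [Finite Q] {f : M →* Q} {X Y : Subgroup Q}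

theorem mem_im {y : Q} : y ∈ im f H ↔ ∃ x : M, (x : G) ∈ H ∧ f x = y := Iff.rfl
theorem mem_im_of {x : G} (h : x ∈ H) (hM : x ∈ M) : f ⟨x, hM⟩ ∈ im f H := ⟨⟨x, hM⟩, h, rfl⟩
theorem mem_pre {x : G} : x ∈ pre f X ↔ ∃ h : x ∈ M, f ⟨x, h⟩ ∈ X :=
  ⟨fun ⟨y, h1, h2⟩ => h2 ▸ ⟨y.2, h1⟩, fun ⟨h, h1⟩ => ⟨⟨x, h⟩, h1, rfl⟩⟩
theorem im_mono (h : H ≤ K) : im f H ≤ im f K := map_mono (comap_mono h)
theorem pre_mono (h : X ≤ Y) : pre f X ≤ pre f Y := map_mono (comap_mono h)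
theorem pre_le (f : M →* Q) (X : Subgroup Q) : pre f X ≤ M := map_subtype_le _
theorem le_pre_iff (h : H ≤ M) : H ≤ pre f X ↔ im f H ≤ X :=
  ⟨fun h1 _ ⟨x, h2, h3⟩ => by obtain ⟨_, h4⟩ := mem_pre.1 (h1 h2); exact h3 ▸ h4,
   fun h1 x hx => mem_pre.2 ⟨h hx, h1 (mem_im_of hx _)⟩⟩
theorem le_pre_im (h : H ≤ M) : H ≤ pre f (im f H) := (le_pre_iff h).2 le_rfl
theorem im_bot : im f ⊥ = ⊥ := by simp [im]
theorem im_inf_M (H : Subgroup G) : im f (H ⊓ M) = im f H := by simp [im]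
theorem im_sup (h1 : H ≤ M) (h2 : K ≤ M) : im f (H ⊔ K) = im f H ⊔ im f K := by
  rw [im, subgroupOf_sup h1 h2, Subgroup.map_sup]; rfl
theorem im_comm (h1 : H ≤ M) (h2 : K ≤ M) : im f ⁅H, K⁆ = ⁅im f H, im f K⁆ := by
  rw [im, im, im, ← map_commutator]
  congr 1
  apply map_injective M.subtype_injective
  rw [map_commutator, map_subgroupOf_eq_of_le h1, map_subgroupOf_eq_of_le h2,
    map_subgroupOf_eq_of_le (comm_le h1 h2)]
theorem im_nn (h1 : H ≤ M) (h2 : K ≤ M) (h : H ≤ NN K) : im f H ≤ NN (im f K) :=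
  nn_of_comm_le' (by rw [← im_comm h2 h1]; exact im_mono (comm_le_left h))
theorem im_cc (h1 : H ≤ M) (h2 : K ≤ M) (h : H ≤ CC K) : im f H ≤ CC (im f K) :=
  comm_eq_bot.1 (by rw [← im_comm h1 h2, comm_eq_bot.2 h, im_bot])
theorem im_cj {g : G} (hg : g ∈ M) (h : H ≤ M) : im f (cj g H) = cj (f ⟨g, hg⟩) (im f H) := by
  ext y
  simp only [mem_im, mem_cj]
  constructor
  · rintro ⟨x, h1, rfl⟩
    exact ⟨⟨g, hg⟩⁻¹ * x * ⟨g, hg⟩, h1, by simp⟩
  · rintro ⟨x, h1, h2⟩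
    exact ⟨⟨g, hg⟩ * x * ⟨g, hg⟩⁻¹, by simpa [mul_assoc] using h1, by simp [h2, mul_assoc]⟩
theorem im_zpowers {x : G} (hx : x ∈ M) : im f (zpowers x) = zpowers (f ⟨x, hx⟩) := by
  rw [← MonoidHom.map_zpowers, im]; congr 1
  apply map_injective M.subtype_injective
  rw [map_subgroupOf_eq_of_le (zpowers_le.2 hx), MonoidHom.map_zpowers]; rfl
theorem card_im_dvd (h : H ≤ M) : #(im f H) ∣ #H :=
  (card_map_dvd _ _).trans (Nat.card_congr (subgroupOfEquivOfLe h).toEquiv).dvd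
theorem IsPi.im {π : Set ℕ} (h : IsPi π H) (h1 : H ≤ M) : IsPi π (im f H) :=
  fun p hp hd => h p hp (hd.trans (card_im_dvd h1))
theorem im_pg {p : ℕ} (h : IsPGroup p H) : IsPGroup p (im f H) := (h.comap_subtype).map f
theorem im_surj (h : H ≤ M) : ∃ φ : H →* im f H, Function.Surjective φ :=
  ⟨(f.subgroupMap (H.subgroupOf M)).comp (subgroupOfEquivOfLe h).symm.toMonoidHom,
    (f.subgroupMap_surjective _).comp (subgroupOfEquivOfLe h).symm.surjective⟩
theorem im_sol (h : Group.IsSolvable H) (h1 : H ≤ M) : Group.IsSolvable (im f H) := by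
  obtain ⟨φ, hφ⟩ := im_surj (f := f) h1; exact solvable_of_surjective hφ
theorem im_nil (h : Group.IsNilpotent H) (h1 : H ≤ M) : Group.IsNilpotent (im f H) := by
  obtain ⟨φ, hφ⟩ := im_surj (f := f) h1; exact nilpotent_of_surjective φ hφ
theorem im_cyc (h : IsCyclic H) (h1 : H ≤ M) : IsCyclic (im f H) := by
  obtain ⟨φ, hφ⟩ := im_surj (f := f) h1; exact isCyclic_of_surjective φ hφ
theorem im_ab (h : IsMulCommutative H) (h1 : H ≤ M) : IsMulCommutative (im f H) :=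
  ab_iff.2 (im_cc h1 h1 (ab_cc h))
theorem im_odd (h : Odd #H) (h1 : H ≤ M) : Odd #(im f H) := h.of_dvd_nat (card_im_dvd h1)
theorem im_coprime (h : (#H).Coprime #K) (h1 : H ≤ M) (h2 : K ≤ M) : (#(im f H)).Coprime #(im f K) :=
  (h.coprime_dvd_left (card_im_dvd h1)).coprime_dvd_right (card_im_dvd h2)
theorem subgroupOf_hall {π : Set ℕ} (h : Hall π H K) (h1 : K ≤ M) :
    Hall π (H.subgroupOf M) (K.subgroupOf M) :=
  .mk' (comap_mono h.le) (fun p hp hd => h.pi p hp (by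
    rwa [Nat.card_congr (subgroupOfEquivOfLe (h.le.trans h1)).toEquiv] at hd)) fun p hp h2 => by
    rw [relIndex_subgroupOf h1]; exact h.nd hp h2
theorem Hall.im {π : Set ℕ} (h : Hall π H K) (h1 : K ≤ M) : Hall π (im f H) (im f K) :=
  (subgroupOf_hall h h1).map f
theorem im_syl {p : ℕ} [Fact p.Prime] (h : IsSyl p H K) (h1 : K ≤ M) : IsSyl p (im f H) (im f K) :=
  ((hall_of_syl h).im h1).syl
theorem im_O_le (π : Set ℕ) (h : H ≤ M) : im f (O π H) ≤ O π (im f H) :=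
  le_O (im_mono (O_le _ _)) (im_nn h ((O_le _ _).trans h) (by nrm)) ((O_pi _ _).im ((O_le _ _).trans h))
theorem im_F_le (h : H ≤ M) : im f (F H) ≤ F (im f H) :=
  le_F (im_mono (F_le _)) (im_nn h ((F_le _).trans h) (by nrm)) (im_nil (F_nil _) ((F_le _).trans h))

namespace QM
variable (q : QM N M f)
include q
theorem eq_one_iff {x : G} (hx : x ∈ M) : f ⟨x, hx⟩ = 1 ↔ x ∈ N := by
  rw [← MonoidHom.mem_ker, q.ker]; rfl
theorem nn : M ≤ NN N := fun g hg => mem_normalizer_of_conj_mem fun x hx =>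
  (q.eq_one_iff (mul_mem (mul_mem hg (q.le hx)) (inv_mem hg))).1 (by
    have : (⟨g * x * g⁻¹, mul_mem (mul_mem hg (q.le hx)) (inv_mem hg)⟩ : M) =
      ⟨g, hg⟩ * ⟨x, q.le hx⟩ * ⟨g, hg⟩⁻¹ := rfl
    rw [this, map_mul, map_mul, (q.eq_one_iff _).2 hx]; simp)
theorem im_top : im f M = ⊤ := by rw [im, subgroupOf_self, map_top_of_surjective _ q.surj]
theorem im_pre (X : Subgroup Q) : im f (pre f X) = X := by
  rw [im, pre, subgroupOf, comap_map_eq_self_of_injective M.subtype_injective,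
    map_comap_eq_self_of_surjective q.surj]
theorem le_pre (X : Subgroup Q) : N ≤ pre f X := fun x hx =>
  mem_pre.2 ⟨q.le hx, by rw [(q.eq_one_iff _).2 hx]; exact one_mem _⟩
theorem im_N : im f N = ⊥ := le_bot_iff.1 ((le_pre_iff q.le).1 (q.le_pre _))
theorem pre_bot : pre f ⊥ = N := le_antisymm (fun x hx => by
  obtain ⟨h1, h2⟩ := mem_pre.1 hx; exact (q.eq_one_iff h1).1 (mem_bot.1 h2)) (q.le_pre _)
theorem pre_top : pre f ⊤ = M := le_antisymm (pre_le _ _) ((le_pre_iff le_rfl).2 le_top)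
theorem pre_im (h : H ≤ M) : pre f (im f H) = N ⊔ H := by
  refine le_antisymm (fun x hx => ?_) (sup_le (q.le_pre _) (le_pre_im h))
  obtain ⟨h1, y, h2, h3⟩ := mem_pre.1 hx
  have : x * (y : G)⁻¹ ∈ N := (q.eq_one_iff (mul_mem h1 (inv_mem y.2))).1 (by
    have : (⟨x * (y : G)⁻¹, mul_mem h1 (inv_mem y.2)⟩ : M) = ⟨x, h1⟩ * y⁻¹ := rfl
    rw [this, map_mul, map_inv, h3, mul_inv_cancel])
  simpa using mul_mem (mem_sup_left this) (mem_sup_right (S := N) (T := H) h2)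
theorem pre_im' (h : H ≤ M) (h1 : N ≤ H) : pre f (im f H) = H := by rw [q.pre_im h, sup_eq_right.2 h1]
theorem im_le_iff (h1 : H ≤ M) (h2 : K ≤ M) : im f H ≤ im f K ↔ H ≤ N ⊔ K := by
  rw [← le_pre_iff h1, q.pre_im h2]
theorem im_eq_bot (h1 : H ≤ M) : im f H = ⊥ ↔ H ≤ N := by
  rw [← le_bot_iff, ← le_pre_iff h1, q.pre_bot]
theorem im_sup_N (h : H ≤ M) : im f (N ⊔ H) = im f H := by rw [im_sup q.le h, q.im_N, bot_sup_eq]
theorem pre_inj (h : pre f X = pre f Y) : X = Y := by rw [← q.im_pre X, h, q.im_pre]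
theorem pre_le_pre : pre f X ≤ pre f Y ↔ X ≤ Y :=
  ⟨fun h => q.im_pre X ▸ q.im_pre Y ▸ im_mono h, pre_mono⟩
theorem pre_inf (X Y : Subgroup Q) : pre f (X ⊓ Y) = pre f X ⊓ pre f Y := by
  rw [pre, comap_inf, map_inf_eq _ _ _ M.subtype_injective]; rfl
theorem im_inf (h1 : H ≤ M) (h2 : K ≤ M) (h : N ≤ H) : im f (H ⊓ K) = im f H ⊓ im f K := by
  apply q.pre_inj
  rw [q.pre_inf, q.pre_im' h1 h, q.pre_im (inf_le_left.trans h1), q.pre_im h2, inf_comm H (N ⊔ K),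
    dedekind h (h2.trans q.nn), inf_comm K]
theorem cc_iff (h1 : H ≤ M) (h2 : K ≤ M) : im f H ≤ CC (im f K) ↔ ⁅H, K⁆ ≤ N := by
  rw [← comm_eq_bot, ← im_comm h1 h2, q.im_eq_bot (comm_le h1 h2)]
theorem nn_iff (h1 : H ≤ M) (h2 : K ≤ M) : im f H ≤ NN (im f K) ↔ H ≤ NN (N ⊔ K) := by
  refine ⟨fun h => nn_of_comm_le' ?_, fun h => q.im_sup_N h2 ▸ im_nn h1 (sup_le q.le h2) h⟩
  rw [← q.im_le_iff (comm_le (sup_le q.le h2) h1) h2, im_comm (sup_le q.le h2) h1, q.im_sup_N h2]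
  exact comm_le_left h
theorem nn_pre (h1 : H ≤ M) (h : im f H ≤ NN X) : H ≤ NN (pre f X) := by
  have := (q.nn_iff h1 (pre_le f X)).1 (by rwa [q.im_pre])
  rwa [sup_eq_right.2 (q.le_pre X)] at this
theorem pre_nn (h : X ≤ NN Y) : pre f X ≤ NN (pre f Y) := q.nn_pre (pre_le _ _) (by rwa [q.im_pre])
theorem card_im (h : H ≤ M) : #(im f H) = N.relIndex H := by
  rw [im, ← relIndex_subgroupOf h, ← q.ker, relIndex_ker]
theorem card_Q : #(⊤ : Subgroup Q) = N.relIndex M := by rw [← q.im_top, q.card_im le_rfl]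
theorem relIndex_pre (X : Subgroup Q) : N.relIndex (pre f X) = #X := by
  rw [← q.card_im (pre_le _ _), q.im_pre]
theorem card_pre (X : Subgroup Q) : #(pre f X) = #N * #X := by
  rw [← card_mul_relIndex (q.le_pre X), q.relIndex_pre]
theorem card_im_of_disj (h : H ≤ M) (h1 : N ⊓ H = ⊥) : #(im f H) = #H := by
  rw [q.card_im h, ← card_inf_mul_relIndex N H, h1, card_bot, one_mul]
theorem relIndex_im (h1 : H ≤ M) (h2 : K ≤ M) (h : N ≤ H) :
    (im f H).relIndex (im f K) = H.relIndex K := by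
  rw [im, im, relIndex_map_map, q.ker, sup_eq_left.2 (show N.subgroupOf M ≤ H.subgroupOf M from comap_mono h), ← subgroupOf_sup h2 q.le,
    relIndex_subgroupOf (sup_le h2 q.le), sup_comm]
  have e := relIndex_mul_relIndex N H (N ⊔ K)
  refine ((Solv.relIndex_eq_iff_isProd le_sup_right).2 fun g hg => ?_).symm
  obtain ⟨a, ha, b, hb, rfl⟩ := (mem_sup_r (h2.trans q.nn)).1 (sup_comm N K ▸ hg)
  exact ⟨a, ha, b, h hb, rfl⟩
theorem exists_equiv (h : H ≤ M) (h1 : N ⊓ H = ⊥) : Nonempty (H ≃* im f H) := by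
  obtain ⟨φ, hφ⟩ := im_surj (f := f) h
  exact ⟨MulEquiv.ofBijective φ ((Nat.bijective_iff_surjective_and_card φ).2
    ⟨hφ, (q.card_im_of_disj h h1).symm⟩)⟩
theorem nil_of_im (h : H ≤ M) (h1 : N ⊓ H = ⊥) (h2 : Group.IsNilpotent (im f H)) :
    Group.IsNilpotent H := by
  obtain ⟨e⟩ := q.exists_equiv h h1; exact nilpotent_of_mulEquiv e.symm
theorem cyc_of_im (h : H ≤ M) (h1 : N ⊓ H = ⊥) (h2 : IsCyclic (im f H)) : IsCyclic H := by
  obtain ⟨e⟩ := q.exists_equiv h h1; exact isCyclic_of_surjective _ e.symm.surjective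
theorem ab_of_im (h : H ≤ M) (h1 : N ⊓ H = ⊥) (h2 : IsMulCommutative (im f H)) : IsMulCommutative H :=
  ab_iff_der.2 (eq_bot_of_le h1 ((q.cc_iff h h).1 (ab_cc h2)) (der_le H))
theorem pi_pre {π : Set ℕ} (h : IsPi π N) (h1 : IsPi π X) : IsPi π (pre f X) := fun p hp hd =>
  (hp.dvd_mul.1 (q.card_pre X ▸ hd)).elim (h p hp) (h1 p hp)
theorem pi_of_im {π : Set ℕ} (h0 : H ≤ M) (h : IsPi π (N ⊓ H)) (h1 : IsPi π (im f H)) : IsPi π H :=
  fun p hp hd => (hp.dvd_mul.1 (card_inf_mul_relIndex N H ▸ hd)).elim (h p hp) fun h2 =>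
    h1 p hp (q.card_im h0 ▸ h2)
theorem sol_top (h : Group.IsSolvable M) : Group.IsSolvable (⊤ : Subgroup Q) := q.im_top ▸ im_sol h le_rfl
theorem odd_top (h : Odd #M) : Odd #(⊤ : Subgroup Q) := q.im_top ▸ im_odd h le_rfl
theorem odd (h : Odd #M) (X : Subgroup Q) : Odd #X := odd_mono (q.odd_top h) le_top
theorem im_O {π : Set ℕ} (h : H ≤ M) (h1 : N ≤ H) (h2 : IsPi π N) : im f (O π H) = O π (im f H) := by
  refine le_antisymm (im_O_le π h) ?_
  rw [← q.im_pre (O π (im f H))]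
  refine im_mono (le_O ?_ (q.nn_pre h (by nrm)) (q.pi_pre h2 (O_pi _ _)))
  exact (pre_mono (O_le _ _)).trans (q.pre_im' h h1).le
/-- coprime action: fixed points in the quotient -/
theorem im_inf_cc (h1 : K ≤ M) (h2 : A ≤ M) (h3 : N ≤ K) (h4 : A ≤ NN K) (hc : (#A).Coprime #N)
    (hs : Group.IsSolvable N) : im f (K ⊓ CC A) = im f K ⊓ CC (im f A) := by
  refine le_antisymm (le_inf (im_mono inf_le_left) (im_cc (inf_le_left.trans h1) h2 inf_le_right)) ?_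
  set L := pre f (im f K ⊓ CC (im f A))
  have hL : L ≤ K := q.pre_im' h1 h3 ▸ pre_mono inf_le_left
  have h5 : ⁅L, A⁆ ≤ N := (q.cc_iff (pre_le _ _) h2).1 (by rw [q.im_pre]; exact inf_le_right)
  have h6 := cop_sup_cc (q.le_pre _) ((pre_le _ _).trans q.nn) (h2.trans q.nn) hc hs h5
  rw [← q.im_pre (_ ⊓ _), q.im_le_iff (pre_le _ _) (inf_le_left.trans h1), ← h6]
  exact sup_le_sup_left (inf_le_inf_right _ hL) _
/-- a `π`-subgroup of the quotient is the image of a `π`-subgroup -/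
theorem exists_pi_lift {π : Set ℕ} (hs : Group.IsSolvable M) (h : IsPi π X) :
    ∃ H ≤ M, IsPi π H ∧ im f H = X ∧ Hall π H (pre f X) := by
  obtain ⟨H, hH⟩ := exists_hall (sol_mono hs (pre_le f X)) π
  have := hH.im (f := f) (pre_le f X)
  rw [q.im_pre] at this
  exact ⟨H, hH.le.trans (pre_le _ _), hH.pi, this.eq_self h, hH⟩
theorem exists_pg_lift {p : ℕ} [Fact p.Prime] (h : IsPGroup p X) :
    ∃ H ≤ M, IsPGroup p H ∧ im f H = X ∧ IsSyl p H (pre f X) := by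
  obtain ⟨H, hH⟩ := exists_isSyl p (pre f X)
  have := im_syl (f := f) hH (pre_le f X)
  rw [q.im_pre] at this
  exact ⟨H, hH.le.trans (pre_le _ _), hH.pgroup, (this.eq_of_le h le_rfl this.le).symm, hH⟩
theorem el_of_im {p n : ℕ} (h : H ≤ M) (h1 : N ⊓ H = ⊥) (h2 : El p n (im f H) X) : El p n H H :=
  ⟨le_rfl, ⟨q.ab_of_im h h1 h2.elem.1, fun x hx => eq_one_of_inf h1
    ((q.eq_one_iff (pow_mem (h hx) p)).1 (by
      have : (⟨x ^ p, pow_mem (h hx) p⟩ : M) = ⟨x, h hx⟩ ^ p := rfl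
      rw [this, map_pow]; exact h2.elem.2 _ (mem_im_of hx _))) (pow_mem hx p)⟩,
    (q.card_im_of_disj h h1).symm.trans h2.card⟩
theorem el_im {p n : ℕ} (h : El p n H K) (h0 : K ≤ M) (h1 : N ⊓ H = ⊥) : El p n (im f H) (im f K) :=
  ⟨im_mono h.le, ⟨im_ab h.elem.1 (h.le.trans h0), by
    rintro _ ⟨x, hx, rfl⟩
    rw [← map_pow, show x ^ p = 1 from Subtype.ext (h.elem.2 _ hx), map_one]⟩,
    (q.card_im_of_disj (h.le.trans h0) h1).trans h.card⟩
/-- ranks do not grow in a quotient by a `p'`-group -/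
theorem rk_of_im {p n : ℕ} [Fact p.Prime] (h0 : K ≤ M) (h1 : N ≤ K) (h2 : ¬ p ∣ #N)
    (h : Rk p n (im f K)) : Rk p n K := by
  obtain ⟨X, hX⟩ := h
  obtain ⟨H, h3, h4, rfl, h5⟩ := q.exists_pg_lift hX.pg
  exact ⟨H, (q.el_of_im h3 (inf_comm H N ▸ pg_inf h4 (pi_compl_iff.2 h2) (by simp)) hX).mono
    (h5.le.trans (q.pre_im' h0 h1 ▸ pre_mono hX.le))⟩
end QM
end

/-! ### nilpotence modulo a normal subgroup -/

/-- `HN/N` is nilpotent (for `H` normalizing `N`) -/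
def NilMod (N H : Subgroup G) : Prop := ∀ p : ℕ, p.Prime → ∀ P, IsSyl p P H → H ≤ NN (N ⊔ P)

section
variable {M N H K A : Subgroup G} {Q : Type u} [Group Q] [Finite Q] {f : M →* Q}

theorem QM.nilMod_iff (q : QM N M f) (h : H ≤ M) : NilMod N H ↔ Group.IsNilpotent (im f H) := by
  refine ⟨fun h1 => nil_of_syls fun p hp _ => ?_, fun h1 p hp P hP => ?_⟩
  · haveI := Fact.mk hp
    obtain ⟨P, hP⟩ := exists_isSyl p H
    exact ⟨_, im_syl hP h, (q.nn_iff h (hP.le.trans h)).2 (h1 p hp P hP)⟩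
  · haveI := Fact.mk hp
    exact (q.nn_iff h (hP.le.trans h)).1 (nil_syl_nn h1 (im_syl hP h))
theorem NilMod.mono (h : NilMod N H) (h0 : H ≤ NN N) (h1 : K ≤ H) : NilMod N K := by
  obtain ⟨Q, _, _, f, q⟩ := exists_qm (le_sup_left : N ≤ N ⊔ H) (sup_le (le_nn N) h0)
  exact (q.nilMod_iff (h1.trans le_sup_right)).2
    (nil_mono ((q.nilMod_iff le_sup_right).1 h) (im_mono h1))
theorem NilMod.nil (h : NilMod N H) (h0 : H ≤ NN N) (h1 : K ≤ H) (h2 : N ⊓ K = ⊥) :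
    Group.IsNilpotent K := by
  obtain ⟨Q, _, _, f, q⟩ := exists_qm (le_sup_left : N ≤ N ⊔ H) (sup_le (le_nn N) h0)
  exact q.nil_of_im (h1.trans le_sup_right) h2
    (nil_mono ((q.nilMod_iff le_sup_right).1 h) (im_mono h1))
theorem NilMod.sub (h : NilMod N H) (h0 : H ≤ NN K) (h1 : N ≤ K) : NilMod K H := fun p hp P hP => by
  have : K ⊔ P = K ⊔ (N ⊔ P) := by rw [← sup_assoc, sup_eq_left.2 h1]
  rw [this]; exact nn_sup h0 (h p hp P hP)
theorem nilMod_of_nil (h : Group.IsNilpotent H) (h0 : H ≤ NN N) : NilMod N H := fun p hp P hP =>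
  haveI := Fact.mk hp; nn_sup h0 (nil_syl_nn h hP)
theorem NilMod.sup (h : NilMod N H) (h0 : H ≤ NN N) : NilMod N (N ⊔ H) := by
  obtain ⟨Q, _, _, f, q⟩ := exists_qm (le_sup_left : N ≤ N ⊔ H) (sup_le (le_nn N) h0)
  exact (q.nilMod_iff le_rfl).2 (by rw [q.im_sup_N le_sup_right]; exact (q.nilMod_iff le_sup_right).1 h)
theorem nilMod_bot : NilMod ⊥ H ↔ Group.IsNilpotent H :=
  ⟨fun h => h.nil nn_bot le_rfl (bot_inf_eq _), fun h => nilMod_of_nil h nn_bot⟩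
/-- coprime subgroups commute modulo `N` -/
theorem NilMod.comm_le (h : NilMod N H) (h0 : H ≤ NN N) (h1 : A ≤ H) (h2 : K ≤ H)
    (hc : (#A).Coprime #K) : ⁅A, K⁆ ≤ N := by
  obtain ⟨Q, _, _, f, q⟩ := exists_qm (le_sup_left : N ≤ N ⊔ H) (sup_le (le_nn N) h0)
  have a := h1.trans (le_sup_right : H ≤ N ⊔ H)
  have b := h2.trans (le_sup_right : H ≤ N ⊔ H)
  exact (q.cc_iff a b).1 (nil_cc ((q.nilMod_iff le_sup_right).1 h) (im_mono h1) (im_mono h2)
    (im_coprime hc a b))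
/-- a Hall subgroup of `H` is characteristic modulo `N` -/
theorem NilMod.nn_hall {π : Set ℕ} (h : NilMod N H) (h0 : H ≤ NN N) (h1 : Hall π K H) (h2 : A ≤ NN N)
    (h3 : A ≤ NN H) : A ≤ NN (N ⊔ K) := by
  obtain ⟨Q, _, _, f, q⟩ := exists_qm (le_sup_left : N ≤ N ⊔ (H ⊔ A))
    (sup_le (le_nn N) (sup_le h0 h2))
  have a : H ≤ N ⊔ (H ⊔ A) := le_sup_left.trans le_sup_right
  have b : A ≤ N ⊔ (H ⊔ A) := le_sup_right.trans le_sup_right
  refine (q.nn_iff b (h1.le.trans a)).1 ?_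
  rw [nil_hall_eq ((q.nilMod_iff a).1 h) (h1.im a)]
  exact nn_O (im_nn b a h3)
/-- a central extension of a nilpotent group -/
theorem NilMod.nil_of_cc (h : NilMod N H) (h1 : H ≤ CC N) : Group.IsNilpotent H :=
  nil_of_syls fun p hp _ => by
    haveI := Fact.mk hp
    obtain ⟨P, hP⟩ := exists_isSyl p H
    refine ⟨P, hP, ?_⟩
    have h2 : IsSyl p P ((N ⊔ P) ⊓ H) := hP.mono (le_inf le_sup_right hP.le) inf_le_right
    refine syl_nn h2 ?_ (nn_inf (h p hp P hP) (le_nn H))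
    rw [sup_comm, dedekind' hP.le (nn_of_cc (hP.le.trans h1))]
    exact sup_le (le_nn P) (nn_of_cc (cc_symm (hP.le.trans (h1.trans (cc_anti inf_le_left)))))
theorem nilMod_of_der_le (h : ⁅H, H⁆ ≤ N) (h0 : H ≤ NN N) : NilMod N H := fun p hp P hP =>
  nn_of_comm_le' (comm_sup_l (nn_of_le le_sup_left) (nn_of_le le_sup_right)
    ((comm_le_left h0).trans le_sup_left) (((commutator_mono hP.le le_rfl).trans h).trans le_sup_left))
end

/-! ### `p`-length one, narrow groups, SCN -/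

/-- `H` has `p`-length at most one -/
def PL1 (p : ℕ) (H : Subgroup G) : Prop := ∀ P, IsSyl p P H → H ≤ NN (O {p}ᶜ H ⊔ P)

/-- `R` is narrow (the form of BG 5.3) -/
def Narrow (p : ℕ) (R : Subgroup G) : Prop := Rk p 3 R → ∃ A, El p 2 A R ∧ MaxEl p A R

/-- `H` has a normal `p`-complement -/
def NPC (p : ℕ) (H : Subgroup G) : Prop := Hall {p}ᶜ (O {p}ᶜ H) H

section
variable {p : ℕ} [hp : Fact p.Prime] {H K P A : Subgroup G}
theorem pl1_of_exists (h : IsSyl p P H) (h1 : H ≤ NN (O {p}ᶜ H ⊔ P)) : PL1 p H := fun R hR => by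
  obtain ⟨g, hg, rfl⟩ := hR.exists_cj_eq h
  have := nn_cj h1 g
  rwa [cj_sup, cj_O, cj_eq_of_mem hg] at this
theorem PL1.frattini (h : PL1 p H) (h1 : IsSyl p P H) : O {p}ᶜ H ⊔ (H ⊓ NN P) = H := by
  have := MS.frattini (h1.mono le_sup_right (sup_le (O_le {p}ᶜ H) h1.le)) (sup_le (O_le _ _) h1.le) (h P h1)
  rwa [sup_assoc, sup_eq_right.2 (le_inf h1.le (le_nn P))] at this
theorem pl1_of_frattini (h1 : IsSyl p P H) (h : H ≤ O {p}ᶜ H ⊔ (H ⊓ NN P)) : PL1 p H :=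
  pl1_of_exists h1 (h.trans (sup_le (nn_of_le le_sup_left)
    (nn_sup (nn_O (nn_of_le inf_le_left)) inf_le_right)))
theorem narrow_of_not_rk (h : ¬ Rk p 3 H) : Narrow p H := fun h1 => absurd h1 h
theorem Narrow.cj (h : Narrow p H) (g : G) : Narrow p (cj g H) := fun h1 => by
  obtain ⟨A, h2, h3⟩ := h (rk_cj.1 h1); exact ⟨_, h2.cj g, h3.cj g⟩
theorem NPC.mono (h : NPC p H) (h1 : K ≤ H) : NPC p K := by
  have := Hall.normal_inf h (by nrm) h1
  rw [NPC, ← this.eq_O (nn_inf (nn_O (nn_of_le h1)) (le_nn K))]; exact this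
theorem NPC.le_O (h : NPC p H) (h1 : K ≤ H) (h2 : IsPi {p}ᶜ K) : K ≤ O {p}ᶜ H :=
  Hall.le_of_normal h (by nrm) h1 h2
theorem NPC.sup (h : NPC p H) (h1 : IsSyl p P H) : O {p}ᶜ H ⊔ P = H :=
  Hall.sup h (by rw [compl_compl]; exact hall_of_syl h1)
theorem npc_of_sup (h1 : IsPi {p}ᶜ K) (h2 : IsPGroup p P) (h3 : P ≤ NN K) : NPC p (K ⊔ P) := by
  have := Hall.of_sup h1 (pi1_of_pg h2).compl_compl h3
  rw [NPC, ← this.eq_O (sup_le (le_nn K) h3)]; exact this
theorem npc_iff : NPC p H ↔ HasNormalPComplement p H := by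
  rw [hasNPC_sub_iff]
  refine ⟨fun h hd => pi_compl_iff.1 (O_pi {p}ᶜ H) (hd.trans (card_dvd (res_le_iff.2 fun g h1 h2 =>
    h.le_O (zpowers_le.2 h1) (pi_compl_iff_coprime.2 (by rwa [Nat.card_zpowers])) (mem_zpowers g)))),
    fun h => ?_⟩
  obtain ⟨P, hP⟩ := exists_isSyl p H
  rw [← hP.res_sup]
  exact npc_of_sup (pi_compl_iff.2 h) hP.pgroup (hP.le.trans (le_normalizer_res H))
theorem npc_of_not_dvd (h : ¬ p ∣ #H) : NPC p H := npc_iff.2 (hasNPC_of_not_dvd h)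
omit hp in
theorem nil_of_npc (h : ∀ p : ℕ, p.Prime → p ∣ #H → NPC p H) : Group.IsNilpotent H :=
  Solv.isNilpotent_of_forall_hasNPC fun p hp => by
    haveI := Fact.mk hp
    by_cases h1 : p ∣ #H
    · exact npc_iff.1 (h p hp h1)
    · exact hasNPC_of_not_dvd h1
theorem NPC.pl1 (h : NPC p H) : PL1 p H := fun P hP => by rw [h.sup hP]; exact le_nn H
end

/-! ### `π`-elements and `π`-parts -/

/-- `x` is a `π`-element -/
def PiE (π : Set ℕ) (x : G) : Prop := IsPi π (zpowers x)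

section
variable {π ρ : Set ℕ} {x y a b g : G} {H : Subgroup G}
theorem piE_iff : PiE π x ↔ ∀ p : ℕ, p.Prime → p ∣ orderOf x → p ∈ π := by
  simp only [PiE, IsPi, Nat.card_zpowers]
theorem IsPi.piE (h : IsPi π H) (hx : x ∈ H) : PiE π x := h.zpow hx
theorem PiE.sub (h : PiE π x) (h1 : π ⊆ ρ) : PiE ρ x := IsPi.sub h h1
theorem PiE.one : PiE π (1 : G) := IsPi.bot.piE (one_mem _)
theorem PiE.of_mem (h : PiE π x) (h1 : y ∈ zpowers x) : PiE π y := IsPi.piE h h1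
theorem PiE.inv (h : PiE π x) : PiE π x⁻¹ := h.of_mem (inv_mem (mem_zpowers x))
theorem PiE.conj (h : PiE π x) (g : G) : PiE π (g * x * g⁻¹) := by
  rw [PiE, ← cj_zpowers]; exact IsPi.cj h g
theorem PiE.mul (h : PiE π x) (h1 : PiE π y) (hc : x * y = y * x) : PiE π (x * y) :=
  (IsPi.sup_l h h1 (nn_of_cc (by rw [cc_zpowers]; exact zpowers_le.2 (mem_C1.2 hc.symm)))).piE
    (mul_mem (mem_sup_left (mem_zpowers x)) (mem_sup_right (mem_zpowers y)))
theorem PiE.eq_one (h : PiE π x) (h1 : PiE πᶜ x) : x = 1 := zpowers_eq_bot.1 (IsPi.eq_bot h h1)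
theorem PiE.mem_hall {K M : Subgroup G} (h : PiE π x) (h1 : Hall π K M) (h2 : x ∈ M) (h3 : x ∈ NN K) :
    x ∈ K := h1.le_of_nn (zpowers_le.2 h2) h (zpowers_le.2 h3) (mem_zpowers x)
theorem exists_part (π : Set ℕ) (g : G) :
    ∃ a ∈ zpowers g, PiE π a ∧ PiE πᶜ (a⁻¹ * g) := by
  have h := nil_O_sup (nil_of_ab (ab_of_cyc (cyc_zpowers g))) π
  obtain ⟨a, h1, b, h2, h3⟩ := (mem_sup_l (nn_O (nn_of_le (O_le _ _)))).1 (h.ge (mem_zpowers g))
  exact ⟨a, O_le _ _ h1, (O_pi _ _).piE h1, by rw [inv_mul_eq_iff_eq_mul.2 h3]; exact (O_pi _ _).piE h2⟩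
/-- the `π`-part of `g` -/
noncomputable def part (π : Set ℕ) (g : G) : G := (exists_part π g).choose
theorem part_mem (π : Set ℕ) (g : G) : part π g ∈ zpowers g := (exists_part π g).choose_spec.1
theorem part_pi (π : Set ℕ) (g : G) : PiE π (part π g) := (exists_part π g).choose_spec.2.1
theorem part_pi' (π : Set ℕ) (g : G) : PiE πᶜ ((part π g)⁻¹ * g) := (exists_part π g).choose_spec.2.2
theorem part_mem_of (h : g ∈ H) : part π g ∈ H := zpowers_le.2 h (part_mem π g)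
theorem C1_le_part (π : Set ℕ) (g : G) : C1 g ≤ C1 (part π g) := C1_le_of_mem_zpowers (part_mem π g)
theorem part_eq (hc : a * b = b * a) (ha : PiE π a) (hb : PiE πᶜ b) : part π (a * b) = a := by
  set c := part π (a * b)
  have h1 : a ∈ C1 c := C1_le_part π _ (mem_C1.2 (by rw [← mul_assoc, mul_assoc a b a, ← hc, mul_assoc]))
  have h2 : b ∈ C1 c := C1_le_part π _ (mem_C1.2 (by rw [← mul_assoc, ← hc]))
  have h3 : PiE π (c⁻¹ * a) := (part_pi π _).inv.mul ha (mem_C1.1 (inv_mem (mem_C1_comm.1 h1)))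
  have h4 : PiE πᶜ (c⁻¹ * (a * b) * b⁻¹) := (part_pi' π _).mul hb.inv (mem_C1.1 (mul_mem
    (inv_mem (mem_C1_comm.1 (inv_mem h2))) (mul_mem (mem_C1_comm.1 (inv_mem (mem_C1.2 hc.symm)))
      (mem_C1_comm.1 (inv_mem (self_mem_C1 b))))))
  rw [← mul_assoc, mul_inv_cancel_right] at h4
  exact inv_mul_eq_one.1 (h3.eq_one h4)
theorem part_comm (π : Set ℕ) (g : G) : part π g * ((part π g)⁻¹ * g) = (part π g)⁻¹ * g * part π g :=
  (mem_C1.1 (mul_mem (inv_mem (self_mem_C1 _)) (C1_le_part π g (self_mem_C1 g)))).symm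
theorem part_compl (π : Set ℕ) (g : G) : part πᶜ g = (part π g)⁻¹ * g := by
  have := part_eq (part_comm π g).symm (part_pi' π g) (by rw [compl_compl]; exact part_pi π g)
  rwa [← part_comm, mul_inv_cancel_left] at this
theorem part_mul_part (π : Set ℕ) (g : G) : part π g * part πᶜ g = g := by
  rw [part_compl, mul_inv_cancel_left]
theorem part_eq' (hc : a * b = b * a) (ha : PiE π a) (hb : PiE πᶜ b) : part πᶜ (a * b) = b := by
  rw [part_compl, part_eq hc ha hb, inv_mul_cancel_left]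
theorem part_self (h : PiE π g) : part π g = g := by simpa using part_eq (by simp) h (PiE.one (π := πᶜ))
theorem part_eq_one : part π g = 1 ↔ PiE πᶜ g :=
  ⟨fun h => by simpa [h] using part_pi' π g,
    fun h => by simpa using part_eq (by simp) (PiE.one (π := π)) h⟩
theorem part_conj (π : Set ℕ) (g x : G) : part π (g * x * g⁻¹) = g * part π x * g⁻¹ := by
  have := part_eq (π := π) (a := g * part π x * g⁻¹) (b := g * ((part π x)⁻¹ * x) * g⁻¹)
    (by simp only [conj_mul]; rw [part_comm]) ((part_pi π x).conj g) ((part_pi' π x).conj g)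
  rwa [conj_mul, mul_inv_cancel_left] at this
end

end Cfsg.Agent.MS
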