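import Cfsg.Agent.Lib.MS.Pre1
import Cfsg.Agent.Lib.BG.Sec5
import Cfsg.Agent.Lib.Solv.Prim

/-!
General lemmas used in BG sections 12, 15 and 16.
-/

set_option linter.unusedSectionVars false
set_option linter.unusedVariables false
set_option linter.style.haveILetI false
set_option linter.unusedSimpArgs false

namespace Cfsg.Agent.MS

open Subgroup Cfsg.Agent.Transfer

universe u
variable {G : Type u} [Group G] [Finite G]
variable {A B E H K L M N P Q R S U V X Y Z : Subgroup G} {p q n : ℕ} {π ρ : Set ℕ}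

theorem IsPi.ne (h : IsPi π H) (hp : p ∉ π) : IsPi {p}ᶜ H := h.sub fun r hr (e : r = p) => hp (e ▸ hr)

theorem nil_ab (h : Group.IsNilpotent N)
    (h1 : ∀ q : ℕ, q.Prime → q ∣ #N → IsMulCommutative (O {q} N)) : IsMulCommutative N :=
  ab_iff.2 (nil_le_of_O h fun q hq hd => cc_symm
    ((nil_O_sup h {q}).ge.trans (sup_le (ab_cc (h1 q hq hd)) (cc_symm (O_cc_O _ _)))))

theorem gaschutz [Fact p.Prime] (hK : IsMulCommutative K) (hp : IsPGroup p K) (hS : IsSyl p S E)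
    (hn : E ≤ NN K) (h1 : K ⊔ Z = S) (h2 : K ⊓ Z = ⊥) : ∃ E0, K ⊔ E0 = E ∧ K ⊓ E0 = ⊥ := by
  have h3 : K ≤ S := h1 ▸ le_sup_left
  have h4 : K ≤ E := h3.trans hS.le
  haveI : (K.subgroupOf E).Normal := (normal_subgroupOf_iff_le_normalizer h4).2 hn
  haveI : IsMulCommutative (K.subgroupOf E) := by infer_instance
  obtain ⟨H, hH⟩ := Solv.gaschutz_exists (K := K.subgroupOf E) (U := S.subgroupOf E)
    (A := Z.subgroupOf E) (comap_mono h3) (by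
      rw [Nat.card_congr (subgroupOfEquivOfLe h4).toEquiv]
      obtain ⟨k, hk⟩ := IsPGroup.iff_card.1 hp
      exact hk ▸ (((Nat.Prime.coprime_iff_not_dvd Fact.out).2 hS.not_dvd).pow_left k))
    (by rw [subgroupOf, subgroupOf, ← comap_inf, inf_comm, h2]; exact bot_subgroupOf _)
    (by rw [← subgroupOf_sup h4 ((h1 ▸ le_sup_right : Z ≤ S).trans hS.le), h1])
  refine ⟨H.map E.subtype, ?_, ?_⟩
  · rw [← map_subgroupOf_eq_of_le h4, ← Subgroup.map_sup, hH.sup_eq_top, ← MonoidHom.range_eq_map,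
      range_subtype]
  · rw [← map_subgroupOf_eq_of_le h4, ← Subgroup.map_inf _ _ _ E.subtype_injective,
      hH.disjoint.eq_bot, Subgroup.map_bot]

theorem nn_cc_comm (h1 : N ≤ NN K) (h2 : X ≤ N) (h3 : ⁅N, N⁆ ≤ CC K) :
    N ≤ NN (K ⊓ CC X) ∧ N ≤ NN ⁅K, X⁆ := by
  have h4 : N ≤ NN (X ⊔ ⁅N, N⁆) := nn_of_der_le le_sup_right (sup_le h2 (der_le N))
  have h5 : K ⊓ CC X = K ⊓ CC (X ⊔ ⁅N, N⁆) := by
    rw [cc_sup, ← inf_assoc, inf_eq_left.2 (inf_le_left.trans (cc_symm h3))]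
  have h6 : ⁅K, X⁆ = ⁅K, X ⊔ ⁅N, N⁆⁆ := le_antisymm (commutator_mono le_rfl le_sup_left)
    (comm_sup_r (right_nn_comm _ _) (nn_of_cc (h3.trans (cc_anti (comm_le_left (h2.trans h1)))))
      le_rfl ((comm_eq_bot'.2 h3).le.trans bot_le))
  exact ⟨h5 ▸ by nrm, h6 ▸ by nrm⟩

theorem sup_inf_cc (h1 : P ≤ NN K) (h2 : P ≤ NN Q) (h3 : Q ≤ NN K) (h : K ⊓ Q = ⊥) :
    (K ⊔ Q) ⊓ CC P = (K ⊓ CC P) ⊔ (Q ⊓ CC P) := by
  refine le_antisymm (fun x ⟨hx, hc⟩ => ?_)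
    (sup_le (inf_le_inf_right _ le_sup_left) (inf_le_inf_right _ le_sup_right))
  obtain ⟨a, ha, b, hb, rfl⟩ := (mem_sup_l h3).1 hx
  have key : ∀ y ∈ P, y * a * y⁻¹ = a := fun y hy => by
    have e : a⁻¹ * (y * a * y⁻¹) = b * (y * b * y⁻¹)⁻¹ := by
      have := mem_CC.1 hc y hy
      rw [show a⁻¹ * (y * a * y⁻¹) = a⁻¹ * (y * (a * b)) * y⁻¹ * (y * b * y⁻¹)⁻¹ by group, this]
      group
    have := eq_one_of_inf h (mul_mem (inv_mem ha) (conj_mem_of_mem_normalizer (h1 hy) ha))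
      (e ▸ mul_mem hb (inv_mem (conj_mem_of_mem_normalizer (h2 hy) hb)))
    exact (inv_mul_eq_one.1 this).symm
  have h4 : a ∈ CC P := mem_CC.2 fun y hy => mul_inv_eq_iff_eq_mul.1 (key y hy)
  exact mul_mem (mem_sup_left ⟨ha, h4⟩) (mem_sup_right ⟨hb, (mul_mem_cancel_left h4).1 hc⟩)

/-- coprime action of a group `Q` with `Q / Z` abelian and not cyclic -/
theorem cop_gen_mod (hQ : Q ≤ NN K) (hc : (#Q).Coprime #K) (h1 : Z ≤ Q) (h2 : Z ≤ CC K)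
    (h3 : ⁅Q, Q⁆ ≤ Z) (h4 : ∀ x ∈ Q, ¬ Q ≤ Z ⊔ zpowers x)
    (h : ∀ a ∈ Q, a ∉ Z → K ⊓ C1 a ≤ H) : K ≤ H := by
  obtain ⟨T, _, _, f, q⟩ := exists_qm (N := Z) (M := K ⊔ Q) (h1.trans le_sup_right)
    (sup_le (nn_of_cc (cc_symm h2)) (nn_of_der_le h3 h1))
  have hK : K ≤ K ⊔ Q := le_sup_left
  have hQ' : Q ≤ K ⊔ Q := le_sup_right
  have hd : Z ⊓ K = ⊥ := inf_of_coprime (coprime_mono hc h1 le_rfl)
  have h5 : im f K ≤ im f (K ⊓ H) := cop_gen (ab_iff.2 ((q.cc_iff hQ' hQ').2 h3)) (fun hcy => by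
    obtain ⟨_, ha, e⟩ := exists_zpowers hcy
    obtain ⟨x, hx, rfl⟩ := mem_im.1 ha
    refine h4 x hx ((q.im_le_iff hQ' ((zpowers_le.2 hx).trans hQ')).1 ?_)
    rw [im_zpowers x.2]; exact e.le) (im_nn hQ' hK hQ) (im_coprime hc hQ' hK) fun _ ha h0 y hy => by
      replace ha := mem_im.1 ha
      obtain ⟨a, ha, rfl⟩ := ha
      obtain ⟨k, hk, rfl⟩ := mem_im.1 hy.1
      have h6 : (k : G) * a * (k : G)⁻¹ * (a : G)⁻¹ ∈ Z := (q.eq_one_iff (k * a * k⁻¹ * a⁻¹).2).1 (by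
        change f (k * a * k⁻¹ * a⁻¹) = 1
        simp only [map_mul, map_inv, mem_C1.1 hy.2]; group)
      have h7 := eq_one_of_inf hd h6 (by
        simpa [mul_assoc] using mul_mem hk (conj_mem_of_mem_normalizer (hQ ha) (inv_mem hk)))
      exact mem_im.2 ⟨k, ⟨hk, h a ha (fun e => h0 ((q.eq_one_iff a.2).2 e)) ⟨hk, mem_C1.2 (by
        rw [mul_inv_eq_one, mul_inv_eq_iff_eq_mul] at h7; exact h7)⟩⟩, rfl⟩
  have h6 := (q.im_le_iff hK (inf_le_left.trans hK)).1 h5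
  calc K = (K ⊓ H ⊔ Z) ⊓ K := (inf_eq_right.2 (sup_comm Z _ ▸ h6)).symm
    _ = K ⊓ H ⊔ Z ⊓ K := dedekind inf_le_left (nn_of_cc (h2.trans (cc_anti inf_le_left)))
    _ ≤ H := by rw [hd, sup_bot_eq]; exact inf_le_right

theorem pow_eq_one_of_syl (h : ∀ q : ℕ, q.Prime → q ∣ #U → ∃ Q, IsSyl q Q U ∧ ∀ x ∈ Q, x ^ n = 1)
    {x : G} (hx : x ∈ U) : x ^ n = 1 := by
  rw [← orderOf_dvd_iff_pow_eq_one, Nat.dvd_iff_prime_pow_dvd_dvd]
  intro q k hq hd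
  haveI := Fact.mk hq
  cases k with
  | zero => simp
  | succ k =>
  obtain ⟨Q, h1, h2⟩ := h q hq ((dvd_pow_self q k.succ_ne_zero).trans (hd.trans (orderOf_dvd hx)))
  have h3 : orderOf (x ^ (orderOf x / q ^ (k + 1))) = q ^ (k + 1) :=
    orderOf_pow_orderOf_div (orderOf_pos x).ne' hd
  obtain ⟨g, -, h4⟩ := h1.exists_cj_le (IsPGroup.of_card ((Nat.card_zpowers _).trans h3))
    (zpowers_le.2 (pow_mem hx _))
  have := h2 _ (h4 (conj_mem_cj (mem_zpowers _)))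
  rw [conj_pow, mul_inv_eq_one, mul_eq_left] at this
  exact h3 ▸ orderOf_dvd_of_pow_eq_one this

theorem exp_dvd_iff : Monoid.exponent U ∣ n ↔ ∀ x ∈ U, x ^ n = 1 :=
  Monoid.exponent_dvd_iff_forall_pow_eq_one.trans
    ⟨fun h x hx => congrArg Subtype.val (h ⟨x, hx⟩), fun h x => Subtype.ext (h x x.2)⟩

theorem pow_exp {x : G} (hx : x ∈ U) : x ^ Monoid.exponent U = 1 := exp_dvd_iff.1 dvd_rfl x hx

theorem exp_eq (h : V ≤ U) (h1 : ∀ x ∈ U, x ^ Monoid.exponent V = 1) :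
    Monoid.exponent V = Monoid.exponent U :=
  Nat.dvd_antisymm (exp_dvd_iff.2 fun _ hx => pow_exp (h hx)) (exp_dvd_iff.2 h1)

theorem reg_sup (hs : Group.IsSolvable (A ⊔ B : Subgroup G)) (hA : IsPi π A) (hB : IsPi πᶜ B)
    (h : B ≤ NN A) (hn : A ⊔ B ≤ NN K) (h1 : Reg K A) (h2 : Reg K B) : Reg K (A ⊔ B) := by
  refine reg_of_prime fun X hX hp => ?_
  by_cases h3 : #X ∈ π
  · exact h1.cc ((Hall.of_sup hA hB h).le_of_normal (sup_le (le_nn _) h) hX (pi_of_card rfl hp h3))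
      (prime_ne_bot hp)
  · obtain ⟨g, hg, e⟩ := Hall.exists_cj_le hs (sup_comm A B ▸ Hall.of_sup' hB hA.compl_compl h) hX
      (pi_of_card rfl hp h3)
    have := h2.cc e (mt cj_eq_bot_iff.1 (prime_ne_bot hp))
    rwa [← cj_nn (hn hg), ← cj_centralizer, ← cj_inf, cj_eq_bot_iff] at this

/-- BG 5.3(d) -/
theorem line_inf_der [Fact p.Prime] (hp : p ≠ 2) (hR : IsPGroup p R) (hr : Rk p 3 R) (hX : X ≤ R)
    (h1 : #X = p) (h2 : ¬ Rk p 3 (R ⊓ CC X)) : X ⊓ ⁅R, R⁆ = ⊥ :=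
  (BG.narrow_cent_dprod hp hR (rk_iff.1 hr) (el_one hX h1).bg hX (not_rk_iff.1 h2)).2.1

theorem cyc_line_le [Fact p.Prime] (h : IsCyclic Q) (hX : X ≤ Q) (h1 : #X = p) (hY : Y ≤ Q)
    (h2 : IsPGroup p Y) (h0 : Y ≠ ⊥) : X ≤ Y := cyc_le h hX hY (h1 ▸ pg_dvd h2 h0)

theorem line_cj [Fact p.Prime] (hp : p ≠ 2) (h : ¬ Rk p 2 M) (hX : X ≤ M) (h1 : #X = p) (hY : Y ≤ M)
    (h2 : #Y = p) : ∃ g ∈ M, cj g Y = X := by
  obtain ⟨P, h3, h4⟩ := exists_isSyl_ge (pg_of_card h1) hX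
  obtain ⟨g, hg, e⟩ := h3.exists_cj_le (pg_of_card h2) hY
  exact ⟨g, hg, cyc_eq (cyc_of_not_rk2 hp h3.pgroup fun h' => h (h'.mono h3.le)) e h4
    (by rw [card_cj, h1, h2])⟩

theorem le_omega_of_card [hp : Fact p.Prime] (hX : X ≤ P) (h1 : #X = p) : X ≤ omegaOne p P :=
  le_omega hX (el_one hX h1).elem

theorem pi_inf_der (h : IsPi π H) (h1 : ∀ p ∈ π, ¬ p ∣ #K) : H ⊓ K = ⊥ :=
  h.inf fun p _ hd hp => h1 p hp hd

theorem relIndex_dvd_of_le (h : A ≤ B) (H : Subgroup G) : B.relIndex H ∣ A.relIndex H :=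
  relIndex_dvd_of_le_left H h

theorem pg_le_of_not_dvd [Fact p.Prime] (hQ : IsPGroup p Q) (h : Q ≤ E) (hn : E ≤ NN K)
    (hd : ¬ p ∣ K.relIndex E) : Q ≤ K := by
  obtain ⟨P, hP⟩ := exists_isSyl p (E ⊓ K)
  obtain ⟨g, hg, e⟩ := (hP.trans inf_le_left (by rwa [inf_relIndex_left])).exists_cj_le hQ h
  exact (cj_le_iff_le_cj_inv.1 (e.trans (hP.le.trans inf_le_right))).trans
    (cj_nn (hn (inv_mem hg))).le

theorem pow_exp_mono (h : Z ≤ U) {x : G} (hx : x ^ Monoid.exponent Z = 1) :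
    x ^ Monoid.exponent U = 1 := by
  obtain ⟨k, e⟩ : Monoid.exponent Z ∣ Monoid.exponent U := exp_dvd_iff.2 fun _ hx => pow_exp (h hx)
  rw [e, pow_mul, hx, one_pow]

theorem reg_of_line [Fact p.Prime] (hZ : IsCyclic Z) (hp : IsPGroup p Z) (hX : X ≤ Z) (h1 : #X = p)
    (h : K ⊓ CC X = ⊥) : Reg K Z := reg_of_prime fun Y a b => by
  rwa [cyc_eq hZ a hX ((pi1_of_pg hp _ b (card_dvd a)).trans h1.symm)]

theorem comm_of_ab (h : IsMulCommutative S) {x y : G} (hx : x ∈ S) (hy : y ∈ S) : Commute x y :=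
  mem_CC.1 (ab_cc h hy) x hx

/-- the last nontrivial power subgroup of an abelian `p`-group -/
theorem exists_mho [hp : Fact p.Prime] (hS : IsPGroup p S) (ha : IsMulCommutative S) (h0 : S ≠ ⊥) :
    ∃ W ≤ omegaOne p S, W ≠ ⊥ ∧ NN S ≤ NN W ∧ ∀ X ≤ W, #X = p →
      ∃ z ∈ S, X ≤ zpowers z ∧ ∀ x ∈ S, x ^ orderOf z = 1 := by
  obtain ⟨k, hk⟩ := IsPGroup.iff_card.1 hS
  obtain ⟨m, -, e⟩ := (Nat.dvd_prime_pow hp.out).1 (hk ▸ Group.exponent_dvd_nat_card (G := S))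
  have h1 : ∀ n, (∀ x ∈ S, x ^ p ^ n = 1) → m ≤ n := fun n h =>
    (Nat.pow_dvd_pow_iff_le_right hp.out.one_lt).1 (e ▸ exp_dvd_iff.2 h)
  have h2 : ∀ x ∈ S, x ^ p ^ m = 1 := fun x hx => e ▸ pow_exp hx
  cases m with
  | zero => exact absurd ((eq_bot_iff_forall _).2 fun x hx => by simpa using h2 x hx) h0
  | succ n =>
  let W : Subgroup G := {
    carrier := {y | ∃ x ∈ S, x ^ p ^ n = y}
    one_mem' := ⟨1, one_mem _, one_pow _⟩
    mul_mem' := by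
      rintro _ _ ⟨a, h3, rfl⟩ ⟨b, h4, rfl⟩; exact ⟨_, mul_mem h3 h4, (comm_of_ab ha h3 h4).mul_pow _⟩
    inv_mem' := by rintro _ ⟨a, h3, rfl⟩; exact ⟨_, inv_mem h3, inv_pow _ _⟩ }
  refine ⟨W, ?_, fun h => (h1 n fun x hx => (eq_bot_iff_forall _).1 h _ ⟨x, hx, rfl⟩).not_gt
    n.lt_succ_self, fun g hg => mem_normalizer_of_cj_le (cj_le_iff.2 ?_), fun X a b => ?_⟩
  · rintro _ ⟨x, hx, rfl⟩
    exact mem_omega (pow_mem hx _) (by rw [← pow_mul, ← pow_succ, h2 x hx])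
  · rintro _ ⟨x, hx, rfl⟩
    exact ⟨_, conj_mem_of_mem_normalizer hg hx, conj_pow⟩
  · obtain ⟨y, c, d⟩ := exists_ne_one (prime_ne_bot (b ▸ hp.out))
    obtain ⟨z, hz, rfl⟩ := a c
    exact ⟨z, hz, prime_eq_zpowers (b ▸ hp.out) c d ▸ zpowers_le.2 (pow_mem (mem_zpowers z) _),
      orderOf_eq_prime_pow d (h2 z hz) ▸ h2⟩

theorem exists_gen_of_sup [hp : Fact p.Prime] (hS : IsPGroup p S) (ha : IsMulCommutative S)
    (h : A ⊔ B = S) (hA : IsCyclic A) (hB : IsCyclic B) :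
    ∃ z, (zpowers z = A ∨ zpowers z = B) ∧ ∀ x ∈ S, x ^ orderOf z = 1 := by
  wlog hd : #A ∣ #B generalizing A B
  · obtain ⟨i, hi⟩ := IsPGroup.iff_card.1 (hS.to_le (h ▸ le_sup_left : A ≤ S))
    obtain ⟨j, hj⟩ := IsPGroup.iff_card.1 (hS.to_le (h ▸ le_sup_right : B ≤ S))
    rw [hi, hj, Nat.pow_dvd_pow_iff_le_right hp.out.one_lt] at hd
    exact (this (sup_comm A B ▸ h) hB hA (hi ▸ hj ▸ pow_dvd_pow _ (by omega))).imp
      fun _ h => ⟨h.1.symm, h.2⟩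
  obtain ⟨z, -, rfl⟩ := exists_zpowers hB
  refine ⟨z, .inr rfl, fun x hx => ?_⟩
  have h1 : A ≤ S := h ▸ le_sup_left
  have h2 : zpowers z ≤ S := h ▸ le_sup_right
  obtain ⟨a, h3, b, h4, rfl⟩ := (mem_sup_l (ab_nn ha h2 h1)).1 (h ▸ hx : x ∈ A ⊔ zpowers z)
  rw [(comm_of_ab ha (h1 h3) (h2 h4)).mul_pow, ← Nat.card_zpowers,
    orderOf_dvd_iff_pow_eq_one.1 ((orderOf_dvd h3).trans hd),
    orderOf_dvd_iff_pow_eq_one.1 (orderOf_dvd h4), one_mul]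

theorem le_of_cyc_mod [hp : Fact p.Prime] (hQ : IsPGroup p Q) (h1 : Z ≤ Q) (h2 : Q ≤ NN Z) {x : G}
    (hx : x ∈ Q) (h3 : Q ≤ Z ⊔ zpowers x) (hB : B ≤ Q) (he : ∀ b ∈ B, b ^ p = 1) (hR : R ≤ Q)
    (h4 : ¬ R ≤ Z) : B ≤ Z ⊔ R := by
  obtain ⟨T, _, _, f, q⟩ := exists_qm h1 h2
  have h5 : IsCyclic (im f Q) := cyc_mono (im_cyc (cyc_zpowers x) (zpowers_le.2 hx))
    ((q.im_le_iff le_rfl (zpowers_le.2 hx)).2 h3)
  refine (q.im_le_iff hB hR).1 fun y hy => ?_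
  replace hy := mem_im.1 hy
  obtain ⟨b, hb, rfl⟩ := hy
  rcases eq_or_ne (f b) 1 with e | e
  · exact e ▸ one_mem _
  refine cyc_line_le (p := p) h5 (zpowers_le.2 (mem_im.2 ⟨b, b.2, rfl⟩)) ?_ (im_mono hR)
    (im_pg (hQ.to_le hR)) (mt (q.im_eq_bot hR).1 h4) (mem_zpowers _)
  rw [Nat.card_zpowers]
  exact orderOf_eq_prime (by rw [← map_pow, show b ^ p = 1 from Subtype.ext (he b hb), map_one]) e

theorem relIndex_sup_dvd (h : U ≤ NN K) : U.relIndex (K ⊔ U) ∣ #K := by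
  have h1 := Transfer.card_mul_relIndex (le_sup_right : U ≤ K ⊔ U)
  rw [← Transfer.card_mul_relIndex (le_sup_left : K ≤ K ⊔ U), relIndex_sup_l h] at h1
  have h2 := Comp.relIndex_mul_card_inf K U
  refine ⟨#(K ⊓ U : Subgroup G), Nat.eq_of_mul_eq_mul_left (card_pos' U) ?_⟩
  rw [← mul_assoc, h1, mul_assoc, h2, mul_comm]

theorem hall_of_sup (h : K ⊔ U = H) (h1 : U ≤ NN K) (h2 : IsPi π K) (hV : Hall πᶜ V U) : Hall πᶜ V H :=
  Hall.mk' (hV.le.trans (h ▸ le_sup_right)) hV.pi fun p hp a b => by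
    rw [← relIndex_mul_relIndex V U H hV.le (h ▸ le_sup_right)] at b
    exact (hp.dvd_mul.1 b).elim (hV.nd hp a) fun b => a (h2 p hp (b.trans (h ▸ relIndex_sup_dvd h1)))

theorem p3_der_le [Fact p.Prime] (h : #S = p ^ 3) : ⁅S, S⁆ ≤ CC S := by
  have hp : IsPGroup p S := .of_card h
  obtain ⟨T, _, _, f, q⟩ := exists_qm (N := S ⊓ CC S) (M := S) inf_le_left (by nrm)
  refine ((q.cc_iff le_rfl le_rfl).1 (ab_cc (BG.comm_of_card_le (im_pg hp) ?_))).trans inf_le_right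
  have h1 := q.card_pre (im f S)
  rw [q.pre_im' le_rfl inf_le_left, h] at h1
  have h2 := BG.le_card_of_ne_bot (hp.to_le (inf_le_left : S ⊓ CC S ≤ S)) (nil_meet (nil_of_pg hp)
    le_rfl (le_nn S) (ne_bot_of_dvd Fact.out (h ▸ dvd_pow_self p three_ne_zero)))
  refine Nat.le_of_mul_le_mul_left ?_ (Fact.out : p.Prime).pos
  rw [← pow_succ', h1]; exact Nat.mul_le_mul_right _ h2

end Cfsg.Agent.MS
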