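import Cfsg.Agent.Lib.MS.Aux12
import Cfsg.Agent.Lib.BG.Sec3

/-!
General lemmas used in BG sections 15 and 16.
-/

set_option linter.unusedSectionVars false
set_option linter.unusedVariables false
set_option linter.style.haveILetI false
set_option linter.unusedSimpArgs false

namespace Cfsg.Agent.MS

open Subgroup Cfsg.Agent.Transfer

universe u
variable {G : Type u} [Group G] [Finite G]
variable {A B C D E H K L M N P Q R S U V X Y Z : Subgroup G} {p q n : ℕ} {π ρ : Set ℕ}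

/-- Thompson's theorem modulo a normal subgroup -/
theorem nilMod_of_fpf (hP : (#P).Prime) (h1 : P ≤ NN L) (h2 : P ≤ NN N) (h3 : N ≤ L) (h4 : L ≤ NN N)
    (hc : (#P).Coprime #N) (hs : Group.IsSolvable N) (h : L ⊓ CC P ≤ N) : NilMod N L := by
  obtain ⟨T, _, _, f, q⟩ := exists_qm (N := N) (M := L ⊔ P) (h3.trans le_sup_left) (sup_le h4 h2)
  refine (q.nilMod_iff le_sup_left).2 (prime_nil (R := im f P) ?_ (im_nn le_sup_right le_sup_left h1) ?_)
  · rwa [q.card_im_of_disj le_sup_right (inf_of_coprime hc.symm)]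
  · rwa [← q.im_inf_cc le_sup_left le_sup_right h3 h1 hc hs, q.im_eq_bot (inf_le_left.trans le_sup_left)]

theorem ab_sup (hA : IsMulCommutative A) (hB : IsMulCommutative B) (h : A ≤ CC B) :
    IsMulCommutative (A ⊔ B : Subgroup G) :=
  ab_iff.2 (sup_le (le_cc_sup (ab_cc hA) h) (le_cc_sup (cc_symm h) (ab_cc hB)))

theorem pow_mem_of_sup (h : U ≤ NN H) (h1 : ∀ u ∈ U, u ^ n ∈ H) {m : G} (hm : m ∈ H ⊔ U) : m ^ n ∈ H := by
  obtain ⟨T, _, _, f, q⟩ := exists_qm (N := H) (M := H ⊔ U) le_sup_left (sup_le (le_nn H) h)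
  obtain ⟨a, ha, u, hu, rfl⟩ := (mem_sup_l h).1 hm
  have e : f ⟨a * u, hm⟩ = f ⟨a, mem_sup_left ha⟩ * f ⟨u, mem_sup_right hu⟩ := by
    rw [← map_mul]; rfl
  rw [(q.eq_one_iff _).2 ha, one_mul] at e
  rw [← q.eq_one_iff (pow_mem hm n)]
  refine (map_pow f ⟨a * u, hm⟩ n).trans ?_
  rw [e, ← map_pow]
  exact (q.eq_one_iff (pow_mem (mem_sup_right hu) n)).2 (h1 u hu)

theorem der_sup_center (h : C ≤ CC (S ⊔ C)) : ⁅S ⊔ C, S ⊔ C⁆ ≤ ⁅S, S⁆ := by
  have a : C ≤ NN ⁅S, S⁆ := nn_of_cc (h.trans (cc_anti ((der_le S).trans le_sup_left)))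
  refine comm_sup_l (left_nn_comm S S) a (comm_sup_r (left_nn_comm S S) a le_rfl ?_) ?_
  · exact (comm_eq_bot'.2 (h.trans (cc_anti le_sup_left))).le.trans bot_le
  · exact (comm_eq_bot.2 h).le.trans bot_le

theorem Hall.relIndex_eq (h : Hall π H M) (h1 : Hall πᶜ K M) : H.relIndex M = #K :=
  Nat.eq_of_mul_eq_mul_left (card_pos' H) ((Transfer.card_mul_relIndex h.le).trans (h.card_mul h1).symm)

/-- the elements acting trivially on `C` modulo `X` -/
abbrev AK (X C : Subgroup G) : Subgroup G := Comp.actKer X C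
theorem le_AK : A ≤ AK X C ↔ A ≤ NN X ∧ ⁅C, A⁆ ≤ X := by
  rw [Comp.le_actKer_iff, commutator_comm]
theorem nn_AK (h1 : A ≤ NN X) (h2 : A ≤ NN C) : A ≤ NN (AK X C) := BG.le_normalizer_actKer h1 h2
theorem comm_AK (h : A ≤ AK X C) : ⁅C, A⁆ ≤ X := (le_AK.1 h).2

/-- BG 2.5 for an extraspecial group of order `p ^ 3` -/
theorem bg2_5 [hp : Fact p.Prime] (hS : #S = p ^ 3) (ha : ¬ IsMulCommutative S)
    (hZ : #(S ⊓ CC S : Subgroup G) = p) (hK : IsCyclic K) (hn : K ≤ NN S) (hc : ¬ p ∣ #K)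
    (h1 : K ≤ CC (S ⊓ CC S)) (h2 : ∀ a ∈ K, a ≠ 1 → S ⊓ C1 a ≤ CC S) : #K ∣ p - 1 ∨ #K ∣ p + 1 := by
  obtain ⟨x, hx, rfl⟩ := exists_zpowers hK
  have a1 : ⁅S, S⁆ ≤ S ⊓ CC S := le_inf (der_le S) (p3_der_le hS)
  have a2 : ⁅S, S⁆ = S ⊓ CC S := prime_eq_of_le (hZ ▸ hp.out) a1 (mt ab_iff_der.2 ha)
  obtain ⟨d, a, a3, a4, -⟩ := BG.exists_dim_sub (K := S) (Z := S ⊓ CC S) (x := x) rfl (hn hx)
    (Representation.leftRegular ℂ (S ⊔ zpowers x : Subgroup G)) (Nat.cast_ne_zero.2 (card_ne_zero _))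
    inf_le_left (le_cc_sup inf_le_right (cc_symm h1)) a1 (fun e => ha (ab_iff_der.2 (eq_bot_iff.2
      fun g hg => by
        have b := LinearMap.congr_fun (MonoidHom.mem_ker.1 (e (x := ⟨g, mem_sup_left (der_le S hg)⟩) hg))
          (MonoidAlgebra.single 1 1)
        rw [Representation.ofMulAction_single, smul_eq_mul, mul_one] at b
        exact congrArg Subtype.val ((MonoidAlgebra.single_left_injective one_ne_zero) b))))
    (fun N _ b g b1 b2 => by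
      by_contra! b3
      refine b2 ⟨b1, mem_CC.2 fun h b4 => commutatorElement_eq_one_iff_mul_comm.1 (eq_one_of_inf
        (prime_inf (a2 ▸ hZ ▸ hp.out) b) (commutator_mem_commutator b4 b1) (b3 h b4))⟩)
    (fun a b1 b2 => le_inf inf_le_left (h2 a b1 b2))
    (by rw [hZ, ← Nat.card_zpowers]; exact ((Nat.Prime.coprime_iff_not_dvd hp.out).2 hc).symm)
  have a5 := Transfer.card_mul_relIndex (inf_le_left : S ⊓ CC S ≤ S)
  rw [hZ, ← a3, hS, pow_succ' p 2] at a5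
  obtain rfl : d = p := (Nat.pow_left_injective two_ne_zero (Nat.eq_of_mul_eq_mul_left hp.out.pos a5))
  rw [Nat.card_zpowers]
  rcases a4 with b | b
  · exact Or.inl ⟨a, by omega⟩
  · exact Or.inr ⟨_, b⟩

end Cfsg.Agent.MS
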