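import Cfsg.Agent.Lib.Transfer.Rank
import Cfsg.Agent.Lib.Transfer.Hall
import Cfsg.Agent.Lib.Solv.Hall
import Cfsg.Agent.Lib.Solv.Gen
import Cfsg.Agent.Lib.Solv.Schmidt
import Cfsg.Agent.Lib.Comp.Loc
import Cfsg.Prelude.Def_OddOrderLocal

/-!
Vocabulary for the local analysis of a minimal simple group of odd order: π-subgroups, cores, Hall
subgroups, ranks, all for subgroups of one ambient finite group.
-/

set_option linter.unusedSectionVars false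
set_option linter.unusedVariables false
set_option linter.style.haveILetI false
set_option linter.unusedSimpArgs false

namespace Cfsg.Agent.MS

open Subgroup Cfsg.Agent.Transfer

scoped notation:max "NN " H:max => Subgroup.normalizer (SetLike.coe H)
scoped notation:max "CC " H:max => Subgroup.centralizer (SetLike.coe H)
scoped notation:max "C1 " x:max => Subgroup.centralizer (Singleton.singleton x)
scoped notation:max "#" H:max => Nat.card H

universe u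
variable {G : Type u} [Group G]

/-! ### normalizers and centralizers -/

section NC
variable {A B H K : Subgroup G} {x g : G}

theorem mem_C1 : g ∈ C1 x ↔ g * x = x * g := mem_centralizer_singleton_iff
theorem mem_C1_comm : g ∈ C1 x ↔ x ∈ C1 g := by rw [mem_C1, mem_C1, eq_comm]
theorem self_mem_C1 (x : G) : x ∈ C1 x := mem_C1.2 rfl
theorem mem_CC : g ∈ CC H ↔ ∀ h ∈ H, h * g = g * h := mem_centralizer_iff
theorem cc_comm : A ≤ CC B ↔ B ≤ CC A := le_centralizer_iff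
theorem cc_symm (h : A ≤ CC B) : B ≤ CC A := le_centralizer_iff.1 h
theorem cc_anti (h : H ≤ K) : CC K ≤ CC H := centralizer_le h
theorem cc_le_nn (H : Subgroup G) : CC H ≤ NN H := centralizer_le_normalizer _
theorem nn_of_cc (h : A ≤ CC H) : A ≤ NN H := h.trans (cc_le_nn H)
theorem le_nn (H : Subgroup G) : H ≤ NN H := le_normalizer
theorem nn_of_le (h : A ≤ H) : A ≤ NN H := h.trans le_normalizer
theorem cc_sup (H K : Subgroup G) : CC (H ⊔ K) = CC H ⊓ CC K := Comp.centralizer_sup H K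
theorem le_cc_sup (h1 : A ≤ CC H) (h2 : A ≤ CC K) : A ≤ CC (H ⊔ K) := cc_sup H K ▸ le_inf h1 h2
theorem cc_zpowers (x : G) : CC (zpowers x) = C1 x := Comp.centralizer_zpowers x
theorem cc_le_C1 (h : x ∈ H) : CC H ≤ C1 x := Comp.centralizer_le_centralizer_singleton h
theorem le_C1_iff : H ≤ C1 x ↔ x ∈ CC H := Comp.le_centralizer_singleton_iff
theorem le_cc_iff : K ≤ CC A ↔ ∀ a ∈ A, K ≤ C1 a := Comp.le_centralizer_iff_forall
theorem cc_bot : CC (⊥ : Subgroup G) = ⊤ := by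
  rw [eq_top_iff, cc_comm]; exact bot_le
theorem C1_one : C1 (1 : G) = ⊤ := by rw [← cc_zpowers, zpowers_one_eq_bot, cc_bot]
theorem C1_pow_ge (x : G) (n : ℕ) : C1 x ≤ C1 (x ^ n) := by
  rw [← cc_zpowers]; exact cc_le_C1 (pow_mem (mem_zpowers x) n)
theorem C1_le_of_mem_zpowers {y : G} (h : y ∈ zpowers x) : C1 x ≤ C1 y := by
  rw [← cc_zpowers]; exact cc_le_C1 h
theorem nn_inf (h1 : A ≤ NN H) (h2 : A ≤ NN K) : A ≤ NN (H ⊓ K) := Comp.le_normalizer_inf h1 h2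
theorem nn_sup (h1 : A ≤ NN H) (h2 : A ≤ NN K) : A ≤ NN (H ⊔ K) := Comp.le_normalizer_sup h1 h2
theorem nn_comm (h1 : A ≤ NN H) (h2 : A ≤ NN K) : A ≤ NN ⁅H, K⁆ :=
  Comp.le_normalizer_commutator h1 h2
theorem nn_cc (h : A ≤ NN H) : A ≤ NN (CC H) := Comp.le_normalizer_centralizer h
theorem nn_nn (h : A ≤ NN H) : A ≤ NN (NN H) := Comp.le_normalizer_normalizer h
theorem nn_C1 (h : A ≤ C1 x) : A ≤ NN (C1 x) := Comp.le_normalizer_centralizer_singleton h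
theorem nn_bot : A ≤ NN (⊥ : Subgroup G) := by rw [normalizer_eq_top]; exact le_top
theorem nn_top : A ≤ NN (⊤ : Subgroup G) := by rw [normalizer_eq_top]; exact le_top
theorem nn_normal [H.Normal] : A ≤ NN H := by rw [normalizer_eq_top]; exact le_top
theorem comm_le_left (h : K ≤ NN H) : ⁅H, K⁆ ≤ H := Comp.commutator_le_left_of_le_normalizer h
theorem comm_le_right (h : H ≤ NN K) : ⁅H, K⁆ ≤ K := Comp.commutator_le_right_of_le_normalizer h
theorem der_le (H : Subgroup G) : ⁅H, H⁆ ≤ H := comm_le_left (le_nn H)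
theorem comm_le (h1 : H ≤ A) (h2 : K ≤ A) : ⁅H, K⁆ ≤ A := (commutator_mono h1 h2).trans (der_le A)
theorem der_mono (h : H ≤ K) : ⁅H, H⁆ ≤ ⁅K, K⁆ := commutator_mono h h
theorem comm_eq_bot : ⁅H, K⁆ = ⊥ ↔ H ≤ CC K := commutator_eq_bot_iff_le_centralizer
theorem comm_eq_bot' : ⁅H, K⁆ = ⊥ ↔ K ≤ CC H := Comp.commutator_eq_bot_iff'
theorem nn_of_comm_le (h1 : ⁅K, A⁆ ≤ H) (h2 : H ≤ K) : A ≤ NN H :=
  Comp.le_normalizer_of_commutator_le h2 (by rwa [commutator_comm])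
theorem nn_of_comm_le' (h1 : ⁅K, A⁆ ≤ K) : A ≤ NN K := nn_of_comm_le h1 le_rfl
theorem nn_of_der_le (h1 : ⁅K, K⁆ ≤ H) (h2 : H ≤ K) : K ≤ NN H := nn_of_comm_le h1 h2
theorem sup_nn_comm (H K : Subgroup G) : H ⊔ K ≤ NN ⁅H, K⁆ := Comp.sup_le_normalizer_commutator H K
theorem left_nn_comm (H K : Subgroup G) : H ≤ NN ⁅H, K⁆ := le_sup_left.trans (sup_nn_comm H K)
theorem right_nn_comm (H K : Subgroup G) : K ≤ NN ⁅H, K⁆ := le_sup_right.trans (sup_nn_comm H K)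
theorem cc_of_inf_eq_bot (h1 : A ≤ NN B) (h2 : B ≤ NN A) (h : A ⊓ B = ⊥) : A ≤ CC B :=
  comm_eq_bot.1 (le_bot_iff.1 (h ▸ le_inf (comm_le_left h2) (comm_le_right h1)))
theorem ab_iff : IsMulCommutative A ↔ A ≤ CC A := comm_iff_le_centralizer
theorem ab_cc (h : IsMulCommutative A) : A ≤ CC A := ab_iff.1 h
theorem ab_mono (h : IsMulCommutative A) (h1 : B ≤ A) : IsMulCommutative B :=
  Solv.isMulCommutative_of_le h1 h
theorem ab_le_cc (h : IsMulCommutative A) (h1 : H ≤ A) (h2 : K ≤ A) : H ≤ CC K :=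
  h1.trans ((ab_cc h).trans (cc_anti h2))
theorem ab_nn (h : IsMulCommutative A) (h1 : H ≤ A) (h2 : K ≤ A) : H ≤ NN K :=
  nn_of_cc (ab_le_cc h h1 h2)
theorem ab_iff_der : IsMulCommutative A ↔ ⁅A, A⁆ = ⊥ := ab_iff.trans comm_eq_bot.symm
theorem ab_center (H : Subgroup G) : IsMulCommutative (H ⊓ CC H : Subgroup G) :=
  ab_iff.2 (inf_le_right.trans (cc_anti inf_le_left))
theorem ab_of_cyc (h : IsCyclic A) : IsMulCommutative A := by
  haveI := h; infer_instance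
theorem ab_cj (h : IsMulCommutative A) (g : G) : IsMulCommutative (cj g A) := by
  rw [ab_iff, ← cj_centralizer]; exact cj_mono g (ab_cc h)
theorem cyc_mono (h : IsCyclic A) (h1 : B ≤ A) : IsCyclic B := by
  haveI := h; exact isCyclic_of_injective (inclusion h1) (inclusion_injective h1)
theorem cyc_cj (h : IsCyclic A) (g : G) : IsCyclic (cj g A) := by
  haveI := h; exact isCyclic_of_surjective _ (cjEquiv g A).surjective
theorem cyc_bot : IsCyclic (⊥ : Subgroup G) := inferInstance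
theorem cyc_zpowers (x : G) : IsCyclic (zpowers x) := inferInstance
theorem exists_zpowers (h : IsCyclic A) : ∃ a ∈ A, A = zpowers a := by
  obtain ⟨a, h1, h2⟩ := Solv.isCyclic_iff_exists_le_zpowers.1 h
  exact ⟨a, h1, le_antisymm h2 (zpowers_le.2 h1)⟩
theorem dedekind (hAC : A ≤ H) (h : B ≤ NN A) : (A ⊔ B) ⊓ H = A ⊔ (B ⊓ H) := Solv.dedekind hAC h
theorem dedekind' (hAC : A ≤ H) (h : A ≤ NN B) : (A ⊔ B) ⊓ H = A ⊔ (B ⊓ H) := Solv.dedekind' hAC h
theorem mem_sup_l (h : B ≤ NN A) : x ∈ A ⊔ B ↔ ∃ a ∈ A, ∃ b ∈ B, x = a * b :=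
  mem_sup_iff_of_le_normalizer' h
theorem mem_sup_r (h : A ≤ NN B) : x ∈ A ⊔ B ↔ ∃ a ∈ A, ∃ b ∈ B, x = a * b :=
  mem_sup_iff_of_le_normalizer h
theorem cj_le (h : A ≤ H) (hg : g ∈ NN H) : cj g A ≤ H := Comp.cj_le_of_mem h hg
theorem cj_le' (h : A ≤ H) (hg : g ∈ H) : cj g A ≤ H := cj_le h (le_nn H hg)
theorem cj_nn (hg : g ∈ NN H) : cj g H = H := cj_eq_of_mem_normalizer hg
theorem cj_cc (hg : g ∈ CC H) : cj g H = H := cj_nn (cc_le_nn H hg)
theorem conj_eq_of_cc (hg : g ∈ CC H) (hx : x ∈ H) : g * x * g⁻¹ = x := by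
  rw [← hg x hx, mul_inv_cancel_right]
theorem conj_eq_of_C1 (hg : g ∈ C1 x) : g * x * g⁻¹ = x := by
  rw [mem_C1.1 hg, mul_inv_cancel_right]
theorem mem_C1_of_conj (hg : g * x * g⁻¹ = x) : g ∈ C1 x := mem_C1.2 (mul_inv_eq_iff_eq_mul.1 hg)
theorem nn_cj (h : A ≤ NN H) (g : G) : cj g A ≤ NN (cj g H) := cj_normalizer g H ▸ cj_mono g h
theorem cc_cj (h : A ≤ CC H) (g : G) : cj g A ≤ CC (cj g H) := cj_centralizer g H ▸ cj_mono g h
theorem nn_cj_of (h : A ≤ NN H) (hg : g ∈ NN A) : A ≤ NN (cj g H) := cj_nn hg ▸ nn_cj h g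
theorem exists_ne_one (h : H ≠ ⊥) : ∃ x ∈ H, x ≠ 1 := Solv.exists_ne_one_of_ne_bot h
theorem ne_bot_of_mem (h : x ∈ H) (h1 : x ≠ 1) : H ≠ ⊥ := fun e => h1 (mem_bot.1 (e ▸ h))
theorem eq_one_of_inf (h : H ⊓ K = ⊥) (h1 : x ∈ H) (h2 : x ∈ K) : x = 1 :=
  mem_bot.1 (h ▸ mem_inf.2 ⟨h1, h2⟩)
theorem inf_bot_mono (h : H ⊓ K = ⊥) (h1 : A ≤ H) (h2 : B ≤ K) : A ⊓ B = ⊥ :=
  le_bot_iff.1 (h ▸ inf_le_inf h1 h2)
theorem eq_bot_of_le (h : H ⊓ K = ⊥) (h1 : A ≤ H) (h2 : A ≤ K) : A = ⊥ :=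
  le_bot_iff.1 (h ▸ le_inf h1 h2)
theorem sol_mono (h : Group.IsSolvable K) (h1 : H ≤ K) : Group.IsSolvable H :=
  Solv.isSolvable_of_le h1 h
theorem nil_mono (h : Group.IsNilpotent K) (h1 : H ≤ K) : Group.IsNilpotent H :=
  Solv.isNilpotent_of_le h1 h
theorem nil_of_ab (h : IsMulCommutative H) : Group.IsNilpotent H :=
  Solv.isNilpotent_of_isMulCommutative h
theorem sol_of_nil (h : Group.IsNilpotent H) : Group.IsSolvable H := inferInstance
theorem sol_of_ab (h : IsMulCommutative H) : Group.IsSolvable H := sol_of_nil (nil_of_ab h)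
theorem nil_cj (h : Group.IsNilpotent H) (g : G) : Group.IsNilpotent (cj g H) :=
  Solv.isNilpotent_map _ h
theorem card_dvd (h : H ≤ K) : #H ∣ #K := card_dvd_of_le h
theorem odd_mono (h : Odd #K) (h1 : H ≤ K) : Odd #H := h.of_dvd_nat (card_dvd h1)
theorem orderOf_dvd (h : x ∈ H) : orderOf x ∣ #H := orderOf_dvd_card_of_mem h
theorem three_sub {C X : Subgroup G} (hA : A ≤ NN X) (hB : B ≤ NN X) (hC : C ≤ NN X)
    (h1 : ⁅⁅A, B⁆, C⁆ ≤ X) (h2 : ⁅⁅B, C⁆, A⁆ ≤ X) : ⁅⁅C, A⁆, B⁆ ≤ X :=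
  Comp.three_subgroups_le hA hB hC h1 h2
theorem comm_sup_l {C X : Subgroup G} (hA : A ≤ NN X) (hB : B ≤ NN X) (h1 : ⁅A, C⁆ ≤ X)
    (h2 : ⁅B, C⁆ ≤ X) : ⁅A ⊔ B, C⁆ ≤ X := Comp.commutator_sup_left_le hA hB h1 h2
theorem comm_sup_r {C X : Subgroup G} (hA : A ≤ NN X) (hB : B ≤ NN X) (h1 : ⁅C, A⁆ ≤ X)
    (h2 : ⁅C, B⁆ ≤ X) : ⁅C, A ⊔ B⁆ ≤ X := Comp.commutator_sup_right_le hA hB h1 h2
/-- `(AB)' ≤ A B'` for `A` normal -/
theorem der_sup_le (h : B ≤ NN A) : ⁅A ⊔ B, A ⊔ B⁆ ≤ A ⊔ ⁅B, B⁆ :=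
  Comp.commutator_sup_le_sup_commutator h
end NC

theorem F_le (H : Subgroup G) : fittingOf H ≤ H := map_subtype_le _
theorem O_le (π : Set ℕ) (H : Subgroup G) : piCoreOf π H ≤ H := map_subtype_le _

scoped notation "O" => piCoreOf
scoped notation "F" => fittingOf

theorem O_eq (π : Set ℕ) (H : Subgroup G) : O π H = (Comp.piCl π).radOf H := rfl
theorem F_eq (H : Subgroup G) : F H = Comp.Fit H := Comp.map_fitting H

variable [Finite G]

theorem nn_O {A H : Subgroup G} {π : Set ℕ} (h : A ≤ NN H) : A ≤ NN (O π H) :=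
  (Comp.piCl π).le_normalizer_radOf h
theorem nn_F {A H : Subgroup G} (h : A ≤ NN H) : A ≤ NN (F H) := by
  rw [F_eq]; exact Comp.nilCl.le_normalizer_radOf h
theorem nn_omega {A H : Subgroup G} {p : ℕ} (h : A ≤ NN H) : A ≤ NN (omegaOne p H) :=
  fun g hg => mem_normalizer_of_cj_le (by
    rw [omegaOne, cj, MonoidHom.map_closure, closure_le]
    rintro _ ⟨x, ⟨h1, h2⟩, rfl⟩
    exact subset_closure ⟨conj_mem_of_mem_normalizer (h hg) h1, by rw [← map_pow, h2, map_one]⟩)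

/-- proves goals `A ≤ NN X` by recursion on the shape of `X` -/
syntax "nrm" : tactic
macro_rules
  | `(tactic| nrm) => `(tactic| first
    | assumption
    | with_reducible exact le_nn _
    | with_reducible exact le_rfl
    | (with_reducible apply nn_inf) <;> nrm
    | (with_reducible apply nn_sup) <;> nrm
    | (with_reducible apply nn_comm) <;> nrm
    | (with_reducible apply nn_cc); nrm
    | (with_reducible apply nn_nn); nrm
    | (with_reducible apply nn_O); nrm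
    | (with_reducible apply nn_F); nrm
    | (with_reducible apply nn_omega); nrm
    | with_reducible exact nn_bot
    | with_reducible exact nn_top
    | (with_reducible apply nn_of_le); assumption
    | (with_reducible apply nn_of_cc); assumption
    | (with_reducible apply nn_of_cc); exact cc_symm (by assumption)
    | (with_reducible apply nn_C1); order
    | order
    | (with_reducible apply nn_of_le); order
    | (with_reducible apply nn_of_cc); order)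

/-! ### cardinalities -/

section Card
variable {A B H K : Subgroup G}

theorem card_pos' (H : Subgroup G) : 0 < #H := Nat.card_pos
theorem card_ne_zero (H : Subgroup G) : #H ≠ 0 := Nat.card_pos.ne'
theorem eq_of_card_le (h : H ≤ K) (hc : #K ≤ #H) : H = K := Solv.eq_of_le_of_card_le h hc
theorem card_sup_l (h : B ≤ NN A) (hd : A ⊓ B = ⊥) : #(A ⊔ B : Subgroup G) = #A * #B := by
  rw [sup_comm, Solv.card_sup_of_disjoint h (by rwa [inf_comm]), mul_comm]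
theorem card_sup_r (h : A ≤ NN B) (hd : A ⊓ B = ⊥) : #(A ⊔ B : Subgroup G) = #A * #B :=
  Solv.card_sup_of_disjoint h hd
theorem inf_of_coprime (h : (#A).Coprime #B) : A ⊓ B = ⊥ := Solv.inf_eq_bot_of_coprime' h
theorem coprime_mono (h : (#H).Coprime #K) (h1 : A ≤ H) (h2 : B ≤ K) : (#A).Coprime #B :=
  (h.coprime_dvd_left (card_dvd h1)).coprime_dvd_right (card_dvd h2)
theorem exists_prime_dvd (h : H ≠ ⊥) : ∃ p : ℕ, p.Prime ∧ p ∣ #H := Solv.exists_prime_dvd_card h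
theorem ne_bot_of_dvd {p : ℕ} (hp : p.Prime) (h : p ∣ #H) : H ≠ ⊥ := by
  rintro rfl; rw [card_bot] at h; exact hp.not_dvd_one h
theorem relIndex_dvd (H K : Subgroup G) : H.relIndex K ∣ #K := Comp.relIndex_dvd_card' H K
theorem relIndex_sup_l (h : B ≤ NN A) : A.relIndex (A ⊔ B) = A.relIndex B := by
  rw [sup_comm]; exact relIndex_sup_of_le_normalizer h
theorem relIndex_dvd_of_nn {X : Subgroup G} (h1 : A ≤ X) (h2 : H ≤ X) (h : H ≤ NN A) :
    A.relIndex H ∣ A.relIndex X := Comp.relIndex_dvd_of_le_of_normalizer h1 h2 h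
theorem dvd_card_or {p : ℕ} (hp : p.Prime) (h : H ≤ K) (h1 : p ∣ #K) :
    p ∣ #H ∨ p ∣ H.relIndex K := hp.dvd_mul.1 (by rwa [card_mul_relIndex h])
theorem dvd_sup_l {p : ℕ} (hp : p.Prime) (h : B ≤ NN A) (h1 : p ∣ #(A ⊔ B : Subgroup G)) :
    p ∣ #A ∨ p ∣ #B := by
  rw [sup_comm] at h1; exact (hp.dvd_mul.1 (h1.trans (Solv.card_sup_dvd h))).symm
theorem prime_eq_of_le (hK : (#K).Prime) (h : H ≤ K) (h0 : H ≠ ⊥) : H = K :=
  eq_of_card_le h (((Nat.dvd_prime hK).1 (card_dvd h)).resolve_left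
    (fun e => h0 (card_eq_one.1 e))).ge
theorem prime_inf (hK : (#K).Prime) (h : ¬ K ≤ H) : K ⊓ H = ⊥ := by
  by_contra h0; exact h (prime_eq_of_le hK inf_le_left h0 ▸ inf_le_right)
theorem prime_le (hK : (#K).Prime) (h : K ⊓ H ≠ ⊥) : K ≤ H := by
  by_contra h0; exact h (prime_inf hK h0)
theorem prime_eq_zpowers (hK : (#K).Prime) {x : G} (hx : x ∈ K) (h1 : x ≠ 1) : zpowers x = K :=
  prime_eq_of_le hK (zpowers_le.2 hx) (by rwa [Ne, zpowers_eq_bot])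
theorem prime_cc (hK : (#K).Prime) {x : G} (hx : x ∈ K) (h1 : x ≠ 1) : C1 x = CC K := by
  rw [← prime_eq_zpowers hK hx h1, cc_zpowers]
theorem prime_ne_bot (hK : (#K).Prime) : K ≠ ⊥ := ne_bot_of_dvd hK dvd_rfl
theorem prime_cyc (hK : (#K).Prime) : IsCyclic K := Solv.isCyclic_of_card_prime hK
theorem exists_prime_sub (h : H ≠ ⊥) : ∃ X ≤ H, (#X).Prime := by
  obtain ⟨x, h1, h2⟩ := Solv.exists_orderOf_prime_of_ne_bot h
  exact ⟨zpowers x, zpowers_le.2 h1, by rwa [Nat.card_zpowers]⟩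
theorem exists_card_eq {p : ℕ} (hp : p.Prime) (h : p ∣ #H) : ∃ X ≤ H, #X = p := by
  obtain ⟨x, h1, h2⟩ := Solv.exists_subgroup_card_prime hp h
  exact ⟨zpowers x, zpowers_le.2 h1, by rwa [Nat.card_zpowers]⟩
theorem cyc_nn (hC : IsCyclic H) (h : K ≤ H) (hA : A ≤ NN H) : A ≤ NN K :=
  hA.trans (Solv.normalizer_le_normalizer_of_le_isCyclic hC h)
theorem cyc_eq (hC : IsCyclic H) (h1 : A ≤ H) (h2 : B ≤ H) (h : #A = #B) : A = B :=
  Solv.eq_of_isCyclic_of_card_eq hC h1 h2 h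
theorem cyc_le (hC : IsCyclic H) (h1 : A ≤ H) (h2 : B ≤ H) (h : #A ∣ #B) : A ≤ B :=
  Solv.le_of_isCyclic_of_card_dvd hC h1 h2 h
theorem nil_lt_nn (hK : Group.IsNilpotent K) (h : H < K) : H < K ⊓ NN H :=
  Comp.lt_inf_normalizer_of_isNilpotent hK h
theorem nil_meet (hK : Group.IsNilpotent K) (h1 : H ≤ K) (h2 : K ≤ NN H) (h : H ≠ ⊥) :
    H ⊓ CC K ≠ ⊥ := Comp.inf_centralizer_ne_bot_of_isNilpotent hK h1 h2 h
theorem nil_comm_lt (hK : Group.IsNilpotent K) (h1 : H ≤ K) (h2 : K ≤ NN H) (h : H ≠ ⊥) :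
    ⁅H, K⁆ < H := Comp.commutator_lt_of_isNilpotent hK h1 h2 h
theorem sol_der_lt (hK : Group.IsSolvable K) (h : K ≠ ⊥) : ⁅K, K⁆ < K :=
  Comp.commutator_lt_of_isSolvable hK h
theorem nil_cc (hH : Group.IsNilpotent H) (hA : A ≤ H) (hB : B ≤ H) (h : (#A).Coprime #B) :
    A ≤ CC B := Solv.le_centralizer_of_nilpotent_of_coprime hH hA hB h
theorem nil_of_pg {p : ℕ} [Fact p.Prime] (h : IsPGroup p H) : Group.IsNilpotent H := h.isNilpotent
theorem sol_of_pg {p : ℕ} [Fact p.Prime] (h : IsPGroup p H) : Group.IsSolvable H :=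
  sol_of_nil (nil_of_pg h)
theorem pg_of_card {p : ℕ} (h : #H = p) : IsPGroup p H := IsPGroup.of_card (n := 1) (by simpa)
theorem pg_sup_l {p : ℕ} (hA : IsPGroup p A) (hB : IsPGroup p B) (h : B ≤ NN A) :
    IsPGroup p (A ⊔ B : Subgroup G) := sup_comm B A ▸ Solv.isPGroup_sup hB hA h
theorem pg_dvd {p : ℕ} [Fact p.Prime] (hA : IsPGroup p A) (h : A ≠ ⊥) : p ∣ #A :=
  Solv.dvd_card_of_isPGroup hA h
theorem pg_exists_card {p : ℕ} [hp : Fact p.Prime] (hA : IsPGroup p A) (h : A ≠ ⊥) :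
    ∃ X ≤ A, #X = p := exists_card_eq hp.out (pg_dvd hA h)
theorem nil_sup (hA : Group.IsNilpotent A) (hB : Group.IsNilpotent B) (h1 : A ≤ NN B)
    (h2 : B ≤ NN A) : Group.IsNilpotent (A ⊔ B : Subgroup G) := Solv.isNilpotent_sup hA hB h1 h2
theorem sol_sup_l (hA : Group.IsSolvable A) (hB : Group.IsSolvable B) (h : B ≤ NN A) :
    Group.IsSolvable (A ⊔ B : Subgroup G) := sup_comm B A ▸ Solv.isSolvable_sup h hB hA
theorem le_of_syl (h : ∀ q : ℕ, q.Prime → q ∣ #H → ∃ S, IsSyl q S H ∧ S ≤ K) : H ≤ K :=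
  le_of_forall_isSyl_le h
theorem le_of_pg (h : ∀ q : ℕ, q.Prime → q ∣ #H → ∀ S ≤ H, IsPGroup q S → S ≤ K) : H ≤ K :=
  le_of_syl fun q hq h1 => by
    haveI := Fact.mk hq
    obtain ⟨S, hS⟩ := exists_isSyl q H
    exact ⟨S, hS, h q hq h1 S hS.le hS.pgroup⟩
end Card

/-! ### π-groups -/

/-- `H` is a `π`-group -/
def IsPi (π : Set ℕ) (H : Subgroup G) : Prop := ∀ p : ℕ, p.Prime → p ∣ #H → p ∈ π

namespace IsPi
variable {π ρ : Set ℕ} {A B H K : Subgroup G}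
theorem mono (h : IsPi π K) (h1 : H ≤ K) : IsPi π H := fun p hp hd => h p hp (hd.trans (card_dvd h1))
theorem sub (h : IsPi π H) (h1 : π ⊆ ρ) : IsPi ρ H := fun p hp hd => h1 (h p hp hd)
theorem sub' (h : IsPi π H) (h1 : ∀ p, p.Prime → p ∣ #H → p ∈ π → p ∈ ρ) : IsPi ρ H :=
  fun p hp hd => h1 p hp hd (h p hp hd)
theorem bot : IsPi π (⊥ : Subgroup G) := fun p hp hd => absurd rfl (ne_bot_of_dvd hp hd)
theorem sup_l (hA : IsPi π A) (hB : IsPi π B) (h : B ≤ NN A) : IsPi π (A ⊔ B) := fun p hp hd =>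
  (dvd_sup_l hp h hd).elim (hA p hp) (hB p hp)
theorem sup_r (hA : IsPi π A) (hB : IsPi π B) (h : A ≤ NN B) : IsPi π (A ⊔ B) :=
  sup_comm B A ▸ hB.sup_l hA h
theorem cj (h : IsPi π H) (g : G) : IsPi π (cj g H) := fun p hp hd => h p hp (card_cj g H ▸ hd)
theorem inter (h1 : IsPi π H) (h2 : IsPi ρ H) : IsPi (π ∩ ρ) H := fun p hp hd => ⟨h1 p hp hd, h2 p hp hd⟩
theorem coprime (h1 : IsPi π H) (h2 : IsPi πᶜ K) : (#H).Coprime #K :=
  Solv.coprime_of_pi h1 fun q hq h3 h4 => h2 q hq h4 h3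
theorem coprime' (h1 : IsPi π H) (h2 : IsPi ρ K) (h : ∀ p ∈ π, p ∉ ρ) : (#H).Coprime #K :=
  h1.coprime (h2.sub fun p h3 h4 => h p h4 h3)
theorem inf (h1 : IsPi π H) (h2 : IsPi πᶜ K) : H ⊓ K = ⊥ := inf_of_coprime (h1.coprime h2)
theorem eq_bot (h1 : IsPi π H) (h2 : IsPi πᶜ H) : H = ⊥ := by simpa using h1.inf h2
theorem not_dvd (h : IsPi π H) {p : ℕ} (hp : p.Prime) (h1 : p ∉ π) : ¬ p ∣ #H := fun hd => h1 (h p hp hd)
theorem map {G' : Type*} [Group G'] (h : IsPi π H) (f : G →* G') : IsPi π (H.map f) :=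
  fun p hp hd => h p hp (hd.trans (card_map_dvd H f))
theorem zpow (h : IsPi π H) {x : G} (hx : x ∈ H) : IsPi π (zpowers x) := h.mono (zpowers_le.2 hx)
theorem compl_compl (h : IsPi π H) : IsPi πᶜᶜ H := by rwa [_root_.compl_compl]
theorem of_card (h : IsPi π H) (e : #K = #H) : IsPi π K := fun p hp hd => h p hp (e ▸ hd)
theorem of_relIndex (h1 : H ≤ K) (h : IsPi π H) (h2 : ∀ p, p.Prime → p ∣ H.relIndex K → p ∈ π) :
    IsPi π K := fun p hp hd => (dvd_card_or hp h1 hd).elim (h p hp) (h2 p hp)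
end IsPi

section Pi
variable {π ρ : Set ℕ} {A B H K : Subgroup G} {p : ℕ}

theorem isPi_self (H : Subgroup G) : IsPi {p | p ∣ #H} H := fun _ _ h => h
theorem pi_of_pg [Fact p.Prime] (h : IsPGroup p H) (hp : p ∈ π) : IsPi π H := fun q hq hd =>
  Solv.eq_of_isPGroup_of_dvd h hq hd ▸ hp
theorem pi1_of_pg [Fact p.Prime] (h : IsPGroup p H) : IsPi {p} H := pi_of_pg h rfl
theorem pg_of_pi [Fact p.Prime] (h : IsPi {p} H) : IsPGroup p H := Solv.isPGroup_of_forall_prime_dvd h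
theorem pi_compl_iff [hp : Fact p.Prime] : IsPi {p}ᶜ H ↔ ¬ p ∣ #H :=
  ⟨fun h => h.not_dvd hp.out (fun h => h rfl), fun h q _ hd e => h (e ▸ hd)⟩
theorem pi_compl_iff_coprime [hp : Fact p.Prime] : IsPi {p}ᶜ H ↔ (#H).Coprime p :=
  pi_compl_iff.trans Comp.coprime_iff_not_dvd.symm
theorem pi_of_card (h : #H = p) (hp : p.Prime) (h1 : p ∈ π) : IsPi π H := fun q hq hd =>
  ((Nat.prime_dvd_prime_iff_eq hq hp).1 (h ▸ hd)) ▸ h1
theorem pi_of_coprime (h : (#H).Coprime #K) : IsPi {p | p ∣ #K}ᶜ H := fun p hp h1 h2 =>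
  hp.not_dvd_one (h ▸ Nat.dvd_gcd h1 h2)
theorem pg_mem_pi [Fact p.Prime] (h : IsPGroup p H) (h0 : H ≠ ⊥) (h1 : IsPi π H) : p ∈ π :=
  h1 p Fact.out (pg_dvd h h0)
theorem pg_coprime [Fact p.Prime] (h : IsPGroup p H) (h1 : IsPi π K) (h2 : p ∉ π) :
    (#H).Coprime #K := (pi_of_pg (π := πᶜ) h h2).coprime h1.compl_compl
theorem pg_inf [Fact p.Prime] (h : IsPGroup p H) (h1 : IsPi π K) (h2 : p ∉ π) : H ⊓ K = ⊥ :=
  inf_of_coprime (pg_coprime h h1 h2)
theorem pg_coprime_pg {q : ℕ} [Fact p.Prime] [Fact q.Prime] (h : IsPGroup p H) (h1 : IsPGroup q K)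
    (h2 : p ≠ q) : (#H).Coprime #K := pg_coprime h (pi1_of_pg h1) h2
theorem pi_of_forall (h : ∀ x ∈ H, (orderOf x).Prime → orderOf x ∈ π) : IsPi π H := fun p hp hd => by
  obtain ⟨x, h1, h2⟩ := Solv.exists_subgroup_card_prime hp hd
  exact h2 ▸ h x h1 (h2 ▸ hp)

theorem O_pi (π : Set ℕ) (H : Subgroup G) : IsPi π (O π H) := (Comp.piCl π).radOf_P H
theorem O_pg [Fact p.Prime] (H : Subgroup G) : IsPGroup p (O {p} H) := pg_of_pi (O_pi _ H)
theorem le_O (h1 : A ≤ H) (h2 : H ≤ NN A) (h : IsPi π A) : A ≤ O π H :=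
  Comp.FClass.le_radOf (C := Comp.piCl π) h1 h2 h
theorem le_O_of_subn (h1 : Comp.SubnIn A H) (h : IsPi π A) : A ≤ O π H :=
  Comp.FClass.le_radOf_of_subnIn (C := Comp.piCl π) h1 h
theorem O_eq_self (h : IsPi π H) : O π H = H := le_antisymm (O_le _ _) (le_O le_rfl (le_nn H) h)
theorem O_inf_le (h : K ≤ H) : O π H ⊓ K ≤ O π K := Comp.FClass.radOf_inf_le (C := Comp.piCl π) h
theorem O_le_O_of_le (h : K ≤ H) (h1 : O π H ≤ K) : O π H ≤ O π K :=
  (le_inf le_rfl h1).trans (O_inf_le h)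
theorem O_le_O (h : K ≤ H) (h1 : H ≤ NN K) : O π K ≤ O π H :=
  le_O ((O_le _ _).trans h) (nn_O h1) (O_pi _ _)
theorem O_eq_inf (h : K ≤ H) (h1 : H ≤ NN K) : O π K = O π H ⊓ K :=
  le_antisymm (le_inf (O_le_O h h1) (O_le _ _)) (O_inf_le h)
theorem O_sub (h : π ⊆ ρ) (H : Subgroup G) : O π H ≤ O ρ H :=
  le_O (O_le _ _) (nn_O (le_nn H)) ((O_pi _ _).sub h)
theorem O_congr (h : ∀ p, p.Prime → p ∣ #H → (p ∈ π ↔ p ∈ ρ)) : O π H = O ρ H :=
  le_antisymm (le_O (O_le _ _) (nn_O (le_nn H)) ((O_pi _ _).sub' fun p hp hd =>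
    (h p hp (hd.trans (card_dvd (O_le _ _)))).1)) (le_O (O_le _ _) (nn_O (le_nn H))
    ((O_pi _ _).sub' fun p hp hd => (h p hp (hd.trans (card_dvd (O_le _ _)))).2))
theorem cj_O (g : G) (π : Set ℕ) (H : Subgroup G) : cj g (O π H) = O π (cj g H) :=
  (Comp.piCl π).cj_radOf g H
theorem O_cc_O (π : Set ℕ) (H : Subgroup G) : O π H ≤ CC (O πᶜ H) :=
  cc_of_inf_eq_bot (nn_O (nn_of_le (O_le _ _))) (nn_O (nn_of_le (O_le _ _)))
    ((O_pi _ _).inf (O_pi _ _))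
theorem O_top (π : Set ℕ) : O π (⊤ : Subgroup G) = piCore π G := (Comp.piCl π).radOf_top
theorem O_subgroupOf (π : Set ℕ) (H : Subgroup G) : (O π H).subgroupOf H = piCore π H :=
  (Comp.piCl π).subgroupOf_radOf H
theorem O1_eq [Fact p.Prime] (H : Subgroup G) : O {p} H = Comp.Op p H := by
  rw [← Comp.map_pCore, Solv.pCore_eq_piCore]; rfl
theorem O1c_eq [Fact p.Prime] (H : Subgroup G) : O {p}ᶜ H = Comp.Opp p H := by
  rw [← Comp.map_pPrimeCore, Solv.pPrimeCore_eq_piCore]; rfl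
theorem map_pCore [Fact p.Prime] (H : Subgroup G) : (pCore p H).map H.subtype = O {p} H := by
  rw [Solv.pCore_eq_piCore]; rfl
theorem map_pPrimeCore [Fact p.Prime] (H : Subgroup G) :
    (pPrimeCore p H).map H.subtype = O {p}ᶜ H := by
  rw [Solv.pPrimeCore_eq_piCore]; rfl
theorem map_O_le {G' : Type u} [Group G'] [Finite G'] (f : G →* G') (π : Set ℕ) (H : Subgroup G) :
    (O π H).map f ≤ O π (H.map f) := (Comp.piCl π).map_radOf_le f H
theorem map_O {G' : Type u} [Group G'] [Finite G'] (f : G →* G') (h : IsPi π (H ⊓ f.ker)) :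
    (O π H).map f = O π (H.map f) := Comp.FClass.map_radOf_of_ext (Comp.piCl_ext π) f H h

theorem F_nil (H : Subgroup G) : Group.IsNilpotent (F H) := F_eq H ▸ Comp.isNilpotent_Fit H
theorem le_F (h1 : A ≤ H) (h2 : H ≤ NN A) (h : Group.IsNilpotent A) : A ≤ F H :=
  F_eq H ▸ Comp.le_Fit h1 h2 h
theorem F_eq_self (h : Group.IsNilpotent H) : F H = H := le_antisymm (F_le _) (le_F le_rfl (le_nn H) h)
theorem F_inf_le (h : K ≤ H) : F H ⊓ K ≤ F K := by
  rw [F_eq, F_eq]; exact Comp.FClass.radOf_inf_le h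
theorem F_le_F (h : K ≤ H) (h1 : H ≤ NN K) : F K ≤ F H := le_F ((F_le _).trans h) (nn_F h1) (F_nil _)
theorem F_eq_inf (h : K ≤ H) (h1 : H ≤ NN K) : F K = F H ⊓ K :=
  le_antisymm (le_inf (F_le_F h h1) (F_le _)) (F_inf_le h)
theorem cj_F (g : G) (H : Subgroup G) : cj g (F H) = F (cj g H) := by
  rw [F_eq, F_eq]; exact Comp.nilCl.cj_radOf g H
theorem O_le_F [Fact p.Prime] (H : Subgroup G) : O {p} H ≤ F H :=
  le_F (O_le _ _) (by nrm) (nil_of_pg (O_pg H))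
theorem O1_F [Fact p.Prime] (H : Subgroup G) : O {p} (F H) = O {p} H :=
  le_antisymm (O_le_O (F_le _) (by nrm)) (O_le_O_of_le (F_le _) (O_le_F H))
theorem cc_F_le (h : Group.IsSolvable H) : H ⊓ CC (F H) ≤ F H := Solv.inf_centralizer_map_fitting_le h
theorem center_le_F (H : Subgroup G) : H ⊓ CC H ≤ F H :=
  le_F inf_le_left (by nrm) (nil_of_ab (ab_center H))
theorem F_ne_bot (h : Group.IsSolvable H) (h0 : H ≠ ⊥) : F H ≠ ⊥ := fun e => h0 (by
  have := cc_F_le h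
  rwa [e, cc_bot, inf_top_eq, le_bot_iff] at this)
theorem F_top : F (⊤ : Subgroup G) = fittingSubgroup G := F_eq (⊤ : Subgroup G) ▸ Comp.Fit_top
theorem map_F_le {G' : Type u} [Group G'] [Finite G'] (f : G →* G') (H : Subgroup G) :
    (F H).map f ≤ F (H.map f) := by rw [F_eq, F_eq]; exact Comp.nilCl.map_radOf_le f H
/-- in a nilpotent group every `π`-subgroup lies in the `π`-core -/
theorem nil_le_O (h : Group.IsNilpotent H) (h1 : A ≤ H) (h2 : IsPi π A) : A ≤ O π H :=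
  le_O_of_subn (Comp.subnIn_of_isNilpotent h h1) h2
theorem nil_le_of_O (h : Group.IsNilpotent H) (h1 : ∀ q : ℕ, q.Prime → q ∣ #H → O {q} H ≤ K) :
    H ≤ K := le_of_pg fun q hq hd S h2 h3 =>
  haveI := Fact.mk hq
  (nil_le_O h h2 (pi1_of_pg h3)).trans (h1 q hq hd)
theorem nil_O_sup (h : Group.IsNilpotent H) (π : Set ℕ) : O π H ⊔ O πᶜ H = H :=
  le_antisymm (sup_le (O_le _ _) (O_le _ _)) (nil_le_of_O h fun q _ _ => by
    by_cases hq : q ∈ π
    · exact (O_sub (by simpa) H).trans le_sup_left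
    · exact (O_sub (by simpa) H).trans le_sup_right)
theorem F_le_of_O (h1 : ∀ q : ℕ, q.Prime → q ∣ #(F H) → O {q} H ≤ K) : F H ≤ K :=
  nil_le_of_O (F_nil H) fun q hq hd => by haveI := Fact.mk hq; rw [O1_F]; exact h1 q hq hd
end Pi

end Cfsg.Agent.MS
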