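import Cfsg.Agent.Lib.MS.Base3

/-!
The minimal simple group of odd order: maximal subgroups, uniqueness subgroups, and the sets of
primes attached to a maximal subgroup.
-/

set_option linter.unusedSectionVars false
set_option linter.unusedVariables false
set_option linter.style.haveILetI false
set_option linter.unusedSimpArgs false

namespace Cfsg.Agent.MS

open Subgroup Cfsg.Agent.Transfer

universe u

/-- the standing hypothesis -/
class MinS (G : Type u) [Group G] : Prop where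
  out : IsMinSimpleOddOrder G

variable {G : Type u} [Group G] [Finite G]

scoped notation "Sg" => sigmaCore
scoped notation "Al" => alphaCore
scoped notation "MF" => fittingHallOf
/-- `M_β` -/
abbrev Be (M : Subgroup G) : Subgroup G := O (beta M) M

/-- `ℳ(X) = {M}` -/
structure UM (X M : Subgroup G) : Prop where
  max : IsCoatom M
  le : X ≤ M
  uniq : ∀ L, IsCoatom L → X ≤ L → L = M
/-- `X ∈ 𝒰` -/
def UU (X : Subgroup G) : Prop := ∃ M, UM X M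
/-- `H` is conjugate to `M` -/
def CJ (M H : Subgroup G) : Prop := ∃ g : G, cj g M = H

section
variable {A B H K L M X Y P : Subgroup G} {p q : ℕ} {g x : G}

theorem Sg_eq (M : Subgroup G) : Sg M = O (sigma M) M := rfl
theorem Al_eq (M : Subgroup G) : Al M = O (alpha M) M := rfl
theorem Sg_le (M : Subgroup G) : Sg M ≤ M := O_le _ _
theorem Al_le (M : Subgroup G) : Al M ≤ M := O_le _ _
theorem Be_le (M : Subgroup G) : Be M ≤ M := O_le _ _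
theorem MF_le (M : Subgroup G) : MF M ≤ M := map_subtype_le _
theorem Sg_pi (M : Subgroup G) : IsPi (sigma M) (Sg M) := O_pi _ _
theorem Al_pi (M : Subgroup G) : IsPi (alpha M) (Al M) := O_pi _ _
theorem Be_pi (M : Subgroup G) : IsPi (beta M) (Be M) := O_pi _ _
theorem nn_Sg (h : A ≤ NN M) : A ≤ NN (Sg M) := nn_O h
theorem nn_Al (h : A ≤ NN M) : A ≤ NN (Al M) := nn_O h
theorem nn_Be (h : A ≤ NN M) : A ≤ NN (Be M) := nn_O h
theorem nn_Sg' (h : A ≤ M) : A ≤ NN (Sg M) := nn_O (nn_of_le h)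
theorem nn_Al' (h : A ≤ M) : A ≤ NN (Al M) := nn_O (nn_of_le h)
theorem nn_Be' (h : A ≤ M) : A ≤ NN (Be M) := nn_O (nn_of_le h)

theorem CJ.refl (M : Subgroup G) : CJ M M := ⟨1, cj_one M⟩
theorem CJ.symm (h : CJ M H) : CJ H M := by obtain ⟨g, rfl⟩ := h; exact ⟨g⁻¹, cj_inv_cj g M⟩
theorem CJ.trans (h : CJ M H) (h1 : CJ H K) : CJ M K := by
  obtain ⟨g, rfl⟩ := h; obtain ⟨k, rfl⟩ := h1; exact ⟨k * g, (cj_cj _ _ _).symm⟩
theorem cj_CJ (g : G) (M : Subgroup G) : CJ M (cj g M) := ⟨g, rfl⟩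
theorem ne_of_not_CJ (h : ¬ CJ M H) : H ≠ M := fun e => h (e ▸ CJ.refl _)
theorem max_cj (h : IsCoatom M) (g : G) : IsCoatom (cj g M) :=
  ⟨fun e => h.1 (cj_inj.1 (e.trans (cj_top g).symm)), fun b hb => by
    rw [← cj_cj_inv g b, h.2 (cj g⁻¹ b) (cj_lt_cj_iff.1 (by rwa [cj_cj_inv])), cj_top]⟩
theorem max_eq (h : IsCoatom M) (h1 : M ≤ H) (h2 : H ≠ ⊤) : H = M := (h.le_iff.1 h1).resolve_left h2
theorem max_eq' (h : IsCoatom M) (h2 : IsCoatom H) (h1 : M ≤ H) : H = M := max_eq h h1 h2.1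
theorem exists_max (h : H ≠ ⊤) : ∃ M, IsCoatom M ∧ H ≤ M := (eq_top_or_exists_le_coatom H).resolve_left h
theorem ne_top_of_le (h : M ≠ ⊤) (h1 : H ≤ M) : H ≠ ⊤ := ne_top_of_le_ne_top h h1

theorem UM.uu (h : UM X M) : UU X := ⟨M, h⟩
theorem uu_iff : InUniqueMaximal X ↔ UU X :=
  ⟨fun ⟨M, h1, h2⟩ => ⟨M, h1.1, h1.2, fun L a b => h2 L ⟨a, b⟩⟩,
   fun ⟨M, h⟩ => ⟨M, ⟨h.max, h.le⟩, fun L a => h.uniq L a.1 a.2⟩⟩
theorem UU.um (h : UU X) (h1 : IsCoatom M) (h2 : X ≤ M) : UM X M := by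
  obtain ⟨L, h⟩ := h; exact h.uniq M h1 h2 ▸ h
theorem UU.eq (h : UU X) (h1 : IsCoatom M) (h2 : IsCoatom L) (h3 : X ≤ M) (h4 : X ≤ L) : L = M :=
  (h.um h1 h3).uniq L h2 h4
theorem UM.ne_top (h : UM X M) : X ≠ ⊤ := ne_top_of_le h.max.1 h.le
theorem UU.ne_top (h : UU X) : X ≠ ⊤ := by obtain ⟨M, h⟩ := h; exact h.ne_top
theorem UM.le_of (h : UM X M) (h1 : X ≤ H) (h2 : H ≠ ⊤) : H ≤ M := by
  obtain ⟨L, h3, h4⟩ := exists_max h2; exact h.uniq L h3 (h1.trans h4) ▸ h4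
theorem UU.le_of (h : UU X) (h0 : IsCoatom M) (h3 : X ≤ M) (h1 : X ≤ H) (h2 : H ≠ ⊤) : H ≤ M :=
  (h.um h0 h3).le_of h1 h2
theorem UM.mono (h : UM X M) (h1 : X ≤ H) (h2 : H ≠ ⊤) : UM H M :=
  ⟨h.max, h.le_of h1 h2, fun L a b => h.uniq L a (h1.trans b)⟩
theorem UM.mono' (h : UM X M) (h1 : X ≤ H) (h2 : H ≤ M) : UM H M := h.mono h1 (ne_top_of_le h.max.1 h2)
theorem UU.mono (h : UU X) (h1 : X ≤ H) (h2 : H ≠ ⊤) : UU H := h.imp fun _ h => h.mono h1 h2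
theorem UM.cj (h : UM X M) (g : G) : UM (cj g X) (cj g M) :=
  ⟨max_cj h.max g, cj_mono g h.le, fun L a b => by
    rw [← h.uniq _ (max_cj a g⁻¹) (cj_le_iff_le_cj_inv.1 b), cj_cj_inv]⟩
theorem UU.cj (h : UU X) (g : G) : UU (cj g X) := by obtain ⟨M, h⟩ := h; exact (h.cj g).uu
theorem UM.eq (h : UM X M) (h1 : UM X L) : L = M := h.uniq L h1.max h1.le
theorem um_of_forall (h0 : X ≠ ⊤) (h : ∀ L, IsCoatom L → X ≤ L → L = M) : UM X M := by
  obtain ⟨L, h1, h2⟩ := exists_max h0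
  exact ⟨h L h1 h2 ▸ h1, h L h1 h2 ▸ h2, h⟩
theorem exists_max_ne (h : ¬ UM X M) (h1 : IsCoatom M) (h2 : X ≤ M) :
    ∃ L, IsCoatom L ∧ X ≤ L ∧ L ≠ M := by
  by_contra h3; push Not at h3; exact h ⟨h1, h2, h3⟩
theorem exists_max_ne' (h : ¬ UM X M) (h2 : X ≠ ⊤) : ∃ L, IsCoatom L ∧ X ≤ L ∧ L ≠ M := by
  by_contra h3; push Not at h3; exact h (um_of_forall h2 h3)
theorem not_um_of (h1 : IsCoatom L) (h2 : X ≤ L) (h3 : L ≠ M) : ¬ UM X M := fun h => h3 (h.uniq L h1 h2)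
theorem not_uu_of (h0 : IsCoatom M) (h1 : IsCoatom L) (h4 : X ≤ M) (h2 : X ≤ L) (h3 : L ≠ M) : ¬ UU X :=
  fun h => h3 (h.eq h0 h1 h4 h2)

/-! membership in the sets of primes -/
theorem mem_sigma : p ∈ sigma M ↔ p.Prime ∧ p ∣ #M ∧ ∃ P, IsSyl p P M ∧ NN P ≤ M :=
  and_congr_right fun hp => and_congr_right fun _ => haveI := Fact.mk hp
    ⟨fun ⟨P, h⟩ => ⟨_, isSyl_map_subtype P, h⟩, fun ⟨P, h1, h2⟩ => by
      obtain ⟨S, rfl⟩ := h1.exists_sylow_map; exact ⟨S, h2⟩⟩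
theorem sigma_prime (h : p ∈ sigma M) : p.Prime := h.1
theorem sigma_dvd (h : p ∈ sigma M) : p ∣ #M := h.2.1
theorem mem_sigma_of [hp : Fact p.Prime] (h : IsSyl p P M) (h1 : P ≠ ⊥) (h2 : NN P ≤ M) : p ∈ sigma M :=
  mem_sigma.2 ⟨hp.out, (pg_dvd h.pgroup h1).trans (card_dvd h.le), P, h, h2⟩
theorem sigma_nn [Fact p.Prime] (h : p ∈ sigma M) (h1 : IsSyl p P M) : NN P ≤ M := by
  obtain ⟨-, -, R, h2, h3⟩ := mem_sigma.1 h
  obtain ⟨g, h4, rfl⟩ := h1.exists_cj_eq h2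
  rw [← cj_normalizer]; exact cj_le' h3 h4
theorem not_nn_le [Fact p.Prime] (h : p ∉ sigma M) (h1 : IsSyl p P M) (h2 : P ≠ ⊥) : ¬ NN P ≤ M :=
  fun h3 => h (mem_sigma_of h1 h2 h3)
theorem syl_top_of_nn [Fact p.Prime] (h1 : IsSyl p P M) (h : NN P ≤ M) : IsSyl p P ⊤ :=
  syl_of_nn le_top (h1.mono (le_inf le_top (le_nn P)) (inf_le_right.trans h))
theorem sigma_syl [Fact p.Prime] (h : p ∈ sigma M) (h1 : IsSyl p P M) : IsSyl p P ⊤ :=
  syl_top_of_nn h1 (sigma_nn h h1)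
theorem sigma_syl_ne_bot [Fact p.Prime] (h : p ∈ sigma M) (h1 : IsSyl p P M) : P ≠ ⊥ :=
  syl_ne_bot h1 (sigma_dvd h)
theorem mem_alpha : p ∈ alpha M ↔ p.Prime ∧ Rk p 3 M :=
  and_congr_right fun hp => haveI := Fact.mk hp; by rw [prankLE_iff, not_not]
theorem alpha_iff [hp : Fact p.Prime] : p ∈ alpha M ↔ Rk p 3 M := mem_alpha.trans (and_iff_right hp.out)
theorem ideal_iff [hp : Fact p.Prime] :
    IsIdealPrime p G ↔ Rk p 3 (⊤ : Subgroup G) ∧ ∀ P : Subgroup G, IsSyl p P ⊤ → ¬ Narrow p P := by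
  rw [IsIdealPrime, and_iff_right hp.out, prankLE_top, not_not]
  refine and_congr_right fun h => ⟨fun h1 P hP h2 => ?_, fun h1 P A h2 h3 h4 => ?_⟩
  · obtain ⟨A, h3, h4⟩ := h2 (h.syl hP)
    obtain ⟨S, rfl⟩ := hP.exists_sylow
    obtain ⟨B, h5, h6, h7⟩ := h1 S A h3.le h3.elem h3.card
    exact h7.ne' (h4.max B h5 h6 h7.le)
  · by_contra h5
    refine h1 P (isSyl_top P) fun _ => ⟨A, ⟨h2, h3, h4⟩, h2, h3, fun B a b c => ?_⟩
    by_contra h6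
    exact h5 ⟨B, a, b, lt_of_le_of_ne c (Ne.symm h6)⟩
theorem ideal_prime (h : IsIdealPrime p G) : p.Prime := h.1
theorem ideal_of_not_narrow [Fact p.Prime] (h : IsSyl p P ⊤) (h1 : ¬ Narrow p P) : IsIdealPrime p G := by
  refine ideal_iff.2 ⟨(by_contra fun h2 => h1 (narrow_of_not_rk h2) : Rk p 3 P).mono le_top, fun R hR h2 => ?_⟩
  obtain ⟨g, -, rfl⟩ := h.exists_cj_eq hR
  exact h1 (h2.cj g)
theorem narrow_of_not_ideal [Fact p.Prime] (h : IsSyl p P ⊤) (h1 : ¬ IsIdealPrime p G) : Narrow p P :=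
  by_contra fun h2 => h1 (ideal_of_not_narrow h h2)
theorem mem_beta : p ∈ beta M ↔ p ∈ alpha M ∧ IsIdealPrime p G := Iff.rfl
theorem beta_sub_alpha (M : Subgroup G) : beta M ⊆ alpha M := fun _ h => h.1
theorem mem_tau1 : p ∈ tau1 M ↔
    p.Prime ∧ p ∉ sigma M ∧ p ∣ #M ∧ ¬ p ∣ #(⁅M, M⁆ : Subgroup G) ∧ ¬ Rk p 2 M :=
  and_congr_right fun hp => haveI := Fact.mk hp; by rw [prankLE_iff]
theorem mem_tau2 : p ∈ tau2 M ↔ p.Prime ∧ p ∉ sigma M ∧ ¬ Rk p 3 M ∧ Rk p 2 M :=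
  and_congr_right fun hp => haveI := Fact.mk hp; by rw [prankLE_iff, prankLE_iff, not_not]
theorem mem_tau3 : p ∈ tau3 M ↔
    p.Prime ∧ p ∉ sigma M ∧ p ∣ #(⁅M, M⁆ : Subgroup G) ∧ ¬ Rk p 2 M :=
  and_congr_right fun hp => haveI := Fact.mk hp; by rw [prankLE_iff]
theorem tau1_prime (h : p ∈ tau1 M) : p.Prime := h.1
theorem tau2_prime (h : p ∈ tau2 M) : p.Prime := h.1
theorem tau3_prime (h : p ∈ tau3 M) : p.Prime := h.1
theorem tau1_ns (h : p ∈ tau1 M) : p ∉ sigma M := h.2.1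
theorem tau2_ns (h : p ∈ tau2 M) : p ∉ sigma M := h.2.1
theorem tau3_ns (h : p ∈ tau3 M) : p ∉ sigma M := h.2.1
theorem tau1_dvd (h : p ∈ tau1 M) : p ∣ #M := h.2.2.1
theorem tau1_nd (h : p ∈ tau1 M) : ¬ p ∣ #(⁅M, M⁆ : Subgroup G) := h.2.2.2.1
theorem tau3_dvd' (h : p ∈ tau3 M) : p ∣ #(⁅M, M⁆ : Subgroup G) := h.2.2.1
theorem tau3_dvd (h : p ∈ tau3 M) : p ∣ #M := h.2.2.1.trans (card_dvd (der_le M))
theorem tau1_rk (h : p ∈ tau1 M) : ¬ Rk p 2 M := (mem_tau1.1 h).2.2.2.2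
theorem tau3_rk (h : p ∈ tau3 M) : ¬ Rk p 2 M := (mem_tau3.1 h).2.2.2
theorem tau2_rk (h : p ∈ tau2 M) : Rk p 2 M := (mem_tau2.1 h).2.2.2
theorem tau2_rk3 (h : p ∈ tau2 M) : ¬ Rk p 3 M := (mem_tau2.1 h).2.2.1
theorem tau2_dvd (h : p ∈ tau2 M) : p ∣ #M := (tau2_rk h).dvd
theorem tau1_not2 (h : p ∈ tau1 M) : p ∉ tau2 M := fun h1 => tau1_rk h (tau2_rk h1)
theorem tau3_not2 (h : p ∈ tau3 M) : p ∉ tau2 M := fun h1 => tau3_rk h (tau2_rk h1)
theorem tau1_not3 (h : p ∈ tau1 M) : p ∉ tau3 M := fun h1 => tau1_nd h (tau3_dvd' h1)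
theorem tau13_iff : p ∈ tau1 M ∪ tau3 M ↔ p.Prime ∧ p ∉ sigma M ∧ p ∣ #M ∧ ¬ Rk p 2 M := by
  refine ⟨fun h => h.elim (fun h => ⟨h.1, h.2.1, tau1_dvd h, tau1_rk h⟩)
    fun h => ⟨h.1, h.2.1, tau3_dvd h, tau3_rk h⟩, fun ⟨a, b, c, d⟩ => ?_⟩
  by_cases e : p ∣ #(⁅M, M⁆ : Subgroup G)
  · exact .inr (mem_tau3.2 ⟨a, b, e, d⟩)
  · exact .inl (mem_tau1.2 ⟨a, b, c, e, d⟩)

theorem sigma_cj (g : G) (M : Subgroup G) : sigma (cj g M) = sigma M := by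
  have h : ∀ (g : G) (M : Subgroup G), sigma M ⊆ sigma (cj g M) := fun g M p h => by
    obtain ⟨a, b, P, c, d⟩ := mem_sigma.1 h
    exact mem_sigma.2 ⟨a, card_cj g M ▸ b, _, c.cj g, cj_normalizer g P ▸ cj_mono g d⟩
  exact (by simpa only [cj_inv_cj] using h g⁻¹ (cj g M) : sigma (cj g M) ⊆ sigma M).antisymm (h g M)
theorem alpha_cj (g : G) (M : Subgroup G) : alpha (cj g M) = alpha M := by
  ext p; simp only [mem_alpha, rk_cj]
theorem beta_cj (g : G) (M : Subgroup G) : beta (cj g M) = beta M := by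
  ext p; simp only [mem_beta, alpha_cj]
theorem tau1_cj (g : G) (M : Subgroup G) : tau1 (cj g M) = tau1 M := by
  ext p; simp only [mem_tau1, rk_cj, sigma_cj, ← cj_commutator, card_cj]
theorem tau2_cj (g : G) (M : Subgroup G) : tau2 (cj g M) = tau2 M := by
  ext p; simp only [mem_tau2, rk_cj, sigma_cj]
theorem tau3_cj (g : G) (M : Subgroup G) : tau3 (cj g M) = tau3 M := by
  ext p; simp only [mem_tau3, rk_cj, sigma_cj, ← cj_commutator, card_cj]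
theorem cj_Sg (g : G) (M : Subgroup G) : cj g (Sg M) = Sg (cj g M) := by rw [Sg_eq, Sg_eq, cj_O, sigma_cj]
theorem cj_Al (g : G) (M : Subgroup G) : cj g (Al M) = Al (cj g M) := by rw [Al_eq, Al_eq, cj_O, alpha_cj]
theorem cj_Be (g : G) (M : Subgroup G) : cj g (Be M) = Be (cj g M) := by rw [Be, Be, cj_O, beta_cj]
theorem CJ.sigma (h : CJ M H) : sigma H = sigma M := by obtain ⟨g, rfl⟩ := h; exact sigma_cj g M
theorem CJ.max (h : CJ M H) (h1 : IsCoatom M) : IsCoatom H := by obtain ⟨g, rfl⟩ := h; exact max_cj h1 g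

/-! the largest normal nilpotent Hall subgroup -/
theorem le_MF {π : Set ℕ} (h : Hall π H M) (h1 : M ≤ NN H) (h2 : Group.IsNilpotent H) : H ≤ MF M := by
  rw [← map_subgroupOf_eq_of_le h.le]
  exact map_mono (le_sSup ⟨normal_subgroupOf_of_le_normalizer h1,
    nilpotent_of_mulEquiv (subgroupOfEquivOfLe h.le).symm,
    by rw [Nat.card_congr (subgroupOfEquivOfLe h.le).toEquiv]; exact h.coprime⟩)
theorem MF_spec (M : Subgroup G) : Group.IsNilpotent (MF M) ∧ Hall {p | p ∣ #(MF M)} (MF M) M ∧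
    M ≤ NN (MF M) := by
  have h := Solv.sSup_normal_mem (G := M)
    (P := fun N => Group.IsNilpotent N ∧ (#N).Coprime N.index) ⟨inferInstance, by simp⟩
    fun A B a b c d => ⟨nil_sup c.1 d.1 nn_normal nn_normal, by
      have := (hall_of_coprime le_top (by simpa using c.2)).sup_union
        (hall_of_coprime le_top (by simpa using d.2)) (nn_normal (H := A))
      simpa using this.coprime⟩
  refine ⟨Solv.isNilpotent_map _ h.1, hall_of_coprime (MF_le M) ?_,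
    (normal_subgroupOf_iff_le_normalizer (MF_le M)).1 ?_⟩
  · rw [fittingHallOf, Comp.card_map_subtype, relIndex, ← Subgroup.comap_subtype,
      comap_map_eq_self_of_injective M.subtype_injective]
    exact h.2
  · rw [fittingHallOf, ← Subgroup.comap_subtype, comap_map_eq_self_of_injective M.subtype_injective]
    exact fittingHall_normal M
theorem MF_nil (M : Subgroup G) : Group.IsNilpotent (MF M) := (MF_spec M).1
theorem MF_hall (M : Subgroup G) : Hall {p | p ∣ #(MF M)} (MF M) M := (MF_spec M).2.1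
theorem nn_MF (h : A ≤ NN M) : A ≤ NN (MF M) := (MF_hall M).nn (MF_spec M).2.2 h
theorem nn_MF' (h : A ≤ M) : A ≤ NN (MF M) := nn_MF (nn_of_le h)
theorem MF_le_F (M : Subgroup G) : MF M ≤ F M := le_F (MF_le M) (nn_MF' le_rfl) (MF_nil M)
theorem cj_MF (g : G) (M : Subgroup G) : cj g (MF M) = MF (cj g M) := by
  have h : ∀ (g : G) (M : Subgroup G), cj g (MF M) ≤ MF (cj g M) := fun g M =>
    le_MF ((MF_hall M).cj g) (nn_cj (nn_MF' le_rfl) g) (nil_cj (MF_nil M) g)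
  refine le_antisymm (h g M) (le_cj_iff_cj_inv_le.2 ?_)
  simpa only [cj_inv_cj] using h g⁻¹ (cj g M)
theorem syl_le_MF [Fact p.Prime] (h : IsSyl p P M) (h1 : M ≤ NN P) : P ≤ MF M :=
  le_MF (hall_of_syl h) h1 (nil_of_pg h.pgroup)
theorem MF_syl [Fact p.Prime] (h : p ∣ #(MF M)) : IsSyl p (O {p} M) M := by
  have h1 := (MF_hall M).syl_trans (nil_syl (p := p) (MF_nil M)) h
  rwa [← syl_eq_O h1 (nn_O (nn_MF' le_rfl))]
theorem O1_MF [Fact p.Prime] (h : p ∣ #(MF M)) : O {p} (MF M) = O {p} M :=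
  syl_eq_O ((MF_hall M).syl_trans (nil_syl (MF_nil M)) h) (nn_O (nn_MF' le_rfl))
end

macro_rules
  | `(tactic| nrm) => `(tactic| first
    | (with_reducible apply nn_Sg); nrm
    | (with_reducible apply nn_Al); nrm
    | (with_reducible apply nn_MF); nrm)

/-! ### the minimal counterexample -/

section
variable [hG : MinS G] {A B H K L M X Y P : Subgroup G} {p q : ℕ} {g x : G}
include hG

theorem odd_sub (H : Subgroup G) : Odd #H := hG.out.1.of_dvd_nat (card_subgroup_dvd_card H)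
theorem ne_two_of_dvd (h : p ∣ #H) : p ≠ 2 := by rintro rfl; exact (odd_sub H).not_two_dvd_nat h
theorem pg_ne_two [Fact p.Prime] (h : IsPGroup p H) (h1 : H ≠ ⊥) : p ≠ 2 := ne_two_of_dvd (pg_dvd h h1)
theorem El.ne_two {n : ℕ} (h : El p (n + 1) A H) : p ≠ 2 := ne_two_of_dvd h.dvd
theorem Rk.ne_two {n : ℕ} (h : Rk p (n + 1) H) : p ≠ 2 := ne_two_of_dvd h.dvd
theorem sol_of_ne (h : H ≠ ⊤) : Group.IsSolvable H := hG.out.2.2.2 H h
theorem simple : IsSimpleGroup G := hG.out.2.1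
theorem not_sol : ¬ Group.IsSolvable (⊤ : Subgroup G) := fun h => by
  haveI := simple (G := G)
  haveI : Group.IsSolvable G := solvable_of_surjective (f := (⊤ : Subgroup G).subtype)
    fun x => ⟨⟨x, trivial⟩, rfl⟩
  exact hG.out.2.2.1 ⟨⟨IsSimpleGroup.comm_iff_isSolvable.2 this⟩⟩
theorem ne_top_of_sol (h : Group.IsSolvable H) : H ≠ ⊤ := fun e => not_sol (e ▸ h)
theorem ne_top_of_nil (h : Group.IsNilpotent H) : H ≠ ⊤ := ne_top_of_sol (sol_of_nil h)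
theorem pg_ne_top [Fact p.Prime] (h : IsPGroup p H) : H ≠ ⊤ := ne_top_of_sol (sol_of_pg h)
theorem ab_ne_top (h : IsMulCommutative H) : H ≠ ⊤ := ne_top_of_sol (sol_of_ab h)
theorem max_sol (h : IsCoatom M) : Group.IsSolvable M := sol_of_ne h.1
theorem sol_of_le (h : IsCoatom M) (h1 : H ≤ M) : Group.IsSolvable H := sol_mono (max_sol h) h1
theorem nn_ne_top (h : H ≠ ⊥) (h1 : H ≠ ⊤) : NN H ≠ ⊤ := fun e => by
  haveI := simple (G := G)
  exact (normalizer_eq_top_iff.1 e).eq_bot_or_eq_top.elim h h1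
theorem cc_ne_top (h : H ≠ ⊥) : CC H ≠ ⊤ := fun e => by
  by_cases h1 : H = ⊤
  · exact ab_ne_top (ab_iff.2 (e ▸ le_top)) h1
  · exact nn_ne_top h h1 (top_le_iff.1 (e ▸ cc_le_nn H))
theorem C1_ne_top (h : x ≠ 1) : C1 x ≠ ⊤ := cc_zpowers x ▸ cc_ne_top (by rwa [Ne, zpowers_eq_bot])
theorem nn_ne_top' (h : IsCoatom M) (h1 : H ≤ M) (h0 : H ≠ ⊥) : NN H ≠ ⊤ :=
  nn_ne_top h0 (ne_top_of_le h.1 h1)
theorem pg_nn_ne_top [Fact p.Prime] (h : IsPGroup p H) (h0 : H ≠ ⊥) : NN H ≠ ⊤ := nn_ne_top h0 (pg_ne_top h)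
theorem sup_ne_top (h1 : A ≠ ⊤) (h2 : B ≠ ⊤) (h : B ≤ NN A) : A ⊔ B ≠ ⊤ :=
  ne_top_of_sol (sol_sup_l (sol_of_ne h1) (sol_of_ne h2) h)
theorem max_nn (h : IsCoatom M) (h1 : H ≠ ⊥) (h2 : H ≠ ⊤) (h3 : M ≤ NN H) : NN H = M :=
  max_eq h h3 (nn_ne_top h1 h2)
theorem max_nn' (h : IsCoatom M) (h1 : H ≠ ⊥) (h2 : H ≤ M) (h3 : M ≤ NN H) : NN H = M :=
  max_nn h h1 (ne_top_of_le h.1 h2) h3
theorem max_ne_bot (h : IsCoatom M) : M ≠ ⊥ := fun e => by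
  subst e
  haveI := simple (G := G)
  obtain ⟨x, hx⟩ := exists_ne (1 : G)
  exact ab_ne_top (ab_of_cyc (cyc_zpowers x)) (h.2 _ (bot_lt_iff_ne_bot.2 (by rwa [Ne, zpowers_eq_bot])))
theorem nn_max (h : IsCoatom M) : NN M = M := max_nn h (max_ne_bot h) h.1 (le_nn M)
theorem cj_max_iff (h : IsCoatom M) : cj g M = M ↔ g ∈ M := by
  rw [← mem_normalizer_iff_cj, nn_max h]
theorem cj_max_ne (h : IsCoatom M) (hg : g ∉ M) : cj g M ≠ M := fun e => hg ((cj_max_iff h).1 e)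
theorem mem_of_le_cj (h : IsCoatom M) (h1 : M ≤ cj g M) : g ∈ M :=
  (cj_max_iff h).1 (max_eq' h (max_cj h g) h1)
theorem UM.mem_of_le_cj (h : UM X M) (h1 : X ≤ Transfer.cj g M) : g ∈ M :=
  (cj_max_iff h.max).1 (h.uniq _ (max_cj h.max g) h1)
theorem UM.mem_of_cj_le (h : UM X M) (h1 : Transfer.cj g X ≤ M) : g ∈ M :=
  inv_mem_iff.1 (h.mem_of_le_cj (cj_le_iff_le_cj_inv.1 h1))
theorem UM.nn_le (h : UM X M) : NN X ≤ M := fun g hg => h.mem_of_cj_le ((cj_nn hg).symm ▸ h.le)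
theorem UU.nn_le (h : UU X) (h1 : IsCoatom M) (h2 : X ≤ M) : NN X ≤ M := (h.um h1 h2).nn_le
theorem UM.ne_bot (h : UM X M) : X ≠ ⊥ := fun e => h.max.1 (top_le_iff.1 (by
  subst e; exact nn_bot.trans h.nn_le))
theorem UU.ne_bot (h : UU X) : X ≠ ⊥ := by obtain ⟨M, h⟩ := h; exact h.ne_bot
theorem F_max_ne_bot (h : IsCoatom M) : F M ≠ ⊥ := F_ne_bot (max_sol h) (max_ne_bot h)
theorem nn_F_max (h : IsCoatom M) : NN (F M) = M := max_nn' h (F_max_ne_bot h) (F_le M) (by nrm)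
theorem der_lt_max (h : IsCoatom M) : ⁅M, M⁆ < M := sol_der_lt (max_sol h) (max_ne_bot h)
theorem pg_cyc [Fact p.Prime] (h : IsPGroup p P) (h1 : ¬ Rk p 2 P) : IsCyclic P := by
  by_cases e : P = ⊥
  · exact e ▸ cyc_bot
  · exact cyc_of_not_rk2 (pg_ne_two h e) h h1
theorem pg_rk2 [Fact p.Prime] (h : IsPGroup p P) (h1 : ¬ IsCyclic P) : Rk p 2 P :=
  by_contra fun h2 => h1 (pg_cyc h h2)
theorem mem_of_sq_mem (h : g ^ 2 ∈ H) : g ∈ H := by
  obtain ⟨k, hk⟩ := odd_sub (zpowers g)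
  have : g = (g ^ 2) ^ (k + 1) := by
    rw [← pow_mul, show 2 * (k + 1) = (2 * k + 1) + 1 by ring, pow_succ, ← hk, Nat.card_zpowers,
      pow_orderOf_eq_one, one_mul]
  rw [this]; exact pow_mem h _
theorem mem_kappa : p ∈ kappa M ↔
    p ∈ tau1 M ∪ tau3 M ∧ ∃ P ≤ M, #P = p ∧ Sg M ⊓ CC P ≠ ⊥ := by
  rw [tau13_iff]
  constructor
  · rintro ⟨a, b, c, d⟩
    haveI := Fact.mk a
    obtain ⟨S⟩ := (inferInstance : Nonempty (Sylow p M))
    obtain ⟨h1, x, h2, h3, y, h4, h5, h6⟩ := d S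
    have hS := isSyl_map_subtype S
    refine ⟨⟨a, c, b, fun h => not_rk2_of_cyc (isCyclic_of_surjective _
      ((S : Subgroup M).equivMapOfInjective _ M.subtype_injective).surjective) (h.syl hS)⟩, ?_⟩
    have hx : zpowers (x : G) ≤ (S : Subgroup M).map M.subtype := zpowers_le.2 ⟨x, h2, rfl⟩
    obtain ⟨P, h7, h8⟩ := pg_exists_card (hS.pgroup.to_le hx) (by simpa using h3)
    exact ⟨P, h7.trans (hx.trans hS.le), h8, ne_bot_of_mem (x := y)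
      (mem_inf.2 ⟨h4, cc_anti h7 (cc_zpowers (x : G) ▸ mem_C1.2 h6.symm)⟩) h5⟩
  · rintro ⟨⟨a, c, b, d⟩, P, h1, h2, h3⟩
    haveI := Fact.mk a
    refine ⟨a, b, c, fun S => ?_⟩
    have hS := isSyl_map_subtype S
    have := pg_cyc hS.pgroup fun h => d (h.mono hS.le)
    refine ⟨isCyclic_of_surjective _
      ((S : Subgroup M).equivMapOfInjective _ M.subtype_injective).symm.surjective, ?_⟩
    obtain ⟨g, h4, h5⟩ := hS.exists_cj_le (pg_of_card h2) h1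
    obtain ⟨x, h6, h7⟩ := exists_ne_one (H := cj g P) (by rw [Ne, cj_eq_bot_iff]; exact prime_ne_bot (h2 ▸ a))
    obtain ⟨y, h8, h9⟩ := exists_ne_one (H := cj g (Sg M ⊓ CC P)) (by rwa [Ne, cj_eq_bot_iff])
    rw [cj_inf, cj_nn (nn_Sg' le_rfl h4), cj_centralizer] at h8
    obtain ⟨x', h10, rfl⟩ := h5 h6
    exact ⟨x', h10, by simpa using h7, y, h8.1, h9, h8.2 _ h6⟩
theorem kappa_prime (h : p ∈ kappa M) : p.Prime := h.1
theorem kappa_dvd (h : p ∈ kappa M) : p ∣ #M := h.2.1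
theorem kappa_ns (h : p ∈ kappa M) : p ∉ sigma M := h.2.2.1
theorem kappa_13 (h : p ∈ kappa M) : p ∈ tau1 M ∪ tau3 M := (mem_kappa.1 h).1
theorem kappa_rk (h : p ∈ kappa M) : ¬ Rk p 2 M := (tau13_iff.1 (kappa_13 h)).2.2.2
theorem kappa_not2 (h : p ∈ kappa M) : p ∉ tau2 M := fun h1 => kappa_rk h (tau2_rk h1)
theorem kappa_cj (g : G) (M : Subgroup G) : kappa (cj g M) = kappa M := by
  have h : ∀ (g : G) (M : Subgroup G), kappa M ⊆ kappa (cj g M) := fun g M p h => by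
    obtain ⟨a, P, b, c, d⟩ := mem_kappa.1 h
    exact mem_kappa.2 ⟨by rwa [tau1_cj, tau3_cj], _, cj_mono g b, card_cj g P ▸ c, by
      rwa [← cj_Sg, ← cj_centralizer, ← cj_inf, Ne, cj_eq_bot_iff]⟩
  exact (by simpa only [cj_inv_cj] using h g⁻¹ (cj g M) : kappa (cj g M) ⊆ kappa M).antisymm (h g M)
end

end Cfsg.Agent.MS
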