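import Cfsg.Agent.Lib.MS.Pre5
import Cfsg.Agent.Lib.BG.Sec3b
import Cfsg.Agent.Lib.BG.Meta

/-!
Results of BG sections 2 to 6 in the vocabulary of this directory.
-/

set_option linter.unusedSectionVars false
set_option linter.unusedVariables false
set_option linter.style.haveILetI false
set_option linter.unusedSimpArgs false

namespace Cfsg.Agent.MS

open Subgroup Cfsg.Agent.Transfer

universe u
variable {G : Type u} [Group G] [Finite G]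

section
variable {A B E H K L M N P Q R S U V X Y : Subgroup G} {p q n : ℕ} {π ρ : Set ℕ}

/-- BG 3.6 -/
theorem bg3_6 [Fact p.Prime] (hs : Group.IsSolvable (H ⊔ R : Subgroup G)) (ho : Odd #(H ⊔ R : Subgroup G))
    (hR : R ≤ NN H) (hc : (#H).Coprime #R) (h0 : X ≤ R) (hX : (#X).Prime) (hZ : ¬ RkA 2 (H ⊓ CC X)) :
    PL1 p ⁅H, R⁆ :=
  pl1_bg.2 (BG.pl1_commutator (sol_mono hs le_sup_left) (odd_mono ho le_sup_left)
    (odd_mono ho (h0.trans le_sup_right)) hR hc.symm h0 hX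
    ((zgroup_iff (odd_mono ho (inf_le_left.trans le_sup_left))).2 hZ))
/-- BG 3.8 -/
theorem bg3_8 (hs : Group.IsSolvable (K ⊔ R : Subgroup G)) (ho : Odd #(K ⊔ R : Subgroup G))
    (hR : R ≤ NN K) (hc : (#K).Coprime #R) (hp : Prm K R) (hF : F K ⊓ CC R = ⊥) : ⁅K, R⁆ ≤ F K :=
  F_eq K ▸ BG.commutator_le_Fit_of_semiprime (sol_mono hs le_sup_left) hR hc.symm
    (ho.of_dvd_nat (card_dvd le_sup_left)) (ho.of_dvd_nat (card_dvd le_sup_right)) hp (F_eq K ▸ hF)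
/-- BG 3.10 -/
theorem bg3_10 (hK : K ≠ ⊥) (hR : R ≠ ⊥) (hRK : R ≤ NN K) (hf : Reg K R)
    (hs : Group.IsSolvable (K ⊔ R : Subgroup G)) (ho : Odd #(K ⊔ R : Subgroup G)) (hM : M ≠ ⊥)
    (hn : Group.IsNilpotent M) (h1 : K ≤ NN M) (h2 : R ≤ NN M)
    (hc : (#(K ⊔ R : Subgroup G)).Coprime #M) (h3 : M ⊓ CC K = ⊥) (hp : Prm M R) :
    (#R).Prime ∧ #M = #(M ⊓ CC R : Subgroup G) ^ #R ∧
      (IsCyclic (M ⊓ CC R : Subgroup G) → ⁅K, K⁆ ≤ CC M) :=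
  BG.frobenius_primact hR hRK hf hM (by haveI := hn; infer_instance) h1 h2 hc h3 hp
/-- BG 4.16 -/
theorem bg4_16 [Fact p.Prime] (hp : p ≠ 2) (hR : IsPGroup p R) (h0 : R ≠ ⊥) (hr : ¬ Rk p 3 R)
    (hA : A ≤ NN R) (hc : IsPi {p}ᶜ A) (ho : Odd #A) (h : ⁅R, A⁆ = R) :
    3 < p ∧ (IsMulCommutative R ∨ ∃ S C : Subgroup G, S ⊔ C = R ∧ S ≤ CC C ∧ ¬ IsMulCommutative S ∧
      #S = p ^ 3 ∧ (∀ x ∈ S, x ^ p = 1) ∧ IsCyclic C ∧ omegaOne p C = ⁅S, S⁆) := by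
  obtain ⟨a, b⟩ := BG.blackburn hp hR h0 (not_rk_iff.1 hr) hA (pi_compl_iff_coprime.1 hc) ho h rfl rfl
  exact ⟨a, b.imp_right fun ⟨b1, b2, b3, b4, b5, b6⟩ => ⟨_, _, b4,
    cc_symm inf_le_right, b1, b2, b3, b5, b6⟩⟩
/-- BG 5.5(c) -/
theorem bg5_5c [Fact p.Prime] (hp : p ≠ 2) (hR : IsPGroup p R) (hn : Narrow p R) (hA : A ≤ NN R)
    (hq : (#A).Prime) (ho : Odd #A) (hf : ¬ A ≤ CC R) (hd : ¬ #A ∣ p * (p - 1)) :
    2 * #A ∣ p + 1 ∧ (⁅R, A⁆ = R → ¬ IsMulCommutative R → #R = p ^ 3) :=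
  (narrow_bg.1 hn).prime_act hp hR hA hq ho hf hd
end

end Cfsg.Agent.MS
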