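import Cfsg.Agent.Lib.MS.Pre6
import Cfsg.Agent.Lib.BG.Sec5

/-!
Results of BG sections 4 and 5 in the vocabulary of this directory.
-/

set_option linter.unusedSectionVars false
set_option linter.unusedVariables false
set_option linter.style.haveILetI false
set_option linter.unusedSimpArgs false

namespace Cfsg.Agent.MS

open Subgroup Cfsg.Agent.Transfer

universe u
variable {G : Type u} [Group G] [Finite G]

section
variable {A B E H K L M N P Q R S U V X Y : Subgroup G} {p q n : ℕ} {π ρ : Set ℕ}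

theorem not_rkA_iff : ¬ RkA (n + 1) H ↔ BG.rank H ≤ n := rankLE_iff.symm.trans BG.rank_le_iff.symm
theorem narrow_bg [Fact p.Prime] : Narrow p R ↔ BG.Narrow p R :=
  ⟨fun h a => by obtain ⟨A, b, c⟩ := h (rk_iff.2 a); exact ⟨A, b.bg, c.bg⟩,
   fun h a => by
    obtain ⟨A, b, c⟩ := h (rk_iff.1 a); exact ⟨A, ⟨c.le, b.elem, b.card⟩, maxEl_of_bg c⟩⟩
/-- BG 4.18(e) -/
theorem bg4_18_pl1 [Fact p.Prime] (hs : Group.IsSolvable H) (ho : Odd #H) (hr : ¬ Rk p 3 H) : PL1 p H :=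
  pl1_bg.2 (BG.pl1_of_prank_le hs ho (not_rk_iff.1 hr))
/-- BG 4.20(a) -/
theorem bg4_20a (hs : Group.IsSolvable H) (ho : Odd #H) (hr : ¬ RkA 3 (F H)) : ⁅H, H⁆ ≤ F H :=
  F_eq H ▸ BG.der_le_Fit_of_rank_le hs ho (F_eq H ▸ not_rkA_iff.1 hr)
/-- BG 4.20(c) -/
theorem bg4_20c (hs : Group.IsSolvable H) (ho : Odd #H) (hr : ¬ RkA 3 (F H)) (m : ℕ) :
    Hall {q | m ≤ q} (O {q | m ≤ q} H) H :=
  O_eq _ H ▸ BG.hallIn_Opi_of_rank_Fit_le (fun q r _ _ a b => le_trans a b) hs ho (F_eq H ▸ not_rkA_iff.1 hr)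
theorem bg4_20_npc [Fact p.Prime] (hs : Group.IsSolvable H) (ho : Odd #H) (hr : ¬ RkA 3 (F H))
    (hm : p = 3 ∨ ∀ q : ℕ, q.Prime → q ∣ #H → p ≤ q) : NPC p H :=
  npc_iff.2 (BG.hasNPC_of_rank_Fit_le hs ho (F_eq H ▸ not_rkA_iff.1 hr) hm)
/-- BG 5.3(d) -/
theorem bg5_3d [hp' : Fact p.Prime] (hp : p ≠ 2) (hR : IsPGroup p R) (hr : Rk p 3 R) (hA : El p 2 A R)
    (hm : MaxEl p A R) : #(omegaOne p (R ⊓ CC R)) = p ∧ ∃ Y : Subgroup G, IsCyclic Y ∧ omegaOne p (R ⊓ CC R) ≤ Y ∧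
      ∀ X ≤ A, #X = p → X ≠ omegaOne p (R ⊓ CC R) → X ⊓ Y = ⊥ ∧ X ⊔ Y = R ⊓ CC A := by
  have h1 : #(omegaOne p (R ⊓ CC R)) = p :=
    (hm.bg.omega_Z2 hp hR (rk_iff.1 hr) hA.bg).2.1.card.trans (pow_one p)
  have h2 : omegaOne p (R ⊓ CC R) ≤ R ⊓ CC R := omega_le _ _
  have h3 : omegaOne p (R ⊓ CC R) ≤ A := hm.le_of (h2.trans inf_le_left)
    (h2.trans (inf_le_right.trans (cc_anti hA.le))) (omega_elem (ab_center R))
  have key : ∀ X ≤ A, #X = p → X ≠ omegaOne p (R ⊓ CC R) → IsCyclic (BG.NT p R ⊓ CC A : Subgroup G) ∧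
      X ⊓ (BG.NT p R ⊓ CC A) = ⊥ ∧ X ⊔ (BG.NT p R ⊓ CC A) = R ⊓ CC A := fun X a b c => by
    have e : R ⊓ CC X = R ⊓ CC A := by
      conv_rhs => rw [← hA.sup_lines a h3 b h1 c, cc_sup, inf_comm (CC X), ← inf_assoc,
        inf_eq_left.2 (cc_symm (h2.trans inf_le_right))]
    have e2 : BG.NT p R ⊓ CC X = BG.NT p R ⊓ CC A := by
      rw [← inf_eq_left.2 (BG.NT_le R), inf_assoc, e, ← inf_assoc]
    obtain ⟨c1, -, c2, c3, -⟩ := BG.narrow_cent_dprod hp hR (rk_iff.1 hr) (el_one le_rfl b).bg (a.trans hA.le)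
      (not_rk_iff.1 fun ⟨B, hB⟩ => by
        have h4 := hm.le_of (hB.le.trans inf_le_left) (hB.le.trans (e.le.trans inf_le_right)) hB.elem
        have h5 := card_le_of_le h4
        rw [hB.card, hA.card] at h5
        exact absurd ((Nat.pow_le_pow_iff_right hp'.out.one_lt).1 h5) (by omega))
    rw [e2] at c1 c3
    exact ⟨c1, inf_bot_mono c2 le_rfl inf_le_left, c3.trans e⟩
  obtain ⟨X, a, b, c⟩ := hA.exists_line h1
  exact ⟨h1, _, (key X a b c).1, le_inf (h2.trans (BG.center_le_NT R)) (h3.trans hA.cc),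
    fun X a b c => (key X a b c).2⟩
/-- BG 5.3(c): narrowness from a line with centralizer of small rank -/
theorem bg5_3c [Fact p.Prime] (hp : p ≠ 2) (hR : IsPGroup p R) (hX : X ≤ R) (h1 : #X = p)
    (h2 : ¬ Rk p 3 (R ⊓ CC X)) : Narrow p R :=
  narrow_bg.2 (BG.narrow_of_Ct hR (el_one le_rfl h1).bg hX (not_rk_iff.1 h2))
/-- BG 4.17 and 5.5(a): `p'`-subgroups of `A'` centralize a narrow `p`-group normalized by `A` -/
theorem bg5_5a [Fact p.Prime] (hp : p ≠ 2) (hR : IsPGroup p R) (hn : Narrow p R) (hA : A ≤ NN R)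
    (hs : Group.IsSolvable A) (ho : Odd #A) (hX : X ≤ ⁅A, A⁆) (hc : IsPi {p}ᶜ X) : X ≤ CC R :=
  (Comp.le_Res hX (pi_compl_iff_coprime.1 hc)).trans ((narrow_bg.1 hn).res_der_le hp hR hA ho)
/-- BG 5.5(b) -/
theorem bg5_5b [Fact p.Prime] (hp : p ≠ 2) (hR : IsPGroup p R) (hn : Narrow p R) (hr : Rk p 3 R)
    {a : G} (ha : a ∈ NN R) (ho : Odd (orderOf a)) (hc : PiE {p}ᶜ a) : a ^ (p - 1) ∈ CC R :=
  (narrow_bg.1 hn).pow_mem_Ct hp hR (rk_iff.1 hr) ha (Nat.card_zpowers a ▸ pi_compl_iff_coprime.1 hc)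
/-- BG 4.17 and 5.5: primes acting on a narrow group -/
theorem narrow_dvd [Fact p.Prime] [Fact q.Prime] (hp : p ≠ 2) (hR : IsPGroup p R) (hn : Narrow p R)
    (hQ : IsPGroup q Q) (h : Q ≤ NN R) (hne : q ≠ p) (hc : ¬ Q ≤ CC R) : q ∣ p ^ 2 - 1 :=
  (narrow_bg.1 hn).dvd_of_not_le_Ct hp hR hQ h hne hc
/-- BG 4.18 and 5.6 -/
theorem bg5_6 [Fact p.Prime] (hs : Group.IsSolvable H) (ho : Odd #H) (hS : IsSyl p S H)
    (hn : Narrow p S) (hl : PL1 p H) :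
    NPC p ⁅H, H⁆ ∧ (∀ q : ℕ, q.Prime → q ∣ (O {p}ᶜ H).relIndex H → q ≤ p) ∧
      ((p = 3 ∨ ∀ q : ℕ, q.Prime → q ∣ #H → p ≤ q) → NPC p H) := by
  obtain ⟨T, h1, h2⟩ := BG.exists_narrow_of_sylIn (syl_in hS) (narrow_bg.1 hn) fun _ => pl1_bg.1 hl
  exact ⟨npc_iff.2 (BG.hasNPC_der_of_le_Oppp (h2.der_le_Oppp hs ho h1)),
    fun q a b => h2.le_of_dvd_relIndex_Opp hs ho h1 a (O1c_eq (p := p) H ▸ b),
    fun h => npc_iff.2 (h2.hasNPC hs ho h1 h)⟩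
/-- BG 5.7 -/
theorem bg5_7 [Fact p.Prime] (hs : Group.IsSolvable H) (ho : Odd #H) (hE : E ≤ F H)
    (he : IsElementaryAbelian p E) (hr : ¬ RkA 3 (F H ⊓ CC E)) : ⁅H, H⁆ ≤ F H :=
  F_eq H ▸ BG.der_le_Fit_of_rank_Ct_le hs ho he (F_eq H ▸ hE) (F_eq H ▸ not_rkA_iff.1 hr)
/-- BG 4.20(c), the largest prime -/
theorem bg4_20_max [Fact p.Prime] (hs : Group.IsSolvable H) (ho : Odd #H) (hr : ¬ RkA 3 (F H))
    (h : ∀ q : ℕ, q.Prime → q ∣ #H → q ≤ p) : IsSyl p (O {p} H) H := by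
  have e : ∀ q : ℕ, q.Prime → q ∣ #H → (q ∈ {q | p ≤ q} ↔ q ∈ ({p} : Set ℕ)) := fun q a b =>
    ⟨fun c => le_antisymm (h q a b) c, fun c => c ▸ le_refl q⟩
  have := (bg4_20c hs ho hr p).congr e
  rw [O_congr e] at this
  exact this.syl
/-- BG 4.19 for a nilpotent normal subgroup -/
theorem nil_rank2_cc (hN : Group.IsNilpotent N) (hoN : Odd #N) (hr : ¬ RkA 3 N) (hA : A ≤ NN N)
    (hs : Group.IsSolvable A) (ho : Odd #A) (hX : X ≤ ⁅A, A⁆) (hc : (#X).Coprime #N) : X ≤ CC N :=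
  cc_symm (nil_le_of_O hN fun q hq hd => by
    haveI := Fact.mk hq
    refine cc_symm (bg5_5a (fun e => hoN.not_two_dvd_nat (e ▸ hd)) (O_pg N)
      (narrow_of_not_rk fun h => hr (h.mono (O_le _ _)).rkA) (nn_O hA) hs ho hX ?_)
    exact pi_compl_iff.2 fun h => hq.not_dvd_one (hc ▸ Nat.dvd_gcd h hd))
end

end Cfsg.Agent.MS
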