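import Cfsg.Agent.Lib.MS.Pre1
import Cfsg.Agent.Lib.BG.Sec6
import Cfsg.Agent.Lib.BG.Pgp

/-!
Results of BG section 6 in the vocabulary of this directory.
-/

set_option linter.unusedSectionVars false
set_option linter.unusedVariables false
set_option linter.style.haveILetI false
set_option linter.unusedSimpArgs false

namespace Cfsg.Agent.MS

open Subgroup Cfsg.Agent.Transfer

universe u
variable {G : Type u} [Group G] [Finite G]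

section
variable {A B E H K L M N P Q R S U V X Y : Subgroup G} {p q n : ℕ} {π ρ : Set ℕ}

/-- BG 6.3(a) -/
theorem bg6_3a (hs : Group.IsSolvable H) (hK : K ≤ NN H) (hc : (#H).Coprime #K)
    (h : H ≤ ⁅H ⊔ K, H ⊔ K⁆) : ⁅H, K⁆ = H := (BG.coprime_der_sdprod hs hK hc.symm h).1
/-- BG 6.3(b) -/
theorem bg6_3b (hs : Group.IsSolvable H) (hn : Group.IsNilpotent (⁅H, H⁆ : Subgroup G))
    (hp : (⁅H, H⁆.relIndex H).Prime) : (#(⁅H, H⁆ : Subgroup G)).Coprime (⁅H, H⁆.relIndex H) ∧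
      ∀ K, ⁅H, H⁆ ⊔ K = H → ⁅H, H⁆ ⊓ K = ⊥ → ⁅H, K⁆ = ⁅H, H⁆ :=
  ⟨BG.coprime_der_of_prime hn hp, fun K a b => (BG.der_eq_commutator_of_prime hn a b).1⟩
/-- BG 6.5(a) -/
theorem bg6_5a (hs : Group.IsSolvable K) (hU : U ≤ NN K) (hH : H ≤ U) (hc : (#H).Coprime #K) :
    H ⊓ ⁅K ⊔ U, K ⊔ U⁆ = H ⊓ ⁅U, U⁆ := BG.inf_der_sup_eq hU hH hc
/-- BG 6.5(c) -/
theorem bg6_5c (hs : Group.IsSolvable K) (hU : U ≤ NN K) (hH : H ≤ U) (hc : (#H).Coprime #K) {g : G}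
    (hg : g ∈ K ⊔ U) (h : cj g H ≤ U) : ∃ u ∈ U, ∃ c ∈ K ⊓ CC H, g = u * c :=
  BG.exists_mul_of_cj_le hU hH hc (.inr hs) hg h
/-- BG 6.5(b) -/
theorem bg6_5b (hs : Group.IsSolvable K) (hU : U ≤ NN K) (hH : H ≤ U) (hc : (#H).Coprime #K) :
    (K ⊔ U) ⊓ NN H = (K ⊓ CC H) ⊔ (U ⊓ NN H) := BG.inf_normalizer_eq_sup hU hH hc (.inr hs)
/-- BG 6.6(b) -/
theorem bg6_6b [Fact p.Prime] (hs : Group.IsSolvable H) (hl : PL1 p H) (hS : IsSyl p S H)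
    (h : S ≤ ⁅H, H⁆) : S ≤ ⁅H ⊓ NN S, H ⊓ NN S⁆ :=
  (le_inf le_rfl h).trans ((pl1_bg.1 hl).inf_der_le (syl_in hS))
/-- BG 6.6(c) -/
theorem bg6_6c [Fact p.Prime] (hs : Group.IsSolvable H) (hl : PL1 p H) (hS : IsSyl p S H) (hY : Y ≤ S)
    {g : G} (hg : g ∈ H) (h : cj g Y ≤ S) : ∃ u ∈ H ⊓ NN S, ∃ c ∈ H ⊓ CC Y, g = u * c := by
  obtain ⟨u, h1, c, h2, h3⟩ := (pl1_bg.1 hl).exists_mul_of_cj_le (syl_in hS) hY hg h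
  exact ⟨u, h1, c, mem_inf.2 ⟨O_le {p}ᶜ H (O1c_eq (p := p) H ▸ h2.1), h2.2⟩, h3⟩
/-- BG 6.6(d) -/
theorem bg6_6d [Fact p.Prime] (hs : Group.IsSolvable H) (hl : PL1 p H) (hS : IsSyl p S H) (hQ : Q ≤ H)
    (hq : IsPGroup p Q) : ∃ x ∈ H ⊓ CC (Q ⊓ S), cj x Q ≤ S := by
  obtain ⟨c, h2, h3⟩ := (pl1_bg.1 hl).exists_cj_le (syl_in hS) hq hQ
  exact ⟨c, mem_inf.2 ⟨O_le {p}ᶜ H (O1c_eq (p := p) H ▸ h2.1), h2.2⟩, h3⟩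
/-- BG 6.7 -/
theorem bg6_7 [Fact p.Prime] (hp : p ≠ 2) (hs : Group.IsSolvable H) (hl : PL1 p H) (hE : MaxEl p E H)
    (hL : L ≤ H) (hc : IsPi {p}ᶜ L) (hn : E ≤ NN L) : L ≤ O {p}ᶜ H :=
  O1c_eq (p := p) H ▸ (pl1_bg.1 hl).le_Opp_of_maxEl hp hs hE.bg hL (pi_compl_iff_coprime.1 hc) hn
theorem exists_max_prime (h : H ≠ ⊥) : ∃ p : ℕ, p.Prime ∧ p ∣ #H ∧ ∀ q : ℕ, q.Prime → q ∣ #H → q ≤ p := by
  obtain ⟨q, h1, h2⟩ := exists_prime_dvd h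
  obtain ⟨p, h3, h4⟩ := (#H).primeFactors.exists_max_image id
    ⟨q, Nat.mem_primeFactors.2 ⟨h1, h2, card_ne_zero H⟩⟩
  exact ⟨p, (Nat.mem_primeFactors.1 h3).1, (Nat.mem_primeFactors.1 h3).2.1, fun r a b =>
    h4 r (Nat.mem_primeFactors.2 ⟨a, b, card_ne_zero H⟩)⟩
/-- BG 5.1(b) -/
theorem bg5_1b [Fact p.Prime] (hp : p ≠ 2) (hR : IsPGroup p R) (hr : Rk p 3 R) (hE : E ≤ R)
    (he : IsElementaryAbelian p E) (hn : R ≤ NN E) : ∃ A, IsSCN R A ∧ Rk p 3 A ∧ E ≤ A := by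
  obtain ⟨A, h1, h2, h3⟩ := BG.exists_scn_three hp hR (rk_iff.1 hr) hE hn he
  exact ⟨A, h2, rk_iff.2 h3, h1⟩
/-- BG 5.1(a) -/
theorem bg5_1a [Fact p.Prime] (hp : p ≠ 2) (hR : IsPGroup p R) (hr : Rk p 3 R) :
    ∃ A, IsSCN R A ∧ Rk p 3 A := by
  obtain ⟨A, h2, h3⟩ := BG.exists_scn_three' hp hR (rk_iff.1 hr)
  exact ⟨A, h2, rk_iff.2 h3⟩
end

end Cfsg.Agent.MS
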