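import Cfsg.Agent.Lib.MS.Sec10a
import Cfsg.Agent.Lib.MS.Pre2

/-!
BG section 10, first part.
-/

set_option linter.unusedSectionVars false
set_option linter.unusedVariables false
set_option linter.style.haveILetI false
set_option linter.unusedSimpArgs false

namespace Cfsg.Agent.MS

open Subgroup Cfsg.Agent.Transfer

universe u
variable {G : Type u} [Group G] [Finite G]

section
variable [hG : MinS G] {A B E H K L M P Q R S V X Y : Subgroup G} {p q : ℕ} {g x : G}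
include hG

/-- BG 10.6 -/
theorem bg10_6 (p : ℕ) [Fact p.Prime] (hH : H ≠ ⊤) : PL1 p H := by
  obtain ⟨M, hM, h1⟩ := exists_max hH
  refine PL1.mono ?_ h1
  have hs := max_sol hM
  by_cases hr : Rk p 3 M
  swap
  · exact bg4_18_pl1 hs (odd_sub _) hr
  refine PL1.of_normal ?_ (Al_le M) (nn_Al' le_rfl) ((Al_hall hM).nd Fact.out (alpha_iff.2 hr))
  obtain ⟨K, hK⟩ := exists_hall hs (alpha M)ᶜ
  have h2 := (Al_hall hM).sup hK
  have h3 := (Al_pi M).coprime hK.pi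
  rw [← bg6_3a (sol_mono hs (Al_le M)) (nn_Al' hK.le) h3 (h2.symm ▸ (Al_le_Sg hM).trans (Sg_le_der hM))]
  obtain ⟨q, hq, h4⟩ := Nat.exists_prime_and_dvd (relIndex_eq_one.not.2 (der_lt_max hM).not_ge)
  haveI := Fact.mk hq
  have h5 := bg10_4a hM hq h4
  obtain ⟨Q, hQ⟩ := exists_isSyl q K
  have h6 := hK.syl_trans hQ fun h => h5 (alpha_sub_sigma hM h)
  obtain ⟨X, a, b, -, c⟩ := bg10_4b hM h5 h6 (syl_ne_bot h6 (h4.trans (relIndex_dvd _ _)))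
  exact bg3_6 (h2.symm ▸ hs) (odd_sub _) (nn_Al' hK.le) h3 (a.trans (inf_le_left.trans hQ.le)) (b ▸ hq) c
theorem exists_max_nn_syl [Fact p.Prime] (hP : IsSyl p P ⊤) (h : P ≠ ⊥) :
    ∃ M, IsCoatom M ∧ NN P ≤ M ∧ IsSyl p P M ∧ p ∈ sigma M := by
  obtain ⟨M, hM, h1⟩ := exists_max (pg_nn_ne_top hP.pgroup h)
  have h2 := hP.mono ((le_nn P).trans h1) le_top
  exact ⟨M, hM, h1, h2, mem_sigma_of h2 h h1⟩
/-- BG 10.7 -/
theorem bg10_7_der [Fact p.Prime] (hP : IsSyl p P ⊤) : P ≤ ⁅NN P, NN P⁆ := by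
  by_cases h : P = ⊥
  · exact h.le.trans bot_le
  obtain ⟨M, hM, -, h2, h3⟩ := exists_max_nn_syl hP h
  exact (bg6_6b (max_sol hM) (bg10_6 p hM.1) h2 (sigma_pg_le_der hM h3 h2.pgroup h2.le)).trans
    (der_mono inf_le_right)
theorem bg10_7a [Fact p.Prime] (hP : IsSyl p P ⊤) (h1 : P ⊔ V = NN P) (h2 : P ⊓ V = ⊥) : ⁅P, V⁆ = P :=
  bg6_3a (sol_of_pg hP.pgroup) (h1 ▸ le_sup_right) (pg_coprime hP.pgroup ((hall_of_syl
    (hP.mono (le_nn P) le_top)).compl (h1 ▸ le_sup_right) h1 h2).pi (by simp)) (h1.symm ▸ bg10_7_der hP)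
theorem bg10_7b [Fact p.Prime] (hP : IsSyl p P ⊤) (hr : ¬ Rk p 3 P) (ha : ¬ IsMulCommutative P) :
    ∃ S C : Subgroup G, S ⊔ C = P ∧ S ≤ CC C ∧ ¬ IsMulCommutative S ∧ #S = p ^ 3 ∧
      (∀ x ∈ S, x ^ p = 1) ∧ IsCyclic C ∧ omegaOne p C = S ⊓ CC S := by
  have h0 : P ≠ ⊥ := fun e => ha (e ▸ ab_of_cyc cyc_bot)
  have h1 := hall_of_syl (hP.mono (le_nn P) le_top)
  obtain ⟨V, h2, h3⟩ := exists_compl h1 le_rfl
  have h4 : V ≤ NN P := h2 ▸ le_sup_right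
  obtain ⟨S, C, a1, a2, a3, a4, a5, a6, a7⟩ := (bg4_16 (pg_ne_two hP.pgroup h0) hP.pgroup h0 hr h4
    (h1.compl h4 h2 h3).pi (odd_sub _) (bg10_7a hP h2 h3)).2.resolve_left ha
  refine ⟨S, C, a1, a2, a3, a4, a5, a6, ?_⟩
  have hS : IsPGroup p S := IsPGroup.of_card a4
  refine eq_of_card_le (le_inf (a7 ▸ der_le S) ((omega_le _ _).trans (cc_symm a2))) ?_
  refine le_trans ?_ (BG.le_card_of_ne_bot (a7 ▸ hS.to_le (der_le S)) fun e => a3 (ab_iff_der.2 (a7 ▸ e)))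
  by_contra h
  obtain ⟨x, b1, b2⟩ := SetLike.not_le_iff_exists.1 fun h : S ≤ S ⊓ CC S => a3 (ab_iff.2 (h.trans inf_le_right))
  obtain ⟨k, hk⟩ := IsPGroup.iff_card.1 (hS.to_le (inf_le_left : S ⊓ CC S ≤ S))
  have h5 := BG.sup_zpowers_eq_of_card_le (k := 2) hS a4.le inf_le_left (by
    rw [hk] at h ⊢
    refine Nat.pow_le_pow_right (Fact.out : p.Prime).pos (not_lt.1 fun h6 => h ?_)
    exact (Nat.pow_le_pow_right (Fact.out : p.Prime).pos (Nat.le_of_lt_succ h6)).trans_eq (pow_one p)) b1 b2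
  refine a3 (ab_iff.2 ?_)
  conv_rhs => rw [← h5]
  refine le_cc_sup (cc_symm inf_le_right) ?_
  conv_lhs => rw [← h5]
  exact sup_le (inf_le_right.trans (cc_anti (zpowers_le.2 b1))) (ab_cc (ab_of_cyc (cyc_zpowers x)))
theorem bg10_7c [Fact p.Prime] (hP : IsSyl p P ⊤) (h1 : Q ≤ P) (h2 : cj g Q ≤ P) :
    ∃ y ∈ NN P, cj g Q = cj y Q := by
  by_cases h : P = ⊥
  · exact ⟨g, by rw [h]; exact nn_bot (A := ⊤) trivial, rfl⟩
  obtain ⟨M, hM, -, h3, h4⟩ := exists_max_nn_syl hP h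
  obtain ⟨m, a, c, b, rfl⟩ := bg10_1a hM h4 (hP.pgroup.to_le h1) (h1.trans h3.le) (h2.trans h3.le)
  rw [← cj_cj, cj_cc b] at h2 ⊢
  obtain ⟨u, d, v, e, rfl⟩ := bg6_6c (max_sol hM) (bg10_6 p hM.1) h3 h1 a h2
  exact ⟨u, d.2, by rw [← cj_cj, cj_cc e.2]⟩
theorem bg10_7d [Fact p.Prime] (hP : IsSyl p P ⊤) (h1 : Q ≤ P) : IsSyl p (P ⊓ NN Q) (NN Q) := by
  obtain ⟨S, hS, h2⟩ := exists_isSyl_ge (hP.pgroup.to_le h1) (le_nn Q)
  obtain ⟨g, -, h3⟩ := hP.exists_cj_le hS.pgroup le_top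
  obtain ⟨y, h4, h5⟩ := bg10_7c hP h1 ((cj_mono g h2).trans h3)
  refine hS.of_card_le (hP.pgroup.to_le inf_le_left) inf_le_right ?_
  rw [← card_cj (y⁻¹ * g) S]
  refine card_le_of_le (le_inf (cj_cj y⁻¹ g S ▸ cj_le h3 (inv_mem h4)) (cj_le' hS.le ?_))
  rw [mem_normalizer_iff_cj, ← cj_cj, h5, cj_inv_cj]
theorem bg10_7e [Fact p.Prime] (hP : IsSyl p P ⊤) (hR : IsPGroup p R) (h1 : Q ≤ P) (h2 : Q ≤ R)
    (h3 : NN P ≤ NN Q) : NN R ≤ NN Q := by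
  obtain ⟨k, -, h4⟩ := hP.exists_cj_le hR le_top
  have key : ∀ g ∈ NN R, k * g ∈ NN Q := fun g hg => by
    obtain ⟨y, a, b⟩ := bg10_7c (g := k * g) hP h1 (cj_cj k g Q ▸ (cj_mono k (cj_le h2 hg)).trans h4)
    rw [mem_normalizer_iff_cj, b, cj_nn (h3 a)]
  exact fun g hg => ((NN Q).mul_mem_cancel_left (mul_one k ▸ key 1 (one_mem _))).1 (key g hg)
end

end Cfsg.Agent.MS
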