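import Cfsg.Agent.Lib.MS.Sec9

/-!
BG section 10, first part.
-/

set_option linter.unusedSectionVars false
set_option linter.unusedVariables false
set_option linter.style.haveILetI false
set_option linter.unusedSimpArgs false

namespace Cfsg.Agent.MS

open Subgroup Cfsg.Agent.Transfer

universe u
variable {G : Type u} [Group G] [Finite G]

section
variable [hG : MinS G] {A B E H K L M P Q R S V X Y : Subgroup G} {p q : ℕ} {g x : G}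
include hG

theorem alpha_sub_sigma (hM : IsCoatom M) : alpha M ⊆ sigma M := fun p h => by
  haveI := Fact.mk (mem_alpha.1 h).1
  obtain ⟨P, hP⟩ := exists_isSyl p M
  have h1 := (alpha_iff.1 h).syl hP
  exact mem_sigma_of hP (ne_bot_of_dvd Fact.out h1.dvd) (um_of_rk3 hM hP.le h1.rkA).nn_le
theorem beta_sub_sigma (hM : IsCoatom M) : beta M ⊆ sigma M :=
  (beta_sub_alpha M).trans (alpha_sub_sigma hM)
theorem Al_le_Sg (hM : IsCoatom M) : Al M ≤ Sg M := O_sub (alpha_sub_sigma hM) M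
theorem Be_le_Al (M : Subgroup G) : Be M ≤ Al M := O_sub (beta_sub_alpha M) M
theorem Be_le_Sg (hM : IsCoatom M) : Be M ≤ Sg M := (Be_le_Al M).trans (Al_le_Sg hM)
theorem not_rk3_of_ns [Fact p.Prime] (hM : IsCoatom M) (hp : p ∉ sigma M) : ¬ Rk p 3 M :=
  fun h => hp (alpha_sub_sigma hM (alpha_iff.2 h))
theorem not_rkA3_of_pi (hM : IsCoatom M) (h : K ≤ M) (h1 : IsPi (alpha M)ᶜ K) : ¬ RkA 3 K :=
  fun ⟨p, hp, h2⟩ => h1 p hp h2.dvd (mem_alpha.2 ⟨hp, h2.mono h⟩)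
theorem pi_ns_na (hM : IsCoatom M) (h1 : IsPi (sigma M)ᶜ K) : IsPi (alpha M)ᶜ K :=
  h1.sub (Set.compl_subset_compl.2 (alpha_sub_sigma hM))
theorem tau_cases (hM : IsCoatom M) (hp : p.Prime) (h : p ∣ #M) :
    p ∈ sigma M ∨ p ∈ tau1 M ∨ p ∈ tau2 M ∨ p ∈ tau3 M := by
  haveI := Fact.mk hp
  by_cases h1 : p ∈ sigma M
  · exact .inl h1
  by_cases h2 : Rk p 2 M
  · exact .inr (.inr (.inl (mem_tau2.2 ⟨hp, h1, not_rk3_of_ns hM h1, h2⟩)))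
  exact .inr ((tau13_iff.2 ⟨hp, h1, h, h2⟩).imp_right .inr)
theorem mem_tau2_of [hp : Fact p.Prime] (hM : IsCoatom M) (h1 : p ∉ sigma M) (h2 : Rk p 2 M) :
    p ∈ tau2 M := mem_tau2.2 ⟨hp.out, h1, not_rk3_of_ns hM h1, h2⟩
/-- BG 10.1(d) -/
theorem bg10_1d [Fact p.Prime] (hM : IsCoatom M) (hp : p ∈ sigma M) (hP : IsSyl p P M)
    (h : cj g P ≤ M) : g ∈ M := by
  obtain ⟨m, h1, h2⟩ := hP.exists_cj_eq (hP.of_card_le (IsPGroup.cj hP.pgroup g) h (card_cj g P).ge)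
  rw [cj_cj, ← mem_normalizer_iff_cj] at h2
  exact (M.mul_mem_cancel_left h1).1 (sigma_nn hp hP h2)
theorem sigma_trans_aux [Fact p.Prime] (hM : IsCoatom M) (hp : p ∈ sigma M) (hX : IsPGroup p X) :
    ∀ H L, CJ M H → CJ M L → X ≤ H → X ≤ L → ∃ c ∈ CC X, cj c H = L := by
  induction X using Comp.subgroup_induction_gt with | _ X ih => ?_
  intro H L a1 a2 a3 a4
  by_cases h0 : X = ⊥
  · obtain ⟨g, h⟩ := a1.symm.trans a2
    exact ⟨g, by rw [h0, cc_bot]; trivial, h⟩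
  by_cases h1 : IsSyl p X ⊤
  · obtain ⟨g, h⟩ := a1.symm.trans a2
    refine ⟨1, one_mem _, ?_⟩
    rw [cj_one, ← h, cj_eq_of_mem (H.inv_mem_iff.1 (bg10_1d (a1.max hM) (a1.sigma ▸ hp) (h1.mono a3 le_top)
      (le_cj_iff_cj_inv_le.1 (h ▸ a4))))]
  have key : ∀ H, CJ M H → X ≤ H → ∃ Y, X < Y ∧ IsPGroup p Y ∧ Y ≤ H ∧ Y ≤ NN X := fun H a b => by
    obtain ⟨S, s1, s2⟩ := exists_isSyl_ge hX b
    exact ⟨_, lt_inf_normalizer s1.pgroup (s2.lt_of_ne fun e => h1 (e ▸ sigma_syl (a.sigma ▸ hp) s1)),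
      s1.pgroup.to_le inf_le_left, inf_le_left.trans s1.le, inf_le_right⟩
  obtain ⟨Y, y1, y2, y3, y4⟩ := key H a1 a3
  obtain ⟨Z, z1, z2, z3, z4⟩ := key L a2 a4
  obtain ⟨P, hP, b1⟩ := exists_isSyl_ge y2 y4
  obtain ⟨t, t1, t2⟩ := hP.exists_cj_le z2 z4
  obtain ⟨S, hS⟩ := exists_isSyl p M
  obtain ⟨g, -, b2⟩ := (sigma_syl hp hS).exists_cj_le hP.pgroup le_top
  have b3 : P ≤ cj g⁻¹ M := cj_le_iff_le_cj_inv.1 (b2.trans hS.le)
  have b4 := cj_CJ g⁻¹ M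
  generalize cj g⁻¹ M = K at b3 b4
  obtain ⟨c, c1, c2⟩ := ih Y y1 y2 H K a1 b4 y3 (b1.trans b3)
  obtain ⟨d, d1, d2⟩ := ih Z z1 z2 _ L (b4.trans (cj_CJ t⁻¹ K)) a2 (cj_le_iff_le_cj_inv.1 (t2.trans b3)) z3
  obtain ⟨e, e1, e2⟩ : ∃ e ∈ CC X, cj e K = cj t⁻¹ K := by
    have hN := pg_nn_ne_top hX h0
    by_cases hr : Rk p 3 (NN X)
    · exact ⟨1, one_mem _, by rw [cj_one, cj_eq_of_mem (K.inv_mem
        ((um_of_rk3 (b4.max hM) b3 (hr.syl hP).rkA).le_of hP.le hN t1))]⟩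
    obtain ⟨u, u1, v, v1, rfl⟩ := bg6_6c (sol_of_ne hN) (bg4_18_pl1 (sol_of_ne hN) (odd_sub _) hr) hP
      (y1.le.trans b1) t1 ((cj_nn t1).le.trans (y1.le.trans b1))
    obtain ⟨w, w1, w2⟩ := ih P (y1.trans_le b1) hP.pgroup K _ b4 (b4.trans (cj_CJ u⁻¹ K)) b3
      (cj_le_iff_le_cj_inv.1 ((cj_nn u1.2).le.trans b3))
    exact ⟨v⁻¹ * w, mul_mem (inv_mem v1.2) (cc_anti (y1.le.trans b1) w1), by
      rw [← cj_cj, w2, cj_cj, mul_inv_rev]⟩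
  exact ⟨d * (e * c), mul_mem (cc_anti z1.le d1) (mul_mem e1 (cc_anti y1.le c1)), by
    rw [← cj_cj, ← cj_cj, c2, e2, d2]⟩
/-- BG 10.1(a) -/
theorem bg10_1a [Fact p.Prime] (hM : IsCoatom M) (hp : p ∈ sigma M) (hX : IsPGroup p X) (h1 : X ≤ M)
    (h : cj g X ≤ M) : ∃ m ∈ M, ∃ c ∈ CC X, g = m * c := by
  obtain ⟨c, h2, h3⟩ := sigma_trans_aux hM hp hX M _ (CJ.refl M) (cj_CJ g⁻¹ M) h1 (cj_le_iff_le_cj_inv.1 h)
  refine ⟨g * c, (cj_max_iff hM).1 (by rw [← cj_cj, h3, cj_cj_inv]), c⁻¹, inv_mem h2, by group⟩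
/-- BG 10.1(b) -/
theorem bg10_1b [Fact p.Prime] (hM : IsCoatom M) (hp : p ∈ sigma M) (hX : IsPGroup p X) (h1 : X ≤ M)
    (h : X ≤ cj g M) : ∃ c ∈ CC X, cj c M = cj g M :=
  sigma_trans_aux hM hp hX M _ (CJ.refl M) (cj_CJ g M) h1 h
/-- BG 10.1(c) -/
theorem bg10_1c [Fact p.Prime] (hM : IsCoatom M) (hp : p ∈ sigma M) (hX : IsPGroup p X) (h1 : X ≤ M) :
    (M ⊓ NN X) ⊔ CC X = NN X := by
  refine le_antisymm (sup_le inf_le_right (cc_le_nn X)) fun g hg => ?_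
  obtain ⟨m, a, c, b, rfl⟩ := bg10_1a hM hp hX h1 ((cj_nn hg).le.trans h1)
  exact mul_mem (mem_sup_left (mem_inf.2 ⟨a, ((NN X).mul_mem_cancel_right (cc_le_nn X b)).1 hg⟩))
    (mem_sup_right b)
/-- BG 10.1(e) -/
theorem bg10_1e [Fact p.Prime] (hM : IsCoatom M) (hp : p ∈ sigma M) (hX : IsPGroup p X) (h1 : X ≤ M)
    (h2 : CC X ≤ M) (h : cj g X ≤ M) : g ∈ M := by
  obtain ⟨m, a, c, b, rfl⟩ := bg10_1a hM hp hX h1 h
  exact mul_mem a (h2 b)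
theorem der_top : ⁅(⊤ : Subgroup G), (⊤ : Subgroup G)⁆ = ⊤ := by
  by_contra e
  by_cases h : ⁅(⊤ : Subgroup G), (⊤ : Subgroup G)⁆ = ⊥
  · exact ab_ne_top (ab_iff_der.2 h) rfl
  · exact nn_ne_top h e (eq_top_iff.2 (left_nn_comm _ _))
theorem sigma_pg_le_der [Fact p.Prime] (hM : IsCoatom M) (hp : p ∈ sigma M) (hX : IsPGroup p X) (h1 : X ≤ M) :
    X ≤ ⁅M, M⁆ := by
  obtain ⟨P, hP, h2⟩ := exists_isSyl_ge hX h1
  refine h2.trans ((le_inf le_rfl (le_top.trans der_top.ge)).trans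
    (focal_le (sigma_syl hp hP) fun x a k _ b => ?_))
  obtain ⟨m, c, d, e, rfl⟩ := bg10_1a (g := k) hM hp (hP.pgroup.to_le (zpowers_le.2 a))
    (zpowers_le.2 (hP.le a)) (by rw [cj_zpowers]; exact zpowers_le.2 (hP.le b))
  rw [mul_inv_rev, show m * d * x * (d⁻¹ * m⁻¹) = m * (d * x * d⁻¹) * m⁻¹ by group,
    conj_eq_of_cc e (mem_zpowers x)]
  exact commutator_mem_commutator c (hP.le a)
theorem Al_quo (hM : IsCoatom M) {Q : Type u} [Group Q] [Finite Q] {f : M →* Q} (q : QM (Al M) M f) :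
    IsPi (alpha M)ᶜ (im f ⁅M, M⁆) ∧ Group.IsNilpotent (im f ⁅M, M⁆) := by
  have h0 : O (alpha M) (im f M) = ⊥ := by rw [← q.im_O le_rfl (Al_le M) (Al_pi M), ← Al_eq, q.im_N]
  have h1 : IsPi (alpha M)ᶜ (F (im f M)) := fun r a b c => by
    haveI := Fact.mk a
    exact O_ne_bot_of_F b (eq_bot_iff.2 (h0 ▸ O_sub (Set.singleton_subset_iff.2 c) _))
  have h2 := bg4_20a (im_sol (f := f) (max_sol hM) le_rfl) (im_odd (odd_sub _) le_rfl) fun ⟨r, a, b⟩ => by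
    haveI := Fact.mk a
    exact h1 r a b.dvd (alpha_iff.2 (q.rk_of_im le_rfl (Al_le M) ((Al_pi M).not_dvd a (h1 r a b.dvd))
      (b.mono (F_le _))))
  rw [← im_comm le_rfl le_rfl] at h2
  exact ⟨h1.mono h2, nil_mono (F_nil _) h2⟩
/-- BG 10.2 -/
theorem Al_hall (hM : IsCoatom M) : Hall (alpha M) (Al M) M := by
  obtain ⟨Q, _, _, f, q⟩ := exists_qm (Al_le M) (nn_Al' le_rfl)
  refine hall_of_syls (Al_le M) (Al_pi M) fun p a b _ => ?_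
  haveI := Fact.mk a
  obtain ⟨P, hP⟩ := exists_isSyl p M
  exact ⟨P, hP, (q.im_eq_bot hP.le).1 ((pi_of_pg (im_pg hP.pgroup) b).eq_bot ((Al_quo hM q).1.mono
    (im_mono (sigma_pg_le_der hM (alpha_sub_sigma hM b) hP.pgroup hP.le))))⟩
theorem der_nilMod_Al (hM : IsCoatom M) : NilMod (Al M) ⁅M, M⁆ := by
  obtain ⟨Q, _, _, f, q⟩ := exists_qm (Al_le M) (nn_Al' le_rfl)
  exact (q.nilMod_iff (der_le M)).2 (Al_quo hM q).2
theorem Sg_hall (hM : IsCoatom M) : Hall (sigma M) (Sg M) M := by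
  refine hall_of_syls (Sg_le M) (Sg_pi M) fun p a b _ => ?_
  haveI := Fact.mk a
  obtain ⟨P, hP⟩ := exists_isSyl p M
  exact ⟨P, hP, le_sup_right.trans (le_O (sup_le (Al_le M) hP.le) ((der_nilMod_Al hM).nn_hall
    (nn_Al' (der_le M)) (hall_of_syl (hP.mono (sigma_pg_le_der hM b hP.pgroup hP.le) (der_le M)))
    (nn_Al' le_rfl) (by nrm)) (((Al_pi M).sub (alpha_sub_sigma hM)).sup_l (pi_of_pg hP.pgroup b) (nn_Al' hP.le)))⟩
theorem Sg_le_der (hM : IsCoatom M) : Sg M ≤ ⁅M, M⁆ :=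
  le_of_pg fun q a b S c d => by
    haveI := Fact.mk a
    exact sigma_pg_le_der hM (Sg_pi M q a b) d (c.trans (Sg_le M))
theorem Sg_ne_bot (hM : IsCoatom M) : Sg M ≠ ⊥ := fun e => by
  have h : ∀ p, p ∉ sigma M := fun p h => ((Sg_hall hM).eq_bot_iff.1 e) p (sigma_prime h) (sigma_dvd h) h
  obtain ⟨q, hq, h3, h4⟩ := exists_max_prime (max_ne_bot hM)
  haveI := Fact.mk hq
  have h5 := bg4_20_max (max_sol hM) (odd_sub _)
    (fun ⟨r, a, b⟩ => h r (alpha_sub_sigma hM (mem_alpha.2 ⟨a, b.mono (F_le M)⟩))) h4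
  exact h q (mem_sigma_of h5 (syl_ne_bot h5 h3) (nn_O_max hM (syl_ne_bot h5 h3)).le)
theorem hall_top_of_sub {π : Set ℕ} (hM : IsCoatom M) (h : Hall π H M) (h1 : π ⊆ sigma M) :
    Hall π H ⊤ :=
  hall_of_syls le_top h.pi fun p a b _ => by
    haveI := Fact.mk a
    obtain ⟨P, hP⟩ := exists_isSyl p H
    exact ⟨P, sigma_syl (h1 b) (h.syl_trans hP b), hP.le⟩
theorem Sg_hall_top (hM : IsCoatom M) : Hall (sigma M) (Sg M) ⊤ := hall_top_of_sub hM (Sg_hall hM) le_rfl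
theorem Al_hall_top (hM : IsCoatom M) : Hall (alpha M) (Al M) ⊤ :=
  hall_top_of_sub hM (Al_hall hM) (alpha_sub_sigma hM)
theorem der_nilMod_Sg (hM : IsCoatom M) : NilMod (Sg M) ⁅M, M⁆ :=
  (der_nilMod_Al hM).sub (nn_Sg' (der_le M)) (Al_le_Sg hM)
theorem le_Sg (hM : IsCoatom M) (h : K ≤ M) (h1 : IsPi (sigma M) K) : K ≤ Sg M :=
  (Sg_hall hM).le_of_normal (nn_Sg' le_rfl) h h1
theorem le_Al (hM : IsCoatom M) (h : K ≤ M) (h1 : IsPi (alpha M) K) : K ≤ Al M :=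
  (Al_hall hM).le_of_normal (nn_Al' le_rfl) h h1
theorem pg_le_Sg [Fact p.Prime] (hM : IsCoatom M) (hp : p ∈ sigma M) (h : K ≤ M) (h1 : IsPGroup p K) :
    K ≤ Sg M := le_Sg hM h (pi_of_pg h1 hp)
theorem dvd_Sg (hM : IsCoatom M) (hp : p ∈ sigma M) : p ∣ #(Sg M) :=
  (Sg_hall hM).dvd (sigma_prime hp) hp (sigma_dvd hp)
theorem Sg_syl [Fact p.Prime] (hM : IsCoatom M) (hp : p ∈ sigma M) (h : IsSyl p P (Sg M)) : IsSyl p P M :=
  (Sg_hall hM).syl_trans h hp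
theorem syl_Sg [Fact p.Prime] (hM : IsCoatom M) (hp : p ∈ sigma M) (h : IsSyl p P M) : IsSyl p P (Sg M) :=
  h.mono (pg_le_Sg hM hp h.le h.pgroup) (Sg_le M)
theorem nn_Sg_max (hM : IsCoatom M) : NN (Sg M) = M := max_nn' hM (Sg_ne_bot hM) (Sg_le M) (by nrm)
theorem Sg_inf (h : IsPi (sigma M)ᶜ K) : Sg M ⊓ K = ⊥ := (Sg_pi M).inf h
theorem Sg_coprime (h : IsPi (sigma M)ᶜ K) : (#K).Coprime #(Sg M) := ((Sg_pi M).coprime h).symm
theorem Sg_sup (hM : IsCoatom M) (hE : Hall (sigma M)ᶜ E M) : Sg M ⊔ E = M := (Sg_hall hM).sup hE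
theorem hall_ns_iff (hM : IsCoatom M) : IsComplIn E (Sg M) M ↔ Hall (sigma M)ᶜ E M :=
  ⟨fun h => by
    have := (isComplIn_iff' (nn_Sg' h.1)).1 h
    exact (Sg_hall hM).compl (nn_Sg' h.1) ((sup_comm _ _).trans this.1) ((inf_comm _ _).trans this.2),
   fun h => (isComplIn_iff' (nn_Sg' h.le)).2 
    ⟨(sup_comm _ _).trans (Sg_sup hM h), (inf_comm _ _).trans (Sg_inf h.pi)⟩⟩
/-- BG 10.3 -/
theorem bg10_3 (hM : IsCoatom M) (hX : X ≤ M) (h1 : IsPi (alpha M)ᶜ X) (hr : RkA 2 (Al M ⊓ CC X)) :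
    UU (M ⊓ CC X) := by
  obtain ⟨p, hp, B, hB⟩ := hr
  haveI := Fact.mk hp
  have h2 := ne_top_of_le hM.1 (inf_le_left : M ⊓ CC X ≤ M)
  by_cases h : MaxEl p B ⊤
  swap
  · exact (uu_of_not_maxEl hB h).mono (hB.le.trans (inf_le_inf_right _ (Al_le M))) h2
  have ha := Al_pi M p hp (hB.dvd.trans (card_dvd inf_le_left))
  have hBX := cc_symm (hB.le.trans inf_le_right)
  obtain ⟨P, a, b, c⟩ := cop_syl_ge (nn_Al' hX) ((Al_pi M).coprime h1).symm (sol_of_le hM (Al_le M))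
    (hB.le.trans inf_le_left) hB.pg (nn_of_cc hBX)
  have h3 := (Al_hall hM).syl_trans a ha
  exact (uu_of_rk3 (pg_ne_top a.pgroup) ((alpha_iff.1 ha).syl h3).rkA).mono (le_inf h3.le (cc_symm
    (cop_maxEl hB.ne_two a.pgroup (h.mono b le_top) c (h1.sub fun r hr e => hr ((show r = p from e) ▸ ha)) hBX))) h2
/-- BG 10.4(a) -/
theorem bg10_4a (hM : IsCoatom M) (hp : p.Prime) (h : p ∣ ⁅M, M⁆.relIndex M) : p ∉ sigma M := fun h1 => by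
  haveI := Fact.mk hp
  obtain ⟨P, hP⟩ := exists_isSyl p M
  exact hP.not_dvd (h.trans (relIndex_dvd_of_le_left M (sigma_pg_le_der hM h1 hP.pgroup hP.le)))
/-- BG 10.4(b) -/
theorem bg10_4b [Fact p.Prime] (hM : IsCoatom M) (hp : p ∉ sigma M) (hP : IsSyl p P M) (h0 : P ≠ ⊥) :
    ∃ X ≤ P ⊓ CC P, #X = p ∧ ¬ UM (CC X) M ∧ ¬ RkA 2 (Al M ⊓ CC X) := by
  obtain ⟨X, h1, h2, h3⟩ : ∃ X ≤ P ⊓ CC P, #X = p ∧ ¬ UM (CC X) M := by
    obtain ⟨X, h1, h2⟩ := pg_exists_card (hP.pgroup.to_le inf_le_left)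
      (nil_meet (nil_of_pg hP.pgroup) le_rfl (le_nn P) h0)
    by_cases h : UM (CC X) M
    swap
    · exact ⟨X, h1, h2, h⟩
    obtain ⟨u, a, b⟩ := SetLike.not_le_iff_exists.1 (not_nn_le hp hP h0)
    refine ⟨cj u X, cj_le h1 (nn_inf (A := NN P) le_rfl (nn_cc le_rfl) a), (card_cj u X).trans h2, fun h3 => ?_⟩
    exact cj_max_ne hM b (h3.eq (cj_centralizer u X ▸ h.cj u))
  exact ⟨X, h1, h2, h3, fun h => h3 (((bg10_3 hM (h1.trans (inf_le_left.trans hP.le))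
    (pi_ns_na hM (pi_of_pg (pg_of_card h2) hp)) h).um hM inf_le_left).mono inf_le_right
    (cc_ne_top (prime_ne_bot (h2 ▸ Fact.out))))⟩
/-- BG 10.4(c) -/
theorem bg10_4c [Fact p.Prime] (hM : IsCoatom M) (hp : p ∉ sigma M) (hA : El p 2 A M) : MaxEl p A ⊤ := by
  by_contra h
  obtain ⟨P, hP, h1⟩ := exists_isSyl_ge hA.pg hA.le
  exact hp (mem_sigma_of hP (fun e => hA.ne_bot (eq_bot_iff.2 (e ▸ h1)))
    (((uu_of_not_maxEl hA h).um hM hA.le).mono' h1 hP.le).nn_le)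
theorem not_ideal_of_maxEl [Fact p.Prime] (hA : El p 2 A H) (h : MaxEl p A ⊤) : ¬ IsIdealPrime p G := fun h1 => by
  obtain ⟨P, hP, h2⟩ := exists_isSyl_ge hA.pg le_top
  exact (ideal_iff.1 h1).2 P hP fun _ => ⟨A, hA.of_le h2, h.mono h2 le_top⟩
theorem tau2_not_ideal (hM : IsCoatom M) (hp : p ∈ tau2 M) : ¬ IsIdealPrime p G := by
  haveI := Fact.mk (tau2_prime hp)
  obtain ⟨A, hA⟩ := tau2_rk hp
  exact not_ideal_of_maxEl hA (bg10_4c hM (tau2_ns hp) hA)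
/-- BG 10.5 -/
theorem bg10_5 [Fact p.Prime] (hM : IsCoatom M) (hp : p ∉ sigma M) (hX : IsPGroup p X) (h : NN X ≤ M) :
    Rk p 2 M := by
  obtain ⟨P, hP, h1⟩ := exists_isSyl_ge hX ((le_nn X).trans h)
  by_contra h2
  refine hp (mem_sigma_of hP (fun e => hM.1 (eq_top_iff.2 (le_trans ?_ h))) ((cyc_nn
    (pg_cyc hP.pgroup fun a => h2 (a.mono hP.le)) h1 le_rfl).trans h))
  rw [eq_bot_iff.2 (e ▸ h1 : X ≤ ⊥)]; exact nn_bot
omit hG in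
theorem exists_el2_ge [Fact p.Prime] (hX : X ≤ H) (h1 : #X = p) (hr : Rk p 2 H) :
    ∃ A, El p 2 A H ∧ X ≤ A := by
  have hp : (#X).Prime := h1 ▸ Fact.out
  have key : ∀ Y ≤ H, #Y = p → Y ≠ X → X ≤ CC Y → ∃ A, El p 2 A H ∧ X ≤ A := fun Y a b c d =>
    ⟨X ⊔ Y, (el_one hX h1).sup (el_one a b) d (prime_inf hp fun e => c (eq_of_card_le e (b.trans h1.symm).le).symm),
      le_sup_left⟩
  obtain ⟨P, hP, h2⟩ := exists_isSyl_ge (pg_of_card h1) hX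
  by_cases h : X ≤ CC P
  · obtain ⟨B, hB⟩ := hr.syl hP
    obtain ⟨Y, a, b, c⟩ := hB.exists_line h1
    exact key Y (a.trans (hB.le.trans hP.le)) b c (h.trans (cc_anti (a.trans hB.le)))
  · obtain ⟨Y, a, b⟩ := pg_exists_card (hP.pgroup.to_le inf_le_left)
      (nil_meet (nil_of_pg hP.pgroup) le_rfl (le_nn P) fun e => prime_ne_bot hp (eq_bot_iff.2 (e ▸ h2)))
    exact key Y (a.trans (inf_le_left.trans hP.le)) b (fun e => h (e ▸ a.trans inf_le_right))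
      (h2.trans (cc_symm (a.trans inf_le_right)))
end

end Cfsg.Agent.MS
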