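import Cfsg.Agent.Lib.MS.Sec10

/-!
BG section 10, second part.
-/

set_option linter.unusedSectionVars false
set_option linter.unusedVariables false
set_option linter.style.haveILetI false
set_option linter.unusedSimpArgs false

namespace Cfsg.Agent.MS

open Subgroup Cfsg.Agent.Transfer

universe u
variable {G : Type u} [Group G] [Finite G]

section
variable [hG : MinS G] {A B E H K L M P Q R S V X Y : Subgroup G} {p q : ℕ} {g x : G}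
include hG

omit hG in
theorem npc_of_hall [Fact p.Prime] (h : Hall {p}ᶜ K H) (h1 : H ≤ NN K) : NPC p H := by
  unfold NPC; rwa [← h.eq_O h1]
omit hG in
theorem NPC.im [Fact p.Prime] {Q : Type u} [Group Q] [Finite Q] {f : M →* Q} (h : NPC p H) (h1 : H ≤ M) :
    NPC p (im f H) := npc_of_hall (Hall.im h h1) (im_nn h1 ((O_le _ _).trans h1) (by nrm))
omit hG in
theorem inf_cc_sup (hA : P ≤ NN A) (hB : P ≤ NN B) (h : B ≤ NN A) (hd : A ⊓ B = ⊥) :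
    (A ⊔ B) ⊓ CC P = (A ⊓ CC P) ⊔ (B ⊓ CC P) := by
  refine le_antisymm (fun x hx => ?_) (sup_le (inf_le_inf_right _ le_sup_left) (inf_le_inf_right _ le_sup_right))
  obtain ⟨a, ha, b, hb, rfl⟩ := (mem_sup_l h).1 hx.1
  have h1 : a ∈ CC P := mem_CC.2 fun y hy => by
    have e := mem_CC.1 hx.2 y hy
    have e1 : a⁻¹ * (y * a * y⁻¹) = b * (y * b * y⁻¹)⁻¹ := by
      calc a⁻¹ * (y * a * y⁻¹) = a⁻¹ * (y * (a * b)) * (b⁻¹ * y⁻¹) := by group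
        _ = _ := by rw [e]; group
    have := eq_one_of_inf hd (mul_mem (inv_mem ha) (conj_mem_of_mem_normalizer (hA hy) ha))
      (e1 ▸ mul_mem hb (inv_mem (conj_mem_of_mem_normalizer (hB hy) hb)))
    rw [inv_mul_eq_one, eq_mul_inv_iff_mul_eq] at this
    exact this.symm
  exact mul_mem (mem_sup_left (mem_inf.2 ⟨ha, h1⟩))
    (mem_sup_right (mem_inf.2 ⟨hb, ((CC P).mul_mem_cancel_left h1).1 hx.2⟩))
theorem narrow_of_not_beta [Fact p.Prime] (hM : IsCoatom M) (hp : p ∉ beta M) (hP : IsSyl p P M) :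
    Narrow p P := fun h => by
  have h1 := alpha_iff.2 (h.mono hP.le)
  exact narrow_of_not_ideal (sigma_syl (alpha_sub_sigma hM h1) hP) (fun h2 => hp (mem_beta.2 ⟨h1, h2⟩)) h
/-- BG 10.8(c) -/
theorem bg10_8c [Fact p.Prime] (hM : IsCoatom M) (hp : p ∉ beta M) :
    NPC p ⁅M, M⁆ ∧ ∀ q : ℕ, q.Prime → q ∣ (O {p}ᶜ M).relIndex M → q ≤ p := by
  obtain ⟨P, hP⟩ := exists_isSyl p M
  have := bg5_6 (max_sol hM) (odd_sub _) hP (narrow_of_not_beta hM hp hP) (bg10_6 p hM.1)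
  exact ⟨this.1, this.2.1⟩
/-- BG 10.8(a) -/
theorem Be_hall (hM : IsCoatom M) : Hall (beta M) (Be M) M := by
  refine hall_of_syls (Be_le M) (Be_pi M) fun p a b _ => ?_
  haveI := Fact.mk a
  obtain ⟨P, hP⟩ := exists_isSyl p M
  have h1 := sigma_pg_le_der hM (beta_sub_sigma hM b) hP.pgroup hP.le
  have h2 := le_O_inter (π := (beta M)ᶜ) (fun r c d _ => by
    haveI := Fact.mk d
    exact (bg10_8c hM c).1.le_O h1 (pi_of_pg hP.pgroup fun e => c ((show p = r from e) ▸ b))) h1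
  rw [compl_compl] at h2
  exact ⟨P, hP, h2.trans (O_le_O (der_le M) (by nrm))⟩
theorem Be_hall_top (hM : IsCoatom M) : Hall (beta M) (Be M) ⊤ :=
  hall_top_of_sub hM (Be_hall hM) (beta_sub_sigma hM)
theorem le_Be (hM : IsCoatom M) (h : K ≤ M) (h1 : IsPi (beta M) K) : K ≤ Be M :=
  (Be_hall hM).le_of_normal (nn_Be' le_rfl) h h1
/-- BG 10.8(b) -/
theorem der_nilMod_Be (hM : IsCoatom M) : NilMod (Be M) ⁅M, M⁆ := by
  obtain ⟨Q, _, _, f, q⟩ := exists_qm (Be_le M) (nn_Be' le_rfl)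
  refine (q.nilMod_iff (der_le M)).2 (nil_of_npc fun p a b => ?_)
  haveI := Fact.mk a
  refine (bg10_8c hM fun h => ?_).1.im (der_le M)
  have h1 := (Be_hall hM).im (f := f) le_rfl
  rw [q.im_N] at h1
  exact h1.eq_bot_iff.1 rfl p a (b.trans (card_dvd (im_mono (der_le M)))) h
theorem nil_of_nb (hM : IsCoatom M) (h : H ≤ ⁅M, M⁆) (h1 : IsPi (beta M)ᶜ H) : Group.IsNilpotent H :=
  (der_nilMod_Be hM).nil (nn_Be' (der_le M)) h ((Be_pi M).inf h1)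
/-- BG 10.9(a) -/
theorem bg10_9a [Fact p.Prime] [Fact q.Prime] (hM : IsCoatom M) (hp : p ∉ beta M) (hq : q ∉ beta M)
    (hX : IsPGroup q X) (h : (p ≠ q ∧ X ≤ ⁅M, M⁆) ∨ (p < q ∧ X ≤ M)) :
    (∃ P, IsSyl p P ⁅M, M⁆ ∧ X ≤ CC P) ∧ (∃ P, IsSyl p P (Sg M) ∧ X ≤ CC P) ∧
      (p ∈ alpha M → UU (M ⊓ CC X)) ∧
      (IsSyl q X ⁅M, M⁆ → ∃ P, IsSyl p P ⁅M, M⁆ ∧ P ≤ ⁅M ⊓ NN X, M ⊓ NN X⁆) := by
  have hXM : X ≤ M := h.elim (fun h => h.2.trans (der_le M)) fun h => h.2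
  obtain ⟨E, hE, h1⟩ := exists_hall_ge (π := (beta M)ᶜ) (max_sol hM) hXM (pi_of_pg hX hq)
  have h2 := hE.inf_normal (der_le M) (by nrm)
  have h3 := nil_of_nb hM h2.le h2.pi
  have h4 := h2.syl_trans (nil_syl h3) hp
  have hEW : E ≤ NN (E ⊓ ⁅M, M⁆) := nn_inf (le_nn E) (nn_comm (nn_of_le hE.le) (nn_of_le hE.le))
  have h5 : X ≤ CC (O {p} (E ⊓ ⁅M, M⁆)) := by
    rcases h with h | h
    · exact nil_cc h3 (le_inf h1 h.2) (O_le _ _) (pg_coprime_pg hX (O_pg _) h.1.symm)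
    have a : X ≤ O {p}ᶜ M := by
      obtain ⟨S, s1, s2⟩ := exists_isSyl_ge hX hXM
      obtain ⟨T, t1⟩ := exists_isSyl q (O {p}ᶜ M)
      obtain ⟨g, g1, g2⟩ := (t1.trans (O_le _ _) fun e => h.1.not_ge ((bg10_8c hM hp).2 q Fact.out e)).exists_cj_le
        hX hXM
      exact (cj_le_iff_le_cj_inv.1 (g2.trans t1.le)).trans (cj_nn (nn_O (le_nn M) (inv_mem g1))).le
    exact cc_symm (comm_eq_bot.1 (eq_bot_of_le (pg_inf (O_pg (E ⊓ ⁅M, M⁆)) (O_pi {p}ᶜ M) (by simp))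
      (comm_le_left (nn_O (h1.trans hEW))) ((commutator_mono le_rfl a).trans
        (comm_le_right (nn_O (nn_of_le (h4.le.trans (der_le M))))))))
  refine ⟨⟨_, h4, h5⟩, ⟨_, h4.inf_of_le_normalizer (Sg_le_der hM) (nn_Sg' (der_le M)),
    h5.trans (cc_anti inf_le_left)⟩, fun a => ?_, fun a => ⟨_, h4, ?_⟩⟩
  · have b := Sg_syl hM (alpha_sub_sigma hM a) (h4.inf_of_le_normalizer (Sg_le_der hM) (nn_Sg' (der_le M)))
    exact (uu_of_rk3 (pg_ne_top b.pgroup) ((alpha_iff.1 a).syl b).rkA).mono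
      (le_inf b.le (inf_le_left.trans (cc_symm h5))) (ne_top_of_le hM.1 inf_le_left)
  · have b : E ≤ NN X := syl_nn (a.mono (le_inf h1 a.le) inf_le_right)
      (nil_syl_nn h3 (a.mono (le_inf h1 a.le) inf_le_right)) hEW
    have c : ⁅M, M⁆ ≤ ⁅E, E⁆ ⊔ Be M := by
      have := der_sup_le (nn_Be' hE.le)
      rw [(Be_hall hM).sup hE] at this
      exact this.trans (sup_comm _ _).le
    refine (O_le _ _).trans (((le_inf (inf_le_right.trans c) inf_le_left).trans ?_).trans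
      (der_mono (le_inf hE.le b)))
    rw [dedekind' (der_le E) (nn_Be' ((der_le E).trans hE.le)), (Be_pi M).inf hE.pi, sup_bot_eq]
/-- BG 10.9(b) -/
theorem bg10_9b [Fact p.Prime] (hM : IsCoatom M) (hH : IsCoatom H) (hne : H ≠ M) (hS : IsSyl p S ⊤)
    (h1 : NN S ≤ H) (h2 : NN S ≤ M) : Be M ⊔ (H ⊓ M) = M ∧ alpha M = beta M := by
  have h0 : S ≠ ⊥ := fun e => hM.1 (eq_top_iff.2 (le_trans (e ▸ nn_bot) h2))
  have h3 := hS.mono ((le_nn S).trans h2) le_top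
  have h4 := sigma_pg_le_der hM (mem_sigma_of h3 h0 h2) hS.pgroup h3.le
  have h5 : p ∉ alpha M := fun h => hne ((um_of_rk3 hM h3.le ((alpha_iff.1 h).syl h3).rkA).uniq H hH
    ((le_nn S).trans h1))
  refine ⟨le_antisymm (sup_le (Be_le M) inf_le_right) ?_, le_antisymm (fun r a => ?_) (beta_sub_alpha M)⟩
  · have h6 := sup_le (Be_le M) h3.le
    have h7 := frattini (h3.mono le_sup_right h6) h6 ((der_nilMod_Be hM).nn_hall (nn_Be' (der_le M))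
      (hall_of_syl (h3.mono h4 (der_le M))) (nn_Be' le_rfl) (by nrm))
    refine h7.ge.trans (sup_le (sup_le_sup_left (le_inf ((le_nn S).trans h1) h3.le) _) ?_)
    exact (le_inf (inf_le_right.trans h1) inf_le_left).trans le_sup_right
  · haveI := Fact.mk (mem_alpha.1 a).1
    by_contra b
    exact hne (((bg10_9a hM b (fun h => h5 (beta_sub_alpha M h)) hS.pgroup
      (.inl ⟨fun e => h5 (e ▸ a), h4⟩)).2.2.1 a).eq hM hH inf_le_left
      (inf_le_right.trans ((cc_le_nn S).trans h1)))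
/-- BG 10.10 -/
theorem bg10_10 [Fact p.Prime] [Fact q.Prime] (hpq : p ≠ q) (hA : El p 2 A H) (hm : MaxEl p A ⊤)
    (hQ : MI A q Q) (hc : q ∣ #(CC A)) : ∃ P, IsSyl p P ⊤ ∧ A ≤ P ∧
      O {p}ᶜ (CC P) ⊔ (NN P ⊓ NN Q) = NN P ∧ P ≤ ⁅NN Q, NN Q⁆ ∧ (Narrow q Q → P ≤ CC Q) := by
  have h1 := bg7_5a hA.ne_bot hm fun H hH => bg10_6 p hH
  have h2 : ¬ q ∣ #A := fun h => hpq (pi1_of_pg hA.pg q Fact.out h).symm
  have h3 := bg7_3 h1 h2 hc (hA.of_le (le_inf le_rfl hA.cc)).rk.rkA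
  have key : ∀ P, IsSyl p P ⊤ → A ≤ P → _ := fun P a b => bg7_4 h1 h2
    (Comp.subnIn_of_isNilpotent (nil_of_pg a.pgroup) b) (pg_ne_top a.pgroup) (pi_of_pg a.pgroup hA.self.dvd) h3
  obtain ⟨P, a, b⟩ := exists_isSyl_ge hA.pg le_top
  obtain ⟨R, hR, -⟩ := exists_MI (A := P) (q := q) IsPGroup.of_bot nn_bot
  obtain ⟨k, k1, rfl⟩ := h3 _ _ ((key P a b).2.2.1 R hR) hQ
  have a' : IsSyl p (cj k P) ⊤ := cj_top k ▸ a.cj k
  have b' : A ≤ cj k P := cj_cc (O_le _ _ k1) ▸ cj_mono k b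
  obtain ⟨c, d⟩ := (key _ a' b').2.2.2 _ (hR.cj k)
  have e := (le_inf le_rfl (bg10_7_der a')).trans c
  refine ⟨_, a', b', O_PI_pg hA.pg hA.ne_bot _ ▸ d, e, fun h => ?_⟩
  by_cases h0 : cj k R = ⊥
  · rw [h0, cc_bot]; exact le_top
  exact bg5_5a (pg_ne_two hQ.pg h0) hQ.pg h le_rfl (sol_of_ne (pg_nn_ne_top hQ.pg h0)) (odd_sub _) e
    (pi_of_pg a'.pgroup hpq)
/-- BG 10.11(a) -/
theorem bg10_11a (hM : IsCoatom M) (hK : K ≤ M) (h : IsPi (sigma M)ᶜ K) : ¬ UU K := fun hu => by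
  obtain ⟨E, hE, h1⟩ := exists_hall_ge (max_sol hM) hK h
  obtain ⟨q, hq, h3, h4⟩ := exists_max_prime fun e => hu.ne_bot (eq_bot_iff.2 (e ▸ h1))
  haveI := Fact.mk hq
  have h5 := bg4_20_max (sol_of_le hM hE.le) (odd_sub _)
    (not_rkA3_of_pi hM ((F_le E).trans hE.le) (pi_ns_na hM (hE.pi.mono (F_le E)))) h4
  have h6 := syl_ne_bot h5 h3
  exact not_nn_le (hE.pi q hq h3) (hE.syl_trans h5 (hE.pi q hq h3)) h6
    ((hu.um hM hK).le_of (nn_O (nn_of_le h1)) (pg_nn_ne_top (O_pg E) h6))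
/-- BG 10.11(b) -/
theorem bg10_11b (hM : IsCoatom M) (hK : K ≤ M) (h : IsPi (sigma M)ᶜ K) : ¬ RkA 2 (K ⊓ CC (Sg M)) := fun ⟨p, hp, A, hA⟩ => by
  haveI := Fact.mk hp
  have h1 : p ∉ sigma M := h p hp (hA.mono inf_le_left).dvd
  have hAM := hA.mono (inf_le_left.trans hK)
  have h2 := bg10_4c hM h1 hAM
  have h3 : Sg M ≤ CC A := cc_symm (hA.le.trans inf_le_right)
  obtain ⟨q, hq, h4⟩ := exists_prime_dvd (Sg_ne_bot hM)
  haveI := Fact.mk hq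
  have h5 := Sg_pi M q hq h4
  obtain ⟨Q, hQ⟩ := exists_isSyl q (Sg M)
  have h6 := Sg_syl hM h5 hQ
  obtain ⟨P, a, b, -, c, -⟩ := bg10_10 (fun e : p = q => h1 (e ▸ h5)) hA h2
    (mi_of_syl (sigma_syl h5 h6) (nn_of_cc (cc_symm (hQ.le.trans h3)))) (h4.trans (card_dvd h3))
  have h7 := c.trans (der_mono (sigma_nn h5 h6))
  have h8 := a.mono (h7.trans (der_le M)) le_top
  have h9 := sup_le (Sg_le M) h8.le
  have h10 := frattini (h8.mono le_sup_right h9) h9 ((der_nilMod_Sg hM).nn_hall (nn_Sg' (der_le M))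
    (hall_of_syl (h8.mono h7 (der_le M))) (nn_Sg' le_rfl) (by nrm))
  have hP0 : P ≠ ⊥ := fun e => hA.ne_bot (eq_bot_iff.2 (e ▸ b))
  have h11 : omegaOne p (P ⊓ CC P) ≤ A := h2.le_of le_top ((omega_le _ _).trans (inf_le_right.trans (cc_anti b)))
    (omega_elem (ab_center P))
  have h12 : NN P ≤ NN (omegaOne p (P ⊓ CC P)) := by nrm
  refine not_nn_le h1 h8 hP0 (h12.trans (max_nn' hM (omega_ne_bot (pg_dvd (a.pgroup.to_le inf_le_left)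
    (nil_meet (nil_of_pg a.pgroup) le_rfl (le_nn P) hP0))) (h11.trans hAM.le) (h10.ge.trans ?_)).le)
  exact sup_le (sup_le (nn_of_cc (h3.trans (cc_anti h11))) ((le_nn P).trans h12)) (inf_le_right.trans h12)
theorem O_ns_F_cyc (hM : IsCoatom M) : IsCyclic (O (sigma M)ᶜ (F M)) :=
  nil_cyc (nil_mono (F_nil M) (O_le _ _)) (odd_sub _) fun h =>
    bg10_11b hM ((O_le _ _).trans (F_le M)) (O_pi _ _) (h.mono (le_inf le_rfl
      ((O_le_O (F_le M) (by nrm)).trans (cc_symm (O_cc_O _ _)))))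
/-- BG 10.11(c): a `σ(M)'`-subgroup of `M'` centralizing `M_σ` is cyclic and normal -/
theorem bg10_11c (hM : IsCoatom M) (hK : K ≤ ⁅M, M⁆) (h : IsPi (sigma M)ᶜ K) (hc : K ≤ CC (Sg M)) :
    IsCyclic K ∧ M ≤ NN K := by
  have h1 : K ≤ O (sigma M)ᶜ (F M) := nil_le_O (F_nil M) ((le_inf hK hc).trans
    (le_F (inf_le_left.trans (der_le M)) (nn_inf (by nrm) (nn_cc (nn_Sg' le_rfl)))
      (((der_nilMod_Sg hM).mono (nn_Sg' (der_le M)) inf_le_left).nil_of_cc inf_le_right))) h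
  exact ⟨cyc_mono (O_ns_F_cyc hM) h1, cyc_nn (O_ns_F_cyc hM) h1 (by nrm)⟩
/-- BG 10.11(d) -/
theorem bg10_11d [Fact p.Prime] (hM : IsCoatom M) (hK : K ≤ M) (h : IsPi (sigma M)ᶜ K) (hp : p ∉ sigma M)
    (hP : P ≤ M) (h1 : #P = p) (h2 : P ≤ NN K) (h3 : Sg M ⊓ CC P = ⊥) (h4 : ¬ p ∣ #K)
    (ha : IsMulCommutative K) : ⁅K, P⁆ ≤ CC (Sg M) ∧ IsCyclic (⁅K, P⁆ : Subgroup G) ∧ M ≤ NN ⁅K, P⁆ := by
  have h5 : ⁅K, P⁆ ≤ K := comm_le_left h2
  have h6 := h.mono h5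
  have h7 : ⁅K, P⁆ ≤ CC (Sg M) := by
    refine nil_cc (prime_nil (K := Sg M ⊔ ⁅K, P⁆) (h1 ▸ Fact.out) (nn_sup (nn_Sg' hP) (right_nn_comm _ _)) ?_)
      le_sup_right le_sup_left (Sg_coprime h6)
    rw [inf_cc_sup (nn_Sg' hP) (right_nn_comm _ _) (nn_Sg' (h5.trans hK)) (Sg_inf h6), h3, bot_sup_eq]
    exact eq_bot_of_le (cop_ab_inf ha h2 (pg_coprime (pg_of_card h1) (pi_compl_iff.2 h4) (by simp)))
      (inf_le_inf_right _ h5) inf_le_left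
  exact ⟨h7, bg10_11c hM (commutator_mono hK hP) h6 h7⟩
theorem exists_cj_nn_le [Fact p.Prime] (h1 : p ∈ sigma M) (h2 : p ∈ sigma H) (hS : IsSyl p S M) :
    ∃ g, NN S ≤ cj g H := by
  obtain ⟨T, hT⟩ := exists_isSyl p H
  obtain ⟨g, -, h⟩ := (sigma_syl h1 hS).exists_cj_eq (sigma_syl h2 hT)
  exact ⟨g, h ▸ cj_normalizer g T ▸ cj_mono g (sigma_nn h2 hT)⟩
/-- BG 10.12(a) -/
theorem bg10_12a (hM : IsCoatom M) (hH : IsCoatom H) (h : ¬ CJ M H) : ∀ p ∈ alpha M, p ∉ sigma H := fun p a b => by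
  haveI := Fact.mk (sigma_prime b)
  obtain ⟨S, hS⟩ := exists_isSyl p M
  obtain ⟨g, h1⟩ := exists_cj_nn_le (alpha_sub_sigma hM a) b hS
  exact h (CJ.symm ⟨g, (um_of_rk3 hM hS.le ((alpha_iff.1 a).syl hS).rkA).uniq _ (max_cj hH g)
    ((le_nn S).trans h1)⟩)
/-- BG 10.12(b) -/
theorem bg10_12b (hM : IsCoatom M) (hH : IsCoatom H) (h : ¬ CJ M H) (hn : Group.IsNilpotent (Sg M)) :
    ∀ p ∈ sigma M, p ∉ sigma H := fun p a b => by
  haveI := Fact.mk (sigma_prime b)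
  obtain ⟨g, h1⟩ := exists_cj_nn_le a b (Sg_syl hM a (nil_syl hn))
  exact h (CJ.symm ⟨g, max_eq' hM (max_cj hH g) ((nn_O (nn_Sg' le_rfl)).trans h1)⟩)
omit hG in
theorem MaxEl.omega_center_le (hm : MaxEl p A H) (h1 : A ≤ P) (h2 : P ≤ H) : omegaOne p (P ⊓ CC P) ≤ A :=
  hm.le_of ((omega_le _ _).trans (inf_le_left.trans h2)) ((omega_le _ _).trans (inf_le_right.trans (cc_anti h1)))
    (omega_elem (ab_center P))
theorem bg10_13_syl [hp : Fact p.Prime] (hA : El p 2 A S) (hm : MaxEl p A ⊤) (hS : IsSyl p S ⊤)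
    (ha : ¬ IsMulCommutative S) : #(omegaOne p (S ⊓ CC S)) = p ∧
      ∃ Z : Subgroup G, IsCyclic Z ∧ omegaOne p (S ⊓ CC S) ≤ Z ∧
        ∀ X ≤ A, #X = p → X ≠ omegaOne p (S ⊓ CC S) → X ⊓ Z = ⊥ ∧ X ⊔ Z = S ⊓ CC A := by
  by_cases hr : Rk p 3 S
  · exact bg5_3d hA.ne_two hS.pgroup hr hA (hm.mono hA.le le_top)
  obtain ⟨T, C, a1, a2, a3, a4, a5, a6, a7⟩ := bg10_7b hS hr ha
  have hT : T ≤ S := a1 ▸ le_sup_left
  have hC : C ≤ S := a1 ▸ le_sup_right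
  have hCS : C ≤ CC S := a1 ▸ le_cc_sup (cc_symm a2) (ab_cc (ab_of_cyc a6))
  have dec : ∀ x ∈ S, ∃ t ∈ T, ∃ c ∈ C, x = t * c := fun x hx =>
    (mem_sup_l (nn_of_cc (cc_symm a2))).1 (a1 ▸ hx)
  have b1 : ∀ x ∈ S, x ^ p = 1 → x ∈ T := fun x hx h => by
    obtain ⟨t, ht, c, hc, rfl⟩ := dec x hx
    rw [(show Commute t c from (a2 ht c hc).symm).mul_pow, a5 t ht, one_mul] at h
    exact mul_mem ht ((a7.le (mem_omega hc h)).1)
  have b2 : omegaOne p (S ⊓ CC S) = omegaOne p C := le_antisymm (a7 ▸ omega_le_iff.2 fun x hx h =>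
    mem_inf.2 ⟨b1 x hx.1 h, cc_anti hT hx.2⟩) (omega_mono (le_inf hC hCS))
  have b3 : #(omegaOne p C) = p := omega_cyc a6 (pg_dvd (hS.pgroup.to_le hC) fun e => nil_meet
    (nil_of_pg (hS.pgroup.to_le hT)) le_rfl (le_nn T) (fun e => a3 (e ▸ ab_of_cyc cyc_bot))
    (eq_bot_iff.2 (a7 ▸ e ▸ omega_le _ _)))
  have b4 := hm.omega_center_le hA.le le_top
  rw [b2] at b4 ⊢
  refine ⟨b3, C, a6, omega_le _ _, fun X c1 c2 c3 => ⟨prime_inf (c2 ▸ hp.out) fun h => c3 (eq_of_card_le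
    (le_omega h ⟨ab_mono hA.ab c1, fun x hx => hA.elem.2 x (c1 hx)⟩) (b3.trans c2.symm).le), ?_⟩⟩
  refine le_antisymm (sup_le (le_inf (c1.trans hA.le) (c1.trans hA.cc)) (le_inf hC (hCS.trans (cc_anti hA.le))))
    fun x hx => ?_
  obtain ⟨t, ht, c, hc, rfl⟩ := dec x hx.1
  have d := hm.mem trivial (((CC A).mul_mem_cancel_right (cc_anti hA.le (hCS hc))).1 hx.2) (a5 t ht)
  rw [← hA.sup_lines c1 b4 c2 b3 c3] at d
  exact mul_mem (sup_le_sup_left (omega_le _ _) _ d) (mem_sup_right hc)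
/-- BG 10.13 -/
theorem bg10_13 [Fact p.Prime] (hA : El p 2 A P) (hm : MaxEl p A ⊤) (hP : IsPGroup p P)
    (ha : ¬ IsMulCommutative P) : omegaOne p (P ⊓ CC P) ≤ A ∧ #(omegaOne p (P ⊓ CC P)) = p ∧
      (∃ Z : Subgroup G, IsCyclic Z ∧ omegaOne p (P ⊓ CC P) ≤ Z ∧
        ∀ X ≤ A, #X = p → X ≠ omegaOne p (P ⊓ CC P) → X ⊓ Z = ⊥ ∧ X ⊔ Z = P ⊓ CC A) ∧
      ∀ X ≤ A, ∀ Y ≤ A, #X = p → #Y = p → X ≠ omegaOne p (P ⊓ CC P) → Y ≠ omegaOne p (P ⊓ CC P) →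
        ∃ k ∈ P ⊓ NN A, cj k X = Y := by
  have hp : p.Prime := Fact.out
  obtain ⟨S, hS, h1⟩ := exists_isSyl_ge hP le_top
  obtain ⟨a1, Z, a2, a3, a4⟩ := bg10_13_syl (hA.mono h1) hm hS fun h => ha (ab_mono h h1)
  have h2 := hm.omega_center_le hA.le le_top
  have h3 := hm.omega_center_le (hA.le.trans h1) le_top
  obtain ⟨X0, x1, x2, x3⟩ := hA.exists_line a1
  have h4 : IsMulCommutative (S ⊓ CC A : Subgroup G) := by
    have e := (a4 X0 x1 x2 x3).2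
    have h : Z ≤ CC X0 := (e ▸ le_sup_right : Z ≤ S ⊓ CC A).trans (inf_le_right.trans (cc_anti x1))
    rw [← e, ab_iff]
    exact sup_le (le_cc_sup (ab_cc (ab_mono hA.ab x1)) (cc_symm h)) (le_cc_sup h (ab_cc (ab_of_cyc a2)))
  have h5 : ¬ P ≤ CC A := fun h => ha (ab_mono h4 (le_inf h1 h))
  have h6 : omegaOne p (S ⊓ CC S) ≤ omegaOne p (P ⊓ CC P) := omega_le_iff.2 fun x hx h =>
    mem_omega (mem_inf.2 ⟨hA.le (h3 (mem_omega hx h)), cc_anti h1 hx.2⟩) h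
  have hZ : omegaOne p (P ⊓ CC P) ≤ CC P := (omega_le _ _).trans inf_le_right
  have h7 : #(omegaOne p (P ⊓ CC P)) = p := ((hA.line_or h2).resolve_left fun e =>
    prime_ne_bot (a1 ▸ hp) (eq_bot_iff.2 (e ▸ h6))).resolve_right fun e => h5 (cc_symm (e ▸ hZ))
  rw [eq_of_card_le h6 (h7.trans a1.symm).le] at a3 a4
  refine ⟨h2, h7, ⟨Z ⊓ P, cyc_mono a2 inf_le_left, le_inf a3 (h2.trans hA.le), fun X b c d =>
    ⟨inf_bot_mono (a4 X b c d).1 le_rfl inf_le_left, ?_⟩⟩, fun X b Y c d e f g => ?_⟩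
  · have e := (a4 X b c d).2
    rw [← dedekind (b.trans hA.le) (nn_of_cc ((e ▸ le_sup_right : Z ≤ S ⊓ CC A).trans
      (inf_le_right.trans (cc_anti b)))), e, inf_right_comm, inf_eq_right.2 h1]
  generalize omegaOne p (P ⊓ CC P) = W at *
  have h8 : P ⊓ CC A < P := inf_le_left.lt_of_ne fun h => h5 (h ▸ inf_le_right)
  obtain ⟨k, k1, k2, k3⟩ := exists_mem_normalizer_notMem hP h8
  have k4 : k ∈ P ⊓ NN A := mem_inf.2 ⟨k1, (hm.mono hA.le le_top).omega ▸ nn_omega (A := NN _) le_rfl k2⟩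
  have hN := hP.to_le (inf_le_left : P ⊓ NN A ≤ P)
  have hAN : A ≤ P ⊓ NN A := le_inf hA.le (le_nn A)
  have h9 : ¬ P ⊓ NN A ≤ CC A := fun h => k3 (mem_inf.2 ⟨k1, h k4⟩)
  have h10 := nil_comm_lt (nil_of_pg hN) hAN inf_le_right hA.ne_bot
  have h11 : #(⁅A, P ⊓ NN A⁆ : Subgroup G) = p :=
    ((hA.line_or h10.le).resolve_left fun e => h9 (comm_eq_bot'.1 e)).resolve_right h10.ne
  have h12 : ⁅A, P ⊓ NN A⁆ = W := by
    by_contra h
    refine h9 (cc_symm ((hA.sup_lines h10.le h2 h11 h7 h).ge.trans (sup_le ?_ (hZ.trans (cc_anti inf_le_left)))))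
    exact BG.le_Ct_of_card_le hN (pg_of_card h11) (right_nn_comm _ _) h11.le
  obtain ⟨x, x4, x5⟩ := exists_ne_one (prime_ne_bot (d ▸ hp))
  have x6 := prime_eq_zpowers (d ▸ hp) x4 x5
  have z1 : x⁻¹ * (k * x * k⁻¹) ∈ W := by
    have := commutator_mem_commutator (inv_mem (b x4)) k4
    rw [h12, commutatorElement_def, inv_inv] at this
    rwa [show x⁻¹ * (k * x * k⁻¹) = x⁻¹ * k * x * k⁻¹ by group]
  have z2 : x⁻¹ * (k * x * k⁻¹) ≠ 1 := fun h => by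
    refine k3 (mem_inf.2 ⟨k1, ?_⟩)
    rw [← hA.sup_lines b h2 d h7 f, cc_sup, ← x6, cc_zpowers]
    exact mem_inf.2 ⟨mem_C1_of_conj (inv_mul_eq_one.1 h).symm, cc_symm hZ k1⟩
  have z3 : ∀ i : ℕ, k ^ i * x * (k ^ i)⁻¹ = x * (x⁻¹ * (k * x * k⁻¹)) ^ i := fun i => by
    induction i with
    | zero => simp
    | succ i ih =>
      have := conj_eq_of_cc (cc_symm hZ k1) (pow_mem z1 i)
      calc k ^ (i + 1) * x * (k ^ (i + 1))⁻¹ = k * (k ^ i * x * (k ^ i)⁻¹) * k⁻¹ := by group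
        _ = k * x * k⁻¹ * (k * (x⁻¹ * (k * x * k⁻¹)) ^ i * k⁻¹) := by rw [ih]; group
        _ = _ := by rw [this, pow_succ', ← mul_assoc x, mul_inv_cancel_left]
  have z4 := b x4
  rw [← hA.sup_lines c h2 e h7 g, mem_sup_l (nn_of_cc (hZ.trans (cc_anti (c.trans hA.le))))] at z4
  obtain ⟨y, y1, w, w1, y2⟩ := z4
  have w2 := W.inv_mem w1
  rw [← prime_eq_zpowers (h7 ▸ hp) z1 z2, ← mem_powers_iff_mem_zpowers] at w2
  obtain ⟨i, w3⟩ := w2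
  refine ⟨k ^ i, pow_mem k4 i, ?_⟩
  have y3 : y ≠ 1 := fun h => f (eq_of_card_le (x6 ▸ zpowers_le.2 (by rw [y2, h, one_mul]; exact w1))
    (h7.trans d.symm).le)
  simp only at w3
  rw [← x6, cj_zpowers, z3, w3, ← prime_eq_zpowers (e ▸ hp) y1 y3, y2, mul_inv_cancel_right]
/-- BG 10.14(b) -/
theorem bg10_14b [Fact p.Prime] (hp : IsIdealPrime p G) (hR : IsPGroup p R) (hr : Rk p 2 R) : UU R := by
  obtain ⟨A, hA⟩ := hr
  exact (uu_of_not_maxEl hA fun h => not_ideal_of_maxEl hA h hp).mono hA.le (pg_ne_top hR)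
/-- BG 10.14(c) -/
theorem bg10_14c [Fact p.Prime] (hp : IsIdealPrime p G) (hP : IsSyl p P ⊤) (hX : X ≤ P) :
    UU (P ⊓ NN X) := by
  have h1 := hP.pgroup.to_le (inf_le_left : P ⊓ NN X ≤ P)
  refine bg10_14b hp h1 (pg_rk2 h1 fun h => ?_)
  rcases (inf_le_left : P ⊓ NN X ≤ P).eq_or_lt with e | e
  · exact not_rk2_of_cyc (e ▸ h) (((ideal_iff.1 hp).1.syl hP).anti (by omega))
  · exact (lt_inf_normalizer hP.pgroup e).not_ge (le_inf inf_le_left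
      (cyc_nn h (le_inf hX (le_nn X)) inf_le_right))
/-- BG 10.14(d) -/
theorem bg10_14d (hM : IsCoatom M) (hY : Y ≤ M) (h : IsPi (beta M) Y) (h0 : Y ≠ ⊥) : NN Y ≤ M := by
  obtain ⟨q, hq, h1⟩ := exists_prime_dvd (F_ne_bot (sol_of_le hM hY) h0)
  haveI := Fact.mk hq
  have h2 := h q hq (h1.trans (card_dvd (F_le Y)))
  obtain ⟨P, hP, h3⟩ := exists_isSyl_ge (O_pg (p := q) Y) ((O_le _ _).trans hY)
  exact (nn_O le_rfl).trans (((bg10_14c (mem_beta.1 h2).2 (sigma_syl (beta_sub_sigma hM h2) hP) h3).um hM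
    (inf_le_left.trans hP.le)).le_of inf_le_right (pg_nn_ne_top (O_pg Y) (O_ne_bot_of_F h1)))
end

end Cfsg.Agent.MS
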