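import Cfsg.Agent.Lib.MS.Sec10b

/-!
BG section 11: exceptional maximal subgroups.
-/

set_option linter.unusedSectionVars false
set_option linter.unusedVariables false
set_option linter.style.haveILetI false
set_option linter.unusedSimpArgs false

namespace Cfsg.Agent.MS

open Subgroup Cfsg.Agent.Transfer

universe u
variable {G : Type u} [Group G] [Finite G]

/-- Hypothesis 11.1 -/
structure Exc (p : ℕ) (M A0 A : Subgroup G) : Prop where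
  max : IsCoatom M
  ns : p ∉ sigma M
  el : El p 2 A M
  le : A0 ≤ A
  card : #A0 = p
  nn : NN A0 ≤ M

section
variable [hG : MinS G] {A A0 B E H K L M P Q R S V X Y : Subgroup G} {p q : ℕ} [hp : Fact p.Prime] {g x : G}
include hG

theorem Exc.maxEl (h : Exc p M A0 A) : MaxEl p A ⊤ := bg10_4c h.max h.ns h.el
omit hG in
theorem Exc.cc_le (h : Exc p M A0 A) : CC A ≤ M := (cc_anti h.le).trans ((cc_le_nn _).trans h.nn)
omit hG in
theorem Exc.pi (h : Exc p M A0 A) : IsPi (sigma M)ᶜ A := pi_of_pg h.el.pg h.ns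
omit hG in
theorem Exc.cj (h : Exc p M A0 A) (hg : g ∈ M) : Exc p M (cj g A0) (cj g A) :=
  ⟨h.max, h.ns, cj_eq_of_mem hg ▸ h.el.cj g, cj_mono g h.le, (card_cj g A0).trans h.card,
    cj_normalizer g A0 ▸ cj_le' h.nn hg⟩
omit hG in
theorem Exc.exists_g (h : Exc p M A0 A) (hP : IsSyl p P M) (hA : A ≤ P) :
    ∃ g ∈ NN P, g ∉ M ∧ A ≤ Transfer.cj g M := by
  obtain ⟨g, a, b⟩ := SetLike.not_le_iff_exists.1 (not_nn_le h.ns hP fun e => h.el.ne_bot (eq_bot_iff.2 (e ▸ hA)))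
  exact ⟨g, a, b, hA.trans ((cj_nn a).ge.trans (cj_mono g hP.le))⟩
/-- BG 11.1 -/
theorem bg11_1 [Fact q.Prime] (h : Exc p M A0 A) (hg : g ∉ M) (hA : A ≤ cj g M) (h1 : IsSyl q Q (Sg M))
    (h2 : A ≤ NN Q) (h3 : IsSyl q R (cj g (Sg M))) (h4 : A ≤ NN R) :
    Q ⊓ R = ⊥ ∧ ∀ X ≤ A, X ≠ ⊥ → Q ⊓ CC X = ⊥ ∨ R ⊓ CC X = ⊥ := by
  have key : ∀ H, H ≠ ⊤ → A ≤ H → Q ⊓ H ≠ ⊥ → R ⊓ H ≠ ⊥ → False := fun H a b c d => by
    have hq := pg_mem_pi h1.pgroup (fun e => c (eq_bot_iff.2 (e ▸ inf_le_left))) ((Sg_pi M).mono h1.le)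
    have h5 := Sg_syl h.max hq h1
    rw [cj_Sg] at h3
    have h6 := Sg_syl (max_cj h.max g) ((sigma_cj g M).symm ▸ hq) h3
    obtain ⟨k, k1, k2⟩ := bg7_1 (bg7_5a h.el.ne_bot h.maxEl fun H hH => bg10_6 p hH)
      (fun e => h.pi q Fact.out e hq) (mi_of_syl (sigma_syl hq h5) h2)
      (mi_of_syl (sigma_syl ((sigma_cj g M).symm ▸ hq) h6) h4) a b c d
    have h7 := h5.cj_of_mem_normalizer (le_nn M (h.cc_le (O_le _ _ k1)))
    exact hg (M.inv_mem_iff.1 (bg10_1d h.max hq h7 (le_cj_iff_cj_inv_le.1 (k2 ▸ h6.le))))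
  refine ⟨by_contra fun e => key M h.max.1 h.el.le (fun a => e (eq_bot_of_le a inf_le_left
    (inf_le_left.trans (h1.le.trans (Sg_le M))))) fun a => e (eq_bot_of_le a inf_le_right
    (inf_le_left.trans (h1.le.trans (Sg_le M)))), fun X a b => by_contra fun e => ?_⟩
  rw [not_or] at e
  exact key _ (cc_ne_top b) (h.el.cc.trans (cc_anti a)) e.1 e.2
/-- BG 11.2 -/
theorem bg11_2 (h : Exc p M A0 A) (hg : g ∉ M) (hA : A ≤ cj g M) :
    Sg M ⊓ cj g M = ⊥ ∧ Sg M ⊓ CC (cj g A0) = ⊥ := by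
  have h1 : Sg M ⊓ cj g M = ⊥ := by
    by_contra e
    obtain ⟨q, hq, h2⟩ := exists_prime_dvd e
    haveI := Fact.mk hq
    have hM := max_cj h.max g
    have h3 := (Sg_pi M).mono (inf_le_left : Sg M ⊓ cj g M ≤ Sg M)
    obtain ⟨S, a, b⟩ := cop_syl q (nn_inf (nn_Sg' h.el.le) (nn_of_le hA)) (h3.coprime h.pi).symm
      (sol_of_le hM inf_le_right)
    obtain ⟨Q, c1, c2, c3⟩ := cop_syl_ge (nn_Sg' h.el.le) (Sg_coprime h.pi) (sol_of_le h.max (Sg_le M))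
      (a.le.trans inf_le_left) a.pgroup b
    obtain ⟨R, d1, d2, d3⟩ := cop_syl_ge (nn_Sg' hA) (Sg_coprime ((sigma_cj g M).symm ▸ h.pi))
      (sol_of_le hM (Sg_le _)) (le_Sg hM (a.le.trans inf_le_right) ((sigma_cj g M).symm ▸ h3.mono a.le))
      a.pgroup b
    exact syl_ne_bot a h2 (eq_bot_of_le (bg11_1 h hg hA c1 c3 (cj_Sg g M ▸ d1) d3).1 c2 d2)
  exact ⟨h1, inf_bot_mono h1 le_rfl (cj_centralizer g A0 ▸ cj_mono g ((cc_le_nn _).trans h.nn))⟩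
/-- BG 11.3 -/
theorem bg11_3 (h : Exc p M A0 A) : Group.IsNilpotent (Sg M) := by
  obtain ⟨P, hP, h1⟩ := exists_isSyl_ge h.el.pg h.el.le
  obtain ⟨g, a, b, c⟩ := h.exists_g hP h1
  exact prime_nil (((card_cj g A0).trans h.card).symm ▸ hp.out)
    (nn_Sg' ((cj_le (h.le.trans h1) a).trans hP.le)) (bg11_2 h b c).2
/-- BG 11.4 -/
theorem bg11_4 (h : Exc p M A0 A) (hH : IsCoatom H) (hA : A ≤ H) (h1 : Sg H ⊓ Sg M ≠ ⊥) : H = M := by
  obtain ⟨q, hq, h2⟩ := exists_prime_dvd h1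
  obtain ⟨g, rfl⟩ : CJ M H := by_contra fun e => bg10_12b h.max hH e (bg11_3 h) q
    (Sg_pi M q hq (h2.trans (card_dvd inf_le_right))) (Sg_pi H q hq (h2.trans (card_dvd inf_le_left)))
  exact cj_eq_of_mem (by_contra fun e => h1 (eq_bot_of_le (bg11_2 h e hA).1 inf_le_right
    (inf_le_left.trans (Sg_le _))))
theorem bg11_5' (h : Exc p M A0 A) (hP : IsSyl p P M) (hA : A ≤ P) : IsMulCommutative P := by
  by_contra ha
  obtain ⟨g, a, b, c⟩ := h.exists_g hP hA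
  obtain ⟨z1, z2, -, z3⟩ := bg10_13 (h.el.of_le hA) h.maxEl hP.pgroup ha
  have hg : cj g (omegaOne p (P ⊓ CC P)) = omegaOne p (P ⊓ CC P) :=
    cj_nn (nn_omega (nn_inf (A := NN P) le_rfl (nn_cc le_rfl)) a)
  generalize omegaOne p (P ⊓ CC P) = Z at *
  obtain ⟨q, hq, h1⟩ := exists_prime_dvd (Sg_ne_bot h.max)
  haveI := Fact.mk hq
  have h2 := nil_syl (p := q) (bg11_3 h)
  have h3 := syl_ne_bot h2 h1
  have h4 : P ≤ NN (O {q} (Sg M)) := nn_O (nn_Sg' hP.le)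
  have h5 := nn_cj_of h4 a
  have h6 := (bg11_1 h b c h2 (hA.trans h4) (h2.cj g) (hA.trans h5)).2
  have h7 : O {q} (Sg M) ⊓ CC Z = ⊥ ∧ cj g (O {q} (Sg M)) ⊓ CC Z = ⊥ := by
    have e : cj g (O {q} (Sg M) ⊓ CC Z) = cj g (O {q} (Sg M)) ⊓ CC Z := by rw [cj_inf, cj_centralizer, hg]
    rcases h6 Z z1 (prime_ne_bot (z2 ▸ hp.out)) with e1 | e1
    · exact ⟨e1, by rw [← e, e1, cj_bot]⟩
    · exact ⟨cj_eq_bot_iff.1 (e.trans e1), e1⟩
  have key : ∀ Q : Subgroup G, IsPGroup q Q → Q ≠ ⊥ → P ≤ NN Q → Q ⊓ CC Z = ⊥ →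
      ∀ X ≤ A, #X = p → X ≠ Z → Q ⊓ CC X ≠ ⊥ := fun Q q1 q2 q3 q4 X x1 x2 x3 e =>
    q2 (eq_bot_iff.2 (cop_lines h.el (hA.trans q3) (pi_of_pg q1 fun e => h.ns
      ((show q = p from e) ▸ Sg_pi M q hq h1)) fun Y y1 y2 => by
      by_cases y3 : Y = Z
      · exact (y3 ▸ q4).le
      obtain ⟨k, k1, rfl⟩ := z3 X x1 Y y1 x2 y2 x3 y3
      rw [← cj_centralizer, ← cj_nn (q3 k1.1), ← cj_inf, e, cj_bot]))
  obtain ⟨X, x1, x2, x3⟩ := h.el.exists_line z2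
  exact (h6 X x1 (prime_ne_bot (x2 ▸ hp.out))).elim (key _ h2.pgroup h3 h4 h7.1 X x1 x2 x3)
    (key _ (IsPGroup.cj h2.pgroup g) (fun e => h3 (cj_eq_bot_iff.1 e)) h5 h7.2 X x1 x2 x3)
/-- BG 11.5 -/
theorem bg11_5 (h : Exc p M A0 A) (hP : IsSyl p P M) : IsMulCommutative P := by
  obtain ⟨g, a, b⟩ := hP.exists_cj_le h.el.pg h.el.le
  exact bg11_5' (h.cj a) hP b
/-- BG 11.6 -/
theorem bg11_6 (h : Exc p M A0 A) : (∀ P, IsSyl p P M → A ≤ P → omegaOne p P = A) ∧ Sg M ⊓ CC A = ⊥ ∧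
    ∃ X ≤ A, ∃ Y ≤ A, #X = p ∧ #Y = p ∧ X ≠ Y ∧ Sg M ⊓ CC X = ⊥ ∧ Sg M ⊓ CC Y = ⊥ := by
  have h1 : ∀ P, IsSyl p P M → A ≤ P → omegaOne p P = A := fun P a b => by
    have := (h.maxEl.mono b le_top).omega
    rwa [inf_eq_left.2 (ab_le_cc (bg11_5 h a) le_rfl b)] at this
  obtain ⟨P, hP, h2⟩ := exists_isSyl_ge h.el.pg h.el.le
  obtain ⟨g, a, b, c⟩ := h.exists_g hP h2
  have h3 : NN P ≤ NN A := h1 P hP h2 ▸ nn_omega le_rfl
  have h4 := (bg11_2 h b c).2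
  have h5 := (bg11_2 (g := g⁻¹) h (fun e => b (M.inv_mem_iff.1 e))
    (h2.trans ((cj_nn ((NN P).inv_mem a)).ge.trans (cj_mono _ hP.le)))).2
  refine ⟨h1, inf_bot_mono h4 le_rfl (cc_anti (cj_le h.le (h3 a))), _, cj_le h.le (h3 a), _,
    cj_le h.le (h3 ((NN P).inv_mem a)), (card_cj _ _).trans h.card, (card_cj _ _).trans h.card,
    fun e => b (mem_of_sq_mem (h.nn ?_)), h4, h5⟩
  rw [mem_normalizer_iff_cj, sq, ← cj_cj, e, cj_cj_inv]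
theorem Exc.cc_syl [Fact q.Prime] (h : Exc p M A0 A) (hq : q ∉ sigma M) (hne : p ≠ q) (hQ : IsSyl q Q M)
    (hA : A ≤ NN Q) : Q ≤ CC A := by
  by_cases h0 : Q = ⊥
  · exact h0.le.trans bot_le
  by_cases h1 : Q ⊓ CC A = ⊥
  · obtain ⟨X, x1, Y, y1, x2, y2, e, x3, y3⟩ := (bg11_6 h).2.2
    have hZ := hQ.pgroup.to_le (inf_le_left : Q ⊓ CC Q ≤ Q)
    have hAZ : A ≤ NN (Q ⊓ CC Q) := by nrm
    have hZM : Q ⊓ CC Q ≤ M := inf_le_left.trans hQ.le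
    have key : ∀ X ≤ A, #X = p → Sg M ⊓ CC X = ⊥ → M ≤ NN ⁅Q ⊓ CC Q, X⁆ := fun X a b c =>
      (bg10_11d h.max hZM (pi_of_pg hZ hq) h.ns (a.trans h.el.le) b (a.trans hAZ) c
        (pi_compl_iff.1 (pi_of_pg hZ hne.symm)) (ab_center Q)).2.2
    have h2 := nn_sup (key X x1 x2 x3) (key Y y1 y2 y3)
    have h3 : ⁅Q ⊓ CC Q, X⁆ ⊔ ⁅Q ⊓ CC Q, Y⁆ = Q ⊓ CC Q := by
      refine le_antisymm (sup_le (comm_le_left (x1.trans hAZ)) (comm_le_left (y1.trans hAZ))) ?_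
      refine (cop_comm_eq hAZ (pg_coprime_pg h.el.pg hZ hne) (sol_of_pg hZ)
        (inf_bot_mono h1 inf_le_left le_rfl)).ge.trans ?_
      rw [← h.el.sup_lines x1 y1 x2 y2 e]
      exact comm_sup_r ((x1.trans h.el.le).trans h2) ((y1.trans h.el.le).trans h2) le_sup_left le_sup_right
    rw [h3] at h2
    exact absurd ((nn_inf le_rfl (nn_cc le_rfl)).trans (max_nn' h.max
      (nil_meet (nil_of_pg hQ.pgroup) le_rfl (le_nn Q) h0) hZM h2).le) (not_nn_le hq hQ h0)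
  by_cases h2 : IsCyclic Q
  · exact cc_symm (cop_cyc hQ.pgroup h2 hA (pi_of_pg h.el.pg hne) h1)
  obtain ⟨B, hB⟩ := pg_rk2 hQ.pgroup h2
  obtain ⟨R, a, b⟩ := exists_MI hQ.pgroup hA
  obtain ⟨P, -, c, -, -, d⟩ := bg10_10 hne h.el h.maxEl a
    ((pg_dvd (hQ.pgroup.to_le inf_le_left) h1).trans (card_dvd inf_le_right))
  exact b.trans (cc_symm (c.trans (d fun _ => ⟨B, hB.mono b,
    (bg10_4c h.max hq (hB.mono hQ.le)).mono (hB.le.trans b) le_top⟩)))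
/-- BG 11.7 -/
theorem bg11_7 (h : Exc p M A0 A) : M ≤ NN (Sg M ⊔ A) := by
  obtain ⟨P, hP, h1⟩ := exists_isSyl_ge h.el.pg h.el.le
  obtain ⟨E, hE, h2⟩ := exists_hall_ge (π := (sigma M)ᶜ) (max_sol h.max) hP.le (pi_of_pg hP.pgroup h.ns)
  have h3 := bg4_20c (sol_of_le h.max hE.le) (odd_sub _)
    (not_rkA3_of_pi h.max ((F_le E).trans hE.le) (pi_ns_na h.max (hE.pi.mono (F_le E))))
  have hK := h3 (p + 1)
  have hL := h3 p
  have h4 : P ≤ O {q | p ≤ q} E := hL.le_of_normal (by nrm) h2 (pi_of_pg hP.pgroup (le_refl p))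
  have h5 := hP.mono h4 (hL.le.trans hE.le)
  have h6 : O {q | p ≤ q} E ≤ NN A := le_of_syl fun q a b => by
    haveI := Fact.mk a
    rcases (show p ≤ q from hL.pi q a b).eq_or_lt with e | e
    · exact ⟨P, e ▸ h5, ab_nn (bg11_5 h hP) le_rfl h1⟩
    obtain ⟨S, s1, s2⟩ := cop_syl q (nn_O (nn_of_le (h1.trans h2)))
      (pg_coprime h.el.pg hK.pi (Nat.not_succ_le_self p)) (sol_of_le h.max (hK.le.trans hE.le))
    have hq := hE.pi q a (b.trans (card_dvd hL.le))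
    have s3 := hK.syl_trans s1 e
    exact ⟨S, s3.mono (s1.le.trans (O_sub (fun r hr => Nat.le_of_succ_le hr) E)) hL.le,
      nn_of_cc (h.cc_syl hq e.ne (hE.syl_trans s3 hq) s2)⟩
  have h7 : omegaOne p (O {p} (O {q | p ≤ q} E)) = A := le_antisymm
    ((omega_mono (O_le_syl h5)).trans ((bg11_6 h).1 P hP h1).le)
    (le_omega (le_O (h1.trans h4) h6 (pi1_of_pg h.el.pg)) h.el.elem)
  have h8 : E ≤ NN A := by rw [← h7]; nrm
  exact (Sg_sup h.max hE).ge.trans (sup_le (nn_of_le le_sup_left) (nn_sup (nn_Sg' hE.le) h8))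
end

end Cfsg.Agent.MS
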