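import Cfsg.Agent.Lib.MS.Sec11
import Cfsg.Agent.Lib.MS.Aux12

/-!
BG section 12, first part (12.1 to 12.11): the subgroup E.
-/

set_option linter.unusedSectionVars false
set_option linter.unusedVariables false
set_option linter.style.haveILetI false
set_option linter.unusedSimpArgs false

namespace Cfsg.Agent.MS

open Subgroup Cfsg.Agent.Transfer

universe u
variable {G : Type u} [Group G] [Finite G]

/-- a complement `E` of `M_σ` with its Hall subgroups -/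
structure SC (M E E1 E2 E3 : Subgroup G) : Prop where
  hE : Hall (sigma M)ᶜ E M
  h1 : Hall (tau1 M) E1 E
  h2 : Hall (tau2 M) E2 E
  h3 : Hall (tau3 M) E3 E
  nn : E1 ≤ NN E2

section
variable [hG : MinS G] {A A0 B E E1 E2 E3 H K L M N P Q R S U V X Y : Subgroup G} {p q : ℕ} {g x : G}
include hG

theorem compl_tau (hM : IsCoatom M) (hE : Hall (sigma M)ᶜ E M) (hp : p.Prime) (h : p ∣ #E) :
    p ∈ tau1 M ∨ p ∈ tau2 M ∨ p ∈ tau3 M :=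
  (tau_cases hM hp (h.trans (card_dvd hE.le))).resolve_left (hE.pi p hp h)
theorem compl_rk (hM : IsCoatom M) (hE : Hall (sigma M)ᶜ E M) : ¬ RkA 3 E :=
  not_rkA3_of_pi hM hE.le (pi_ns_na hM hE.pi)
theorem compl_syl [Fact p.Prime] (hE : Hall (sigma M)ᶜ E M) (hp : p ∉ sigma M) (hP : IsSyl p P E) :
    IsSyl p P M := hE.syl_trans hP hp
theorem exists_compl_ge (hM : IsCoatom M) (hK : K ≤ M) (h : IsPi (sigma M)ᶜ K) :
    ∃ E, Hall (sigma M)ᶜ E M ∧ K ≤ E := exists_hall_ge (max_sol hM) hK h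
/-- `M' = M_σ E'` -/
theorem der_eq_Sg_sup (hM : IsCoatom M) (hE : Hall (sigma M)ᶜ E M) : ⁅M, M⁆ = Sg M ⊔ ⁅E, E⁆ := by
  refine le_antisymm ?_ (sup_le (Sg_le_der hM) (der_mono hE.le))
  conv_lhs => rw [← Sg_sup hM hE]
  exact der_sup_le (nn_Sg' hE.le)
theorem dvd_der_compl (hM : IsCoatom M) (hE : Hall (sigma M)ᶜ E M) (hp : p.Prime) (h : p ∉ sigma M) :
    p ∣ #(⁅E, E⁆ : Subgroup G) ↔ p ∣ #(⁅M, M⁆ : Subgroup G) := by
  refine ⟨fun h1 => h1.trans (card_dvd (der_mono hE.le)), fun h1 => ?_⟩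
  rw [der_eq_Sg_sup hM hE] at h1
  exact (dvd_sup_l hp (nn_Sg' ((der_le E).trans hE.le)) h1).resolve_left ((Sg_pi M).not_dvd hp h)
/-- BG 12.1(a) -/
theorem bg12_1a (hM : IsCoatom M) (hE : Hall (sigma M)ᶜ E M) : Group.IsNilpotent (⁅E, E⁆ : Subgroup G) := by
  exact (der_nilMod_Sg hM).nil (nn_Sg' (der_le M)) (der_mono hE.le) (Sg_inf (hE.pi.mono (der_le E)))
theorem pg_le_der [Fact p.Prime] (hr : ¬ Rk p 2 H) (hd : p ∣ #(⁅H, H⁆ : Subgroup G))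
    (hQ : IsPGroup p Q) (h : Q ≤ H) : Q ≤ ⁅H, H⁆ := by
  obtain ⟨P, h1, h2⟩ := exists_isSyl_ge hQ h
  exact h2.trans ((cyc_syl_der h1 (pg_cyc h1.pgroup fun h' => hr (h'.mono h1.le))).resolve_left
    (syl_ne_bot (h1.inf_of_le_normalizer (der_le H) (by nrm)) hd))
theorem pg_le_der_of_tau3 [Fact p.Prime] (hp : p ∈ tau3 M) (hQ : IsPGroup p Q) (h : Q ≤ M) :
    Q ≤ ⁅M, M⁆ := pg_le_der (tau3_rk hp) (tau3_dvd' hp) hQ h
theorem tau1_inf_der (h1 : IsPi (tau1 M) H) : H ⊓ ⁅M, M⁆ = ⊥ := pi_inf_der h1 fun _ => tau1_nd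
/-- BG 12.1(b), (d), (f) -/
theorem bg12_1_tau3 (hM : IsCoatom M) (hE : Hall (sigma M)ᶜ E M) (h3 : Hall (tau3 M) E3 E) :
    E3 ≤ ⁅E, E⁆ ∧ E ≤ NN E3 ∧ IsCyclic E3 ∧ E3 ⊓ CC E = ⊥ := by
  have h4 : E3 ≤ ⁅E, E⁆ := le_of_pg fun q hq hd S hS hp => by
    haveI := Fact.mk hq
    have h5 := h3.pi q hq hd
    exact pg_le_der (tau3_rk h5 ∘ (·.mono hE.le)) ((dvd_der_compl hM hE hq (tau3_ns h5)).2 (tau3_dvd' h5))
      hp (hS.trans h3.le)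
  have h5 : E ≤ NN E3 := by
    rw [nil_hall_eq (bg12_1a hM hE) (h3.mono h4 (der_le E))]; nrm
  have h6 : ¬ RkA 2 E3 := fun ⟨q, hq, h⟩ => tau3_rk (h3.pi q hq h.dvd) (h.mono (h3.le.trans hE.le))
  have h7 := nil_cyc (nil_mono (bg12_1a hM hE) h4) (odd_sub _) h6
  refine ⟨h4, h5, h7, by_contra fun h0 => ?_⟩
  obtain ⟨q, hq, hd⟩ := exists_prime_dvd h0
  haveI := Fact.mk hq
  have h8 := h3.pi q hq (hd.trans (card_dvd inf_le_left))
  obtain ⟨X, hX, hc⟩ := exists_card_eq hq hd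
  obtain ⟨P, hP, hXP⟩ := exists_isSyl_ge (pg_of_card hc) (hX.trans inf_le_left)
  have h9 := h3.syl_trans hP h8
  obtain ⟨K, hK⟩ := exists_hall (sol_of_le hM hE.le) {q}ᶜ
  have ha := ab_of_cyc (cyc_mono h7 hP.le)
  refine npc_not_dvd_der (burnside h9 (inf_le_left.trans (((hall_of_syl h9).sup hK).ge.trans
    (sup_le (ab_cc ha) (cop_cyc hP.pgroup (cyc_mono h7 hP.le) (cyc_nn h7 hP.le (hK.le.trans h5)) hK.pi
      fun e => prime_ne_bot (hc ▸ hq) (eq_bot_of_le e hXP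
        (hX.trans (inf_le_right.trans (cc_anti hK.le))))))))) h9 ha
    ((dvd_der_compl hM hE hq (tau3_ns h8)).2 (tau3_dvd' h8))
/-- BG 12.1(d) -/
theorem bg12_1_tau1 (hM : IsCoatom M) (h : E1 ≤ M) (h1 : IsPi (tau1 M) E1) : IsCyclic E1 := by
  exact ab_cyc (ab_iff_der.2 (eq_bot_of_le (tau1_inf_der h1) (der_le _) (der_mono h)))
    fun ⟨q, hq, h2⟩ => tau1_rk (h1 q hq h2.dvd) (h2.mono h)
theorem SC.hall23 (hM : IsCoatom M) (h : SC M E E1 E2 E3) : Hall (tau3 M ∪ tau2 M) (E3 ⊔ E2) E :=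
  h.h3.sup_union h.h2 (h.h2.le.trans (bg12_1_tau3 hM h.hE h.h3).2.1)
theorem der_pi23 (hM : IsCoatom M) (hE : Hall (sigma M)ᶜ E M) : IsPi (tau3 M ∪ tau2 M) ⁅E, E⁆ :=
  fun q hq hd => ((compl_tau hM hE hq (hd.trans (card_dvd (der_le E)))).resolve_left
    fun h => tau1_nd h (hd.trans (card_dvd (der_mono hE.le)))).symm
/-- BG 12.1(e) -/
theorem SC.sup (hM : IsCoatom M) (h : SC M E E1 E2 E3) : E3 ⊔ E2 ⊔ E1 = E ∧ E ≤ NN (E3 ⊔ E2) := by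
  have h1 := h.hall23 hM
  have h2 : ⁅E, E⁆ ≤ E3 ⊔ E2 := h1.le_of_nn' (der_le E) (der_pi23 hM h.hE) (nn_comm
    (nn_of_le h1.le) (nn_of_le h1.le))
  have h3 := nn_of_der_le h2 h1.le
  exact ⟨(h1.sup_union h.h1 (h.h1.le.trans h3)).eq_self fun q hq hd => by
    rcases compl_tau hM h.hE hq hd with h | h | h <;> simp [h], h3⟩
/-- BG 12.1(c) -/
theorem SC.ne_bot (hM : IsCoatom M) (h : SC M E E1 E2 E3) (h2 : E2 = ⊥) : E1 ≠ ⊥ := by
  rintro rfl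
  have h1 := (h.sup hM).1
  rw [h2, sup_bot_eq, sup_bot_eq] at h1
  have h3 : E = ⊥ := by_contra fun h0 => (sol_der_lt (sol_of_le hM h.hE.le) h0).not_ge
    (h1.ge.trans (bg12_1_tau3 hM h.hE h.h3).1)
  have h4 := Sg_sup hM h.hE
  rw [h3, sup_bot_eq] at h4
  exact (der_lt_max hM).not_ge (h4.ge.trans (Sg_le_der hM))
theorem exists_SC1 (hM : IsCoatom M) (hE : Hall (sigma M)ᶜ E M) (h1 : Hall (tau1 M) E1 E) :
    ∃ E2 E3, SC M E E1 E2 E3 := by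
  have hs := sol_of_le hM hE.le
  obtain ⟨E3, h3⟩ := exists_hall hs (tau3 M)
  obtain ⟨K, hK⟩ := exists_hall hs (tau3 M ∪ tau2 M)
  have h2 : E ≤ NN K := nn_of_der_le (hK.le_of_nn' (der_le E) (der_pi23 hM hE) (nn_comm
    (nn_of_le hK.le) (nn_of_le hK.le))) hK.le
  obtain ⟨E2, h4, h5⟩ := cop_hall (h1.le.trans h2) (h1.pi.coprime' hK.pi fun q h h' =>
    h'.elim (tau1_not3 h) (tau1_not2 h)) (sol_mono hs hK.le) (tau2 M)
  exact ⟨E2, E3, hE, h1, h4.trans hK Set.subset_union_right, h3, h5⟩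
theorem exists_SC2 (hM : IsCoatom M) (hE : Hall (sigma M)ᶜ E M) (h2 : Hall (tau2 M) E2 E) :
    ∃ E1 E3, SC M E E1 E2 E3 := by
  have hs := sol_of_le hM hE.le
  obtain ⟨E1, h1⟩ := exists_hall hs (tau1 M)
  obtain ⟨E2', E3, h⟩ := exists_SC1 hM hE h1
  obtain ⟨g, hg, rfl⟩ := Hall.conj hs h.h2 h2
  exact ⟨_, _, hE, h1.cj_nn (le_nn E hg), h2, h.h3, nn_cj h.nn g⟩
/-- BG 12.2(a) -/
theorem bg12_2a [Fact p.Prime] (hM : IsCoatom M) (hX : IsPGroup p X) (h : NN X ≤ M) :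
    p ∈ sigma M ∨ p ∈ tau2 M := by
  exact or_iff_not_imp_left.2 fun h1 => mem_tau2_of hM h1 (bg10_5 hM h1 hX h)
/-- BG 12.2(b) -/
theorem bg12_2b [Fact p.Prime] (hM : IsCoatom M) (hX : IsPGroup p X) (h1 : X ≤ M) (hH : IsCoatom H)
    (h2 : NN X ≤ H) (h : (p ∈ sigma M ∧ H ≠ M) ∨ p ∈ tau1 M ∪ tau3 M) : ¬ CJ M H := by
  rintro ⟨g, rfl⟩
  rcases h with ⟨h, h3⟩ | h
  · obtain ⟨c, hc, e⟩ := bg10_1b hM h hX h1 ((le_nn X).trans h2)
    exact h3 (cj_inj.1 (e.trans (cj_nn (le_nn _ (h2 (cc_le_nn X hc)))).symm)).symm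
  · have := bg12_2a hH hX h2
    rw [sigma_cj, tau2_cj] at this
    exact this.elim (tau13_iff.1 h).2.1 fun h' => (tau13_iff.1 h).2.2.2 (tau2_rk h')
/-- BG 12.3 -/
theorem bg12_3 [Fact p.Prime] (hM : IsCoatom M) (hH : IsCoatom H) (hne : H ≠ M) (hA : El p 2 A M)
    (h1 : A0 ≤ A) (h2 : #A0 = p) (h3 : NN A0 ≤ H) :
    (p ∉ sigma M → A ≤ CC (Sg M ⊓ H)) ∧ (p ∉ alpha M → A ≤ CC (Al M ⊓ H)) := by
  have hAH : A ≤ H := (ab_nn hA.ab le_rfl h1).trans h3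
  have hs := max_sol hH
  have key : ∀ K, K ≤ Sg M ⊓ H → A ≤ NN K → IsPi {p}ᶜ K → (⁅K, A⁆ ≤ Sg H → ⁅K, A⁆ = ⊥) → A ≤ CC K :=
      fun K hK hn hp h => comm_eq_bot'.1 <| by
    have h4 : K ≤ H := hK.trans inf_le_right
    by_cases h5 : p ∈ sigma H
    · exact h ((commutator_mono h4 (pg_le_Sg hH h5 hAH hA.pg)).trans (comm_le_right (by nrm)))
    have h6 : Exc p H A0 A := ⟨hH, h5, hA.of_le hAH, h1, h2, h3⟩
    refine by_contra fun h0 => hne (bg11_4 h6 hM hA.le fun e => h0 (eq_bot_of_le e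
      ((comm_le_left hn).trans (hK.trans inf_le_left)) ?_)).symm
    refine (Hall.of_sup (π := {p}ᶜ) ((Sg_pi H).ne h5)
      (pi1_of_pg hA.pg).compl_compl (nn_Sg' hAH)).le_of_normal (sup_le (le_nn _) (nn_Sg' hAH))
      ((commutator_mono h4 le_sup_right).trans (comm_le_right (bg11_7 h6))) (hp.mono (comm_le_left hn))
  have hn : A ≤ NN M := nn_of_le hA.le
  have hn' : A ≤ NN H := nn_of_le hAH
  by_cases h5 : p ∈ sigma H
  swap
  · have h6 : Exc p H A0 A := ⟨hH, h5, hA.of_le hAH, h1, h2, h3⟩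
    have h7 : Sg M ⊓ Sg H = ⊥ := by_contra fun e => hne (bg11_4 h6 hM hA.le e).symm
    exact ⟨fun hp => key _ le_rfl (by nrm) (((Sg_pi M).ne hp).mono inf_le_left)
      fun h => eq_bot_of_le h7 ((comm_le_left (by nrm)).trans inf_le_left) h,
      fun hp => key _ (inf_le_inf_right _ (Al_le_Sg hM)) (by nrm)
        (((Al_pi M).ne hp).mono inf_le_left) fun h => eq_bot_of_le h7
          ((comm_le_left (by nrm)).trans (inf_le_left.trans (Al_le_Sg hM))) h⟩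
  have h6 : ¬ CJ M H := fun h => bg12_2b hM (pg_of_card h2) (h1.trans hA.le) hH h3
    (.inl ⟨h.sigma ▸ h5, hne⟩) h
  refine ⟨fun hp => ?_, fun hp => key _ (inf_le_inf_right _ (Al_le_Sg hM)) (by nrm)
    (((Al_pi M).ne hp).mono inf_le_left) fun h => eq_bot_of_le
      (inf_of_coprime ((Al_pi M).coprime' (Sg_pi H) (bg10_12a hM hH h6)))
      ((comm_le_left (by nrm)).trans inf_le_left) h⟩
  have h7 : IsPi {p}ᶜ (Sg M ⊓ H) := ((Sg_pi M).ne hp).mono inf_le_left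
  refine key _ le_rfl (by nrm) h7 fun h => ?_
  have h8 : ⁅Sg M ⊓ H, A⁆ ≤ Sg M ⊓ H := comm_le_left (by nrm)
  rw [← cop_comm_comm (by nrm) ((pi1_of_pg hA.pg).coprime h7) (sol_mono hs inf_le_right)]
  exact eq_bot_of_le (inf_of_coprime ((Al_pi H).coprime' (Sg_pi M) (bg10_12a hH hM (h6 ·.symm))))
    ((der_nilMod_Al hH).comm_le (nn_Al' (der_le H)) (h.trans (Sg_le_der hH))
      ((pg_le_Sg hH h5 hAH hA.pg).trans (Sg_le_der hH)) ((pi1_of_pg hA.pg).coprime (h7.mono h8)).symm)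
    ((comm_le_left (right_nn_comm _ _)).trans (h8.trans inf_le_left))
omit hG in
theorem _root_.Cfsg.Agent.Transfer.IsSyl.le_of_normal' [Fact p.Prime] (h : IsSyl p P H) (h1 : H ≤ NN P)
    (h2 : IsPGroup p Q) (h3 : Q ≤ H) : Q ≤ P := h.le_of_le_normalizer h2 h3 (h3.trans h1)
theorem Al_rk (hM : IsCoatom M) (h : Al M ≠ ⊥) : RkA 3 (Al M) := by
  obtain ⟨q, hq, hd⟩ := exists_prime_dvd h
  haveI := Fact.mk hq
  exact ((alpha_iff.1 (Al_pi M q hq hd)).hall (Al_hall hM) (Al_pi M q hq hd)).rkA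
theorem line_nn_ne_top [Fact p.Prime] (h : #X = p) : NN X ≠ ⊤ :=
  pg_nn_ne_top (pg_of_card h) (prime_ne_bot (h ▸ Fact.out))
theorem bg12_4aux [Fact p.Prime] (hM : IsCoatom M) (hA : El p 2 A M)
    (h : ∀ X ≤ A, #X = p → ¬ UM (NN X) M) : p ∈ sigma M ∧ Al M = ⊥ ∧ Group.IsNilpotent (Sg M) ∧
      ∀ P, IsSyl p P (Sg M) → A ≤ P → omegaOne p (P ⊓ CC P) ≤ A := by
  have hu : ¬ UU A := fun hu => by
    obtain ⟨X, h1, h2⟩ := exists_card_eq (Fact.out : p.Prime) hA.self.dvd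
    exact h X h1 h2 ((hu.um hM hA.le).mono (ab_nn hA.ab le_rfl h1) (line_nn_ne_top h2))
  have key : ∀ K, A ≤ NN K → IsPi {p}ᶜ K → (∀ H, IsCoatom H → H ≠ M → ∀ X ≤ A, #X = p → NN X ≤ H →
      A ≤ CC (K ⊓ H)) → A ≤ CC K := fun K h1 h2 h3 => cc_symm <| cop_lines hA h1 h2 fun X a b => by
    obtain ⟨H, c, d, e⟩ := exists_max_ne' (h X a b) (line_nn_ne_top b)
    exact (inf_le_inf_left _ ((cc_le_nn X).trans d)).trans (cc_symm (h3 H c e X a b d))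
  have hn : A ≤ NN M := nn_of_le hA.le
  have h1 : p ∈ sigma M := by_contra fun hp => bg10_11b hM hA.le (pi_of_pg hA.pg hp)
    (hA.of_le (le_inf le_rfl (key _ (by nrm) ((Sg_pi M).ne hp)
      fun H c e X a b d => (bg12_3 hM c e hA a b d).1 hp))).rk.rkA
  have hm : MaxEl p A ⊤ := by_contra fun h => hu (uu_of_not_maxEl hA h)
  have h2 : ∀ P, IsSyl p P (Sg M) → A ≤ P → omegaOne p (P ⊓ CC P) ≤ A := fun P a b =>
    hm.le_of le_top ((omega_le _ _).trans (inf_le_right.trans (cc_anti b))) (omega_elem (ab_center P))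
  have h3 : p ∉ alpha M := fun hp => by
    obtain ⟨P, a, b⟩ := exists_isSyl_ge hA.pg (pg_le_Sg hM h1 hA.le hA.pg)
    obtain ⟨X, c, d⟩ := pg_exists_card (a.pgroup.to_le (inf_le_left : P ⊓ CC P ≤ P))
      (nil_meet (nil_of_pg a.pgroup) le_rfl (le_nn _) (syl_ne_bot a (dvd_Sg hM h1)))
    exact h X ((le_omega_of_card c d).trans (h2 P a b)) d (((uu_of_rk3 (pg_ne_top a.pgroup)
      ((alpha_iff.1 hp).syl (Sg_syl hM h1 a)).rkA).um hM (a.le.trans (Sg_le M))).mono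
        (nn_of_cc (cc_symm (c.trans inf_le_right))) (line_nn_ne_top d))
  have h4 : Al M = ⊥ := by_contra fun h0 => hu (uu_of_cc_rk3 hA.self.rk.rkA ((Al_rk hM h0).mono
    (cc_symm (key _ (by nrm) ((Al_pi M).ne h3)
      fun H c e X a b d => (bg12_3 hM c e hA a b d).2 h3))))
  exact ⟨h1, h4, nil_mono (nilMod_bot.1 (h4 ▸ der_nilMod_Al hM)) (Sg_le_der hM), h2⟩
/-- BG 12.4(a) -/
theorem bg12_4a [Fact p.Prime] (hM : IsCoatom M) (hA : El p 2 A M) : CC A ≤ M := by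
  by_cases h : ∀ X ≤ A, #X = p → ¬ UM (NN X) M
  · obtain ⟨h1, -, h2, h3⟩ := bg12_4aux hM hA h
    have h4 := nil_syl (p := p) h2
    have h5 := h3 _ h4 (h4.le_of_normal' (by nrm) hA.pg (pg_le_Sg hM h1 hA.le hA.pg))
    refine (cc_anti h5).trans ((cc_le_nn _).trans (max_nn' hM (omega_ne_bot (pg_dvd
      (h4.pgroup.to_le inf_le_left) (nil_meet (nil_of_pg h4.pgroup) le_rfl (le_nn _)
        (syl_ne_bot h4 (dvd_Sg hM h1))))) (h5.trans hA.le) (by nrm)).le)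
  · push Not at h
    obtain ⟨X, h1, -, h2⟩ := h
    exact (cc_anti h1).trans ((cc_le_nn X).trans h2.le)
/-- BG 12.4(b) -/
theorem bg12_4b [Fact p.Prime] (hM : IsCoatom M) (hA : El p 2 A M)
    (h : ∀ X ≤ A, #X = p → ¬ UM (NN X) M) : p ∈ sigma M ∧ Al M = ⊥ ∧ Group.IsNilpotent (Sg M) := by
  exact (bg12_4aux hM hA h).imp_right fun h => ⟨h.1, h.2.1⟩
theorem exists_exc [Fact p.Prime] (hM : IsCoatom M) (hp : p ∈ tau2 M) (hA : El p 2 A M) :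
    ∃ A0, Exc p M A0 A := by
  by_contra h
  exact tau2_ns hp (bg12_4b hM hA fun X a b c => h ⟨X, hM, tau2_ns hp, hA, a, b, c.le⟩).1
/-- BG 12.5(a) -/
theorem bg12_5a (hM : IsCoatom M) (hp : p ∈ tau2 M) : Group.IsNilpotent (Sg M) := by
  haveI := Fact.mk (tau2_prime hp)
  obtain ⟨A, hA⟩ := tau2_rk hp
  obtain ⟨A0, h⟩ := exists_exc hM hp hA
  exact bg11_3 h
/-- BG 12.5(b) -/
theorem bg12_5b [Fact p.Prime] (hM : IsCoatom M) (hp : p ∈ tau2 M) (hP : IsSyl p P M) :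
    IsMulCommutative P ∧ ¬ NN P ≤ M ∧ ∀ A, El p 2 A P → omegaOne p P = A := by
  obtain ⟨A, hA⟩ := tau2_rk hp
  obtain ⟨A0, h⟩ := exists_exc hM hp hA
  refine ⟨bg11_5 h hP, not_nn_le (tau2_ns hp) hP (syl_ne_bot hP (tau2_dvd hp)), fun B hB => ?_⟩
  obtain ⟨B0, h⟩ := exists_exc hM hp (hB.mono hP.le)
  exact (bg11_6 h).1 P hP hB.le
/-- BG 12.5(c)-(f) -/
theorem bg12_5 [Fact p.Prime] (hM : IsCoatom M) (hp : p ∈ tau2 M) (hA : El p 2 A M) :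
    M ≤ NN (Sg M ⊔ A) ∧ Sg M ⊓ CC A = ⊥ ∧ (∀ H, IsCoatom H → A ≤ H → H ≠ M → Sg M ⊓ H = ⊥) ∧
      ∃ X ≤ A, #X = p ∧ Sg M ⊓ CC X = ⊥ := by
  obtain ⟨A0, h⟩ := exists_exc hM hp hA
  obtain ⟨-, h1, X, h2, -, -, h3, -, -, h4, -⟩ := bg11_6 h
  refine ⟨bg11_7 h, h1, fun H hH h5 hne => eq_bot_of_le h1 inf_le_left (cc_symm ?_), X, h2, h3, h4⟩
  by_cases h6 : ∀ X ≤ A, #X = p → ¬ UM (NN X) H
  · obtain ⟨a, -, b⟩ := bg12_4b hH (hA.of_le h5) h6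
    have h7 : A ≤ O {p} (Sg H) := nil_le_O b (pg_le_Sg hH a h5 hA.pg) (pi1_of_pg hA.pg)
    have hn : A ≤ NN M := nn_of_le hA.le
    have hn' : A ≤ NN H := nn_of_le h5
    exact comm_eq_bot'.1 (eq_bot_of_le (pg_inf (O_pg (Sg H)) (Sg_pi M) (tau2_ns hp))
      ((commutator_mono inf_le_right h7).trans (comm_le_right (by nrm)))
      ((comm_le_left (by nrm)).trans inf_le_left))
  · push Not at h6
    obtain ⟨Y, a, b, c⟩ := h6
    exact (bg12_3 hM hH hne hA a b c.le).1 (tau2_ns hp)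
/-- BG 12.6(a), (b) -/
theorem bg12_6ab [Fact p.Prime] (hM : IsCoatom M) (hE : Hall (sigma M)ᶜ E M) (hp : p ∈ tau2 M)
    (hA : El p 2 A E) : E ≤ NN A ∧ (∀ X ≤ E, #X = p → X ≤ A) ∧ CC A ≤ E ∧ M ⊓ NN A = E ∧ ¬ NN A ≤ M := by
  obtain ⟨h1, h2, -⟩ := bg12_5 hM hp (hA.mono hE.le)
  have h3 : E ≤ NN A := by
    have : (A ⊔ Sg M) ⊓ E = A := by
      rw [dedekind' hA.le (nn_Sg' (hA.le.trans hE.le)), Sg_inf hE.pi, sup_bot_eq]
    rw [← this, sup_comm]; exact nn_inf (hE.le.trans h1) (le_nn E)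
  have h4 : M ⊓ NN A = E := by
    conv_lhs => rw [← Sg_sup hM hE, sup_comm]
    rw [dedekind' h3 (nn_Sg' hE.le), eq_bot_of_le h2 inf_le_left (cc_of_inf_eq_bot inf_le_right
      (nn_inf (nn_Sg' (hA.le.trans hE.le)) (by nrm)) (inf_bot_mono (Sg_inf (hE.pi.mono hA.le))
        inf_le_left le_rfl)), sup_bot_eq]
  refine ⟨h3, fun X a b => ?_, (le_inf (bg12_4a hM (hA.mono hE.le)) (cc_le_nn A)).trans h4.le, h4,
    fun h => ?_⟩
  · obtain ⟨P, c, d⟩ := exists_isSyl_ge (pg_sup_l hA.pg (pg_of_card b) (a.trans h3)) (sup_le hA.le a)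
    exact (le_omega_of_card (le_sup_right.trans d) b).trans ((bg12_5b hM hp (compl_syl hE (tau2_ns hp)
      c)).2.2 A (hA.of_le (le_sup_left.trans d))).le
  · obtain ⟨P, c, d⟩ := exists_isSyl_ge hA.pg (hA.le.trans hE.le)
    obtain ⟨-, a, b⟩ := bg12_5b hM hp c
    exact a ((b A (hA.of_le d) ▸ nn_omega le_rfl).trans h)
/-- BG 12.6(c) -/
theorem bg12_6c [Fact p.Prime] (hM : IsCoatom M) (hp : p ∈ tau2 M) (hX : X ≤ M) (h1 : #X = p)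
    (h2 : Sg M ⊓ CC X ≠ ⊥) : UM (CC X) M := by
  obtain ⟨A, hA, h3⟩ := exists_el2_ge hX h1 (tau2_rk hp)
  exact um_of_forall (cc_ne_top (prime_ne_bot (h1 ▸ Fact.out))) fun L a b => by_contra fun c =>
    h2 (inf_bot_mono ((bg12_5 hM hp hA).2.2.1 L a ((ab_le_cc hA.ab le_rfl h3).trans b) c) le_rfl b)
theorem reg13 [Fact p.Prime] (hM : IsCoatom M) (hp : p ∈ tau2 M) (hA : El p 2 A M) (hX : X ≤ M)
    (h1 : (#X).Prime) (h2 : #X ∈ tau1 M ∪ tau3 M) (h3 : X ≤ CC A) : Sg M ⊓ CC X = ⊥ := by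
  haveI := Fact.mk h1
  obtain ⟨H, a, b⟩ := exists_max (line_nn_ne_top (X := X) rfl)
  exact inf_bot_mono ((bg12_5 hM hp hA).2.2.1 H a ((cc_symm h3).trans ((cc_le_nn X).trans b))
    (ne_of_not_CJ (bg12_2b hM (pg_of_card rfl) hX a b (.inr h2)))) le_rfl ((cc_le_nn X).trans b)
/-- BG 12.6(d), (e) -/
theorem bg12_6de [Fact p.Prime] (hM : IsCoatom M) (h : SC M E E1 E2 E3) (hp : p ∈ tau2 M)
    (hA : El p 2 A E) : Reg (Sg M) E3 ∧ Reg (Sg M) (E1 ⊓ CC A) := by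
  have h1 := (bg12_1_tau3 hM h.hE h.h3).2.1
  have h2 := (bg12_6ab hM h.hE hp hA).1
  refine ⟨reg_of_prime fun X a b => reg13 hM hp (hA.mono h.hE.le) (a.trans (h.h3.le.trans h.hE.le)) b
    (.inr (h.h3.pi _ b (card_dvd a))) (a.trans (cc_of_inf_eq_bot (h.h3.le.trans h2) (hA.le.trans h1)
      (inf_comm A E3 ▸ pg_inf hA.pg h.h3.pi fun e => tau3_not2 e hp))), reg_of_prime fun X a b =>
    reg13 hM hp (hA.mono h.hE.le) (a.trans (inf_le_left.trans (h.h1.le.trans h.hE.le))) b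
      (.inl (h.h1.pi _ b (card_dvd (a.trans inf_le_left)))) (a.trans inf_le_right)⟩
/-- BG 12.6(f) -/
theorem bg12_6f (hM : IsCoatom M) (hp : p ∈ tau2 M) (hH : IsCoatom H) (h : ¬ CJ M H) :
    ∀ q ∈ sigma M, q ∉ sigma H := bg10_12b hM hH h (bg12_5a hM hp)
omit hG in
theorem syl_ab [Fact p.Prime] (hS : IsSyl p S ⊤) (h : IsMulCommutative S) (hP : IsPGroup p P) :
    IsMulCommutative P := by
  obtain ⟨g, -, e⟩ := hS.exists_cj_le hP le_top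
  exact cj_inv_cj g P ▸ ab_cj (ab_mono h e) g⁻¹
theorem tau2_pg_ab [Fact p.Prime] (hM : IsCoatom M) (hp : p ∈ tau2 M) (hP : IsPGroup p P) (h : P ≤ M) :
    IsMulCommutative P := by
  obtain ⟨S, h1, h2⟩ := exists_isSyl_ge hP h
  exact ab_mono (bg12_5b hM hp h1).1 h2
/-- BG 12.7 -/
theorem bg12_7 [Fact p.Prime] (hM : IsCoatom M) (hE : Hall (sigma M)ᶜ E M) (hp : p ∈ tau2 M)
    (hA : El p 2 A E) (hP : IsPGroup p P) (ha : ¬ IsMulCommutative P) :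
    tau2 M = {p} ∧ #(A ⊓ CC (Sg M) : Subgroup G) = p ∧ Sg M ⊔ (A ⊓ CC (Sg M)) = F M ∧
      (∀ X ≤ E, #X = p → X ≠ A ⊓ CC (Sg M) → Sg M ⊓ CC X = ⊥ ∧ ¬ CC X ≤ M) ∧
      ∃ E0, (A ⊓ CC (Sg M)) ⊔ E0 = E ∧ (A ⊓ CC (Sg M)) ⊓ E0 = ⊥ ∧
        ∀ x ∈ Sg M, x ≠ 1 → IsPi (tau1 M) (E0 ⊓ C1 x) := by
  have hM' := hA.mono hE.le
  have hpp : p.Prime := Fact.out
  obtain ⟨S, hS, hAS⟩ := exists_isSyl_ge hA.pg hA.le
  have hSM := compl_syl hE (tau2_ns hp) hS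
  have hSa := (bg12_5b hM hp hSM).1
  obtain ⟨T, hT, hST⟩ := exists_isSyl_ge hS.pgroup le_top
  have hTa : ¬ IsMulCommutative T := fun h => ha (syl_ab hT h hP)
  have hm := bg10_4c hM (tau2_ns hp) hM'
  obtain ⟨z1, z2, ⟨Z, z3, z4, z5⟩, z6⟩ := bg10_13 (hA.of_le (hAS.trans hST)) hm hT.pgroup hTa
  set Z0 := omegaOne p (T ⊓ CC T)
  obtain ⟨a1, a2, a3, -, -⟩ := bg12_6ab hM hE hp hA
  obtain ⟨-, b1, -⟩ := bg12_5 hM hp hM'
  have h1 : T ⊓ CC A = S := hS.eq_of_le (hT.pgroup.to_le inf_le_left) (inf_le_right.trans a3)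
    (le_inf hST (ab_le_cc hSa le_rfl hAS))
  have h2 : T ⊓ M = S := hSM.eq_of_le (hT.pgroup.to_le inf_le_left) inf_le_right (le_inf hST hSM.le)
  have hn : A ≤ NN (Sg M) := nn_Sg' hM'.le
  have hc := (Sg_pi M).ne (tau2_ns hp)
  obtain ⟨A0, c1, c2, c3⟩ : ∃ A0 ≤ A, #A0 = p ∧ Sg M ⊓ CC A0 ≠ ⊥ := by
    by_contra! h
    exact Sg_ne_bot hM (le_bot_iff.1 (cop_lines hA hn hc fun B a b => (h B a b).le))
  have c4 := bg12_6c hM hp (c1.trans hM'.le) c2 c3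
  have h3 : ¬ CC Z0 ≤ M := fun h => hTa (ab_mono hSa (h2 ▸ le_inf le_rfl
    ((cc_symm ((omega_le _ _).trans inf_le_right)).trans h)))
  have h4 : A0 ≠ Z0 := fun e => h3 (e ▸ c4.le)
  have h5 : ∀ X ≤ E, #X = p → X ≠ A0 → Sg M ⊓ CC X = ⊥ ∧ ¬ CC X ≤ M := fun X a b c => by
    have : ¬ CC X ≤ M := fun h => by
      obtain ⟨k, hk, rfl⟩ := z6 A0 c1 X (a2 X a b) c2 b h4 fun e => h3 (e ▸ h)
      exact c (cj_cc (ab_le_cc hSa le_rfl (c1.trans hAS)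
        (h2.le ⟨hk.1, c4.mem_of_cj_le (cj_centralizer k A0 ▸ h)⟩)))
    exact ⟨by_contra fun h => this (bg12_6c hM hp (a.trans hE.le) b h).le, this⟩
  have h6 : Sg M ≤ CC A0 := cop_lines hA hn hc fun B a b => by
    rcases eq_or_ne B A0 with rfl | c
    exacts [inf_le_right, (h5 B (a.trans hA.le) b c).1.le.trans bot_le]
  have h7 : A ⊓ CC (Sg M) = A0 := by
    have := le_inf c1 (cc_symm h6)
    rcases hA.line_or (inf_le_left : A ⊓ CC (Sg M) ≤ A) with h | h | h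
    · exact absurd (le_bot_iff.1 (h ▸ this)) (prime_ne_bot (c2 ▸ hpp))
    · exact (eq_of_card_le this (h.trans c2.symm).le).symm
    · exact absurd (eq_bot_of_le b1 le_rfl (cc_symm (h ▸ inf_le_right))) (Sg_ne_bot hM)
  have h8 : ∀ q ∈ tau2 M, q = p := fun q hq => by_contra fun hne => by
    haveI := Fact.mk (tau2_prime hq)
    obtain ⟨B, hB⟩ := (tau2_rk hq).hall hE (tau2_ns hq)
    obtain ⟨d1, -, d2, -⟩ := bg12_6ab hM hE hq hB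
    obtain ⟨Q, d3, d4⟩ := exists_MI hB.pg (hA.le.trans d1)
    obtain ⟨R, d5, -, -, -, d6⟩ := bg10_10 (Ne.symm hne) hA hm d3 ((hB.of_le (cc_of_inf_eq_bot
      (hB.le.trans a1) (hA.le.trans d1) (inf_of_coprime (pg_coprime_pg hB.pg hA.pg hne)))).dvd)
    exact ha (syl_ab d5 (tau2_pg_ab hM hp d5.pgroup ((d6 fun _ => ⟨B, hB.of_le d4,
      (bg10_4c hM (tau2_ns hq) (hB.mono hE.le)).mono d4 le_top⟩).trans
        ((cc_anti d4).trans (d2.trans hE.le)))) hP)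
  have h9 : E ≤ NN A0 := h7 ▸ nn_inf a1 (nn_cc (nn_Sg' hE.le))
  have h10 : M ≤ NN A0 := (Sg_sup hM hE).ge.trans (sup_le (nn_of_cc h6) h9)
  have h11 : A0 ≤ M := c1.trans hM'.le
  have h12 : Sg M ≤ F M := le_F (Sg_le M) (by nrm) (bg12_5a hM hp)
  obtain ⟨d1, d2⟩ := z5 A0 c1 c2 h4
  rw [h1] at d2
  obtain ⟨E0, e1, e2⟩ := gaschutz (ab_mono hA.ab c1) (pg_of_card c2) hS h9 d2 d1
  rw [h7]
  refine ⟨Set.eq_singleton_iff_unique_mem.2 ⟨hp, h8⟩, c2, le_antisymm (sup_le h12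
    (le_F h11 h10 (nil_of_pg (pg_of_card c2)))) (F_le_of_O fun q hq _ => ?_), h5, E0, e1, e2,
    fun x hx hx1 q hq hd => ?_⟩
  · haveI := Fact.mk hq
    by_cases f1 : q ∈ sigma M
    · exact (pg_le_Sg hM f1 (O_le _ _) (O_pg M)).trans le_sup_left
    have f2 : O {q} M ≤ E := hE.le_of_nn' (O_le _ _) (pi_of_pg (O_pg M) f1) (nn_O (nn_of_le hE.le))
    have f3 : O {q} M ≤ CC (Sg M) := nil_cc (F_nil M) (O_le_F M) h12 (pg_coprime (O_pg M) (Sg_pi M) f1)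
    rcases eq_or_ne q p with rfl | hne
    · have f4 : Z ⊓ O {q} M = ⊥ := by_contra fun h => h4 (eq_of_card_le (h7 ▸ le_inf z1
        ((cyc_line_le z3 z4 z2 inf_le_left ((O_pg M).to_le inf_le_right) h).trans
          (inf_le_right.trans f3))) (c2.trans z2.symm).le).symm
      have := dedekind (le_O h11 h10 (pi1_of_pg (pg_of_card c2)))
        (ab_nn hSa (d2 ▸ le_sup_right : Z ≤ S) (c1.trans hAS))
      rw [d2, f4, sup_bot_eq, inf_eq_right.2 (O_le_syl hSM)] at this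
      exact this.le.trans le_sup_right
    refine (by_contra fun h => ?_ : O {q} M = ⊥).le.trans bot_le
    obtain ⟨X, f4, f5⟩ := pg_exists_card (O_pg M) h
    have f6 := compl_tau hM hE hq (f5 ▸ card_dvd (f4.trans f2))
    exact Sg_ne_bot hM (eq_bot_of_le (reg13 hM hp hM' (f4.trans (O_le _ _)) (f5 ▸ hq)
      (f5 ▸ f6.imp_right fun h => h.resolve_left fun h => hne (h8 q h)) (f4.trans (cc_of_inf_eq_bot
        (f2.trans a1) (nn_O (nn_of_le hM'.le)) (inf_of_coprime (pg_coprime_pg (O_pg M) hA.pg hne)))))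
      le_rfl (cc_symm (f4.trans f3)))
  · obtain ⟨X, f1, f2⟩ := exists_card_eq hq hd
    have f3 : X ≤ E := f1.trans (inf_le_left.trans (e1 ▸ le_sup_right))
    have f4 : Sg M ⊓ CC X ≠ ⊥ := ne_bot_of_mem ⟨hx, le_C1_iff.1 (f1.trans inf_le_right)⟩ hx1
    rcases compl_tau hM hE hq (f2 ▸ card_dvd f3) with h | h | h
    · exact h
    · obtain rfl := h8 q h
      exact absurd (h5 X f3 f2 fun e => prime_ne_bot (f2 ▸ hq)
        (eq_bot_of_le e2 e.le (f1.trans inf_le_left))).1 f4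
    · obtain ⟨E3, h3⟩ := exists_hall (sol_of_le hM hE.le) (tau3 M)
      have f5 := (bg12_1_tau3 hM hE h3).2.1
      exact absurd (reg13 hM hp hM' (f3.trans hE.le) (f2 ▸ hq) (.inr (f2 ▸ h))
        ((h3.le_of_normal f5 f3 (pi_of_card f2 hq h)).trans (cc_of_inf_eq_bot (h3.le.trans a1)
          (hA.le.trans f5) (inf_comm A E3 ▸ pg_inf hA.pg h3.pi fun e => tau3_not2 e hp)))) f4
theorem tau2_all_ab [Fact p.Prime] (hM : IsCoatom M) (hp : p ∈ tau2 M) (hS : IsSyl p S ⊤)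
    (ha : IsMulCommutative S) (q : ℕ) (hq : q ∈ tau2 M) (Q : Subgroup G) (hQ : IsPGroup q Q) :
    IsMulCommutative Q := by_contra fun h => by
  haveI := Fact.mk (tau2_prime hq)
  obtain ⟨E, hE⟩ := exists_hall (max_sol hM) (sigma M)ᶜ
  obtain ⟨B, hB⟩ := (tau2_rk hq).hall hE (tau2_ns hq)
  obtain rfl : p = q := by simpa [(bg12_7 hM hE hq hB hQ h).1] using hp
  exact h (syl_ab hS ha hQ)
theorem bg12_8aux [Fact p.Prime] (hM : IsCoatom M) (hE : Hall (sigma M)ᶜ E M) (hp : p ∈ tau2 M)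
    (hA : El p 2 A E) (hS : IsSyl p S ⊤) (hAS : A ≤ S) (ha : IsMulCommutative S) :
    S ≤ ⁅NN S, NN S⁆ ∧ ⁅NN S, NN S⁆ ≤ F E ∧ F E ≤ CC S ∧ CC S ≤ E ∧ NN A = NN S ∧ F (NN A) = F E := by
  obtain ⟨a1, -, a2, -⟩ := bg12_6ab hM hE hp hA
  have h1 : S ≤ CC A := ab_le_cc ha le_rfl hAS
  have h2 : NN S ≤ NN A := (bg12_5b hM hp (hS.mono (h1.trans (a2.trans hE.le)) le_top)).2.2 A
    (hA.of_le hAS) ▸ nn_omega le_rfl
  have h3 : F (NN A) ≤ CC A := F_le_of_O fun q hq _ => by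
    haveI := Fact.mk hq
    rcases eq_or_ne q p with rfl | hne
    · exact (O_le_syl (hS.mono (nn_of_cc h1) le_top)).trans h1
    · exact cc_of_inf_eq_bot (O_le _ _) (by nrm) (inf_of_coprime (pg_coprime_pg (O_pg _) hA.pg hne))
  have h4 := bg4_20a (sol_of_ne (pg_nn_ne_top hA.pg hA.ne_bot)) (odd_sub _)
    fun h => compl_rk hM hE (h.mono (h3.trans a2))
  have h5 : F (NN A) ≤ F E := ((le_inf le_rfl h3).trans (F_inf_le (cc_le_nn A))).trans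
    (F_le_F a2 (nn_cc a1))
  have h6 := bg10_7_der hS
  have h7 : S ≤ F (NN A) := h6.trans ((der_mono h2).trans h4)
  have h8 := nil_hall_eq (F_nil E) (hall_of_syl (hS.mono (h7.trans h5) le_top))
  have h9 : F E ≤ CC S := (nil_O_sup (F_nil E) {p}).ge.trans
    (sup_le (h8 ▸ ab_cc ha) (cc_symm (h8.le.trans (O_cc_O _ _))))
  refine ⟨h6, (der_mono h2).trans (h4.trans h5), h9, (cc_anti hAS).trans a2, le_antisymm ?_ h2,
    le_antisymm h5 (((le_inf le_rfl (h9.trans (cc_anti hAS))).trans (F_inf_le a2)).trans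
      (F_le_F (cc_le_nn A) (by nrm)))⟩
  conv_rhs => rw [nil_hall_eq (F_nil _) (hall_of_syl (hS.mono h7 le_top))]
  exact nn_O (nn_F (le_nn _))
/-- BG 12.8 -/
theorem bg12_8 [Fact p.Prime] (hM : IsCoatom M) (h : SC M E E1 E2 E3) (hp : p ∈ tau2 M)
    (hA : El p 2 A E) (hS : IsSyl p S ⊤) (hAS : A ≤ S) (ha : IsMulCommutative S) :
    (E ≤ NN E2 ∧ IsMulCommutative E2 ∧ Hall (tau2 M) E2 ⊤) ∧
      (S ≤ ⁅NN S, NN S⁆ ∧ ⁅NN S, NN S⁆ ≤ F E ∧ F E ≤ CC S ∧ CC S ≤ E) ∧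
      (NN A = NN S ∧ NN S = NN E2 ∧ NN E2 = NN (E3 ⊔ E2) ∧ NN (E3 ⊔ E2) = NN (F E)) ∧
      (∀ X ≤ E1, (#X).Prime → Sg M ⊓ CC X = ⊥ → X ≤ CC E) ∧
      ∀ X ≤ NN S, NN S ≤ NN (S ⊓ CC X) ∧ NN S ≤ NN ⁅S, X⁆ := by
  have hE := h.hE
  obtain ⟨a1, a2, a3, a4, a5, a6⟩ := bg12_8aux hM hE hp hA hS hAS ha
  have hab := fun q hq => @tau2_all_ab G _ _ _ M S p _ hM hp hS ha q hq
  have h1 : Hall (tau2 M) (O (tau2 M) (F E)) ⊤ := hall_of_syls le_top (O_pi _ _) fun q hq h2 _ => by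
    haveI := Fact.mk hq
    obtain ⟨B, hB⟩ := (tau2_rk h2).hall hE (tau2_ns h2)
    obtain ⟨T, b1, b2⟩ := exists_isSyl_ge hB.pg le_top
    obtain ⟨c1, c2, -⟩ := bg12_8aux hM hE h2 hB b1 b2 (hab q h2 T b1.pgroup)
    exact ⟨T, b1, nil_le_O (F_nil E) (c1.trans c2) (pi_of_pg b1.pgroup h2)⟩
  have h2 : O (tau2 M) (F E) = E2 := h.h2.eq_of_le ((O_le _ _).trans (F_le E)) (O_pi _ _)
    ((h1.mono ((O_le _ _).trans (F_le E)) le_top).le_of_normal (by nrm) h.h2.le h.h2.pi)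
  have h3 : E2 ≤ F E := h2 ▸ O_le _ _
  have h4 : IsMulCommutative E2 := nil_ab (nil_mono (F_nil E) h3) fun q hq hd =>
    haveI := Fact.mk hq; hab q (h.h2.pi q hq hd) _ (O_pg _)
  obtain ⟨-, b1, b2, -⟩ := bg12_1_tau3 hM hE h.h3
  have h5 : E3 ≤ F E := le_F h.h3.le b1 (nil_of_ab (ab_of_cyc b2))
  have h6 := nil_hall_eq (F_nil E) ((h.hall23 hM).mono (sup_le h5 h3) (F_le E))
  have h7 := nil_hall_eq (nil_mono (F_nil E) (sup_le h5 h3))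
    (h.h2.mono le_sup_right (sup_le h.h3.le h.h2.le))
  have h8 : S ≤ E2 := h2 ▸ nil_le_O (F_nil E) (a1.trans a2) (pi_of_pg hS.pgroup hp)
  have h9 := nil_hall_eq (nil_of_ab h4) (hall_of_syl (hS.mono h8 le_top))
  have c1 : NN A ≤ NN (F E) := a6 ▸ nn_F (le_nn _)
  have c2 : NN (F E) ≤ NN (E3 ⊔ E2) := h6 ▸ nn_O le_rfl
  have c3 : NN (E3 ⊔ E2) ≤ NN E2 := by conv_rhs => rw [h7]
                                       exact nn_O le_rfl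
  have c4 : NN E2 ≤ NN S := by conv_rhs => rw [h9]
                               exact nn_O le_rfl
  obtain ⟨d1, -, -, -, d2⟩ := bg12_6ab hM hE hp hA
  refine ⟨⟨h2 ▸ by nrm, h4, h2 ▸ h1⟩, ⟨a1, a2, a3, a4⟩, ⟨a5, by order, by order, by order⟩,
    fun X hX hq hc => ?_, fun X hX => nn_cc_comm le_rfl hX (a2.trans a3)⟩
  haveI := Fact.mk hq
  have e1 : E3 ≤ CC E2 := nil_cc (F_nil E) h5 h3 (h.h3.pi.coprime' h.h2.pi fun _ => tau3_not2)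
  have e2 : E3 ⊔ E2 ≤ CC (E3 ⊔ E2) := sup_le (le_cc_sup (ab_cc (ab_of_cyc b2)) e1)
    (le_cc_sup (cc_symm e1) (ab_cc h4))
  have e3 : F E ≤ CC (E3 ⊔ E2) := (nil_O_sup (F_nil E) (tau3 M ∪ tau2 M)).ge.trans
    (sup_le (h6 ▸ e2) (cc_symm (h6.le.trans (O_cc_O _ _))))
  have e4 := h.h1.pi _ hq (card_dvd hX)
  have e5 : X ≤ E := hX.trans h.h1.le
  have e6 : E3 ⊔ E2 ≤ E := sup_le h.h3.le h.h2.le
  obtain ⟨-, -, e7⟩ := bg10_11d hM (e6.trans hE.le) (hE.pi.mono e6) (tau1_ns e4) (e5.trans hE.le) rfl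
    (e5.trans (h.sup hM).2) hc ((h.hall23 hM).pi.not_dvd hq fun h => h.elim (tau1_not3 e4)
      (tau1_not2 e4)) (ab_iff.2 e2)
  have e8 : ⁅E3 ⊔ E2, X⁆ = ⊥ := by_contra fun h0 => d2 (a5.le.trans ((nn_cc_comm (by order)
    (e5.trans (d1.trans a5.le)) (a2.trans e3)).2.trans (max_nn' hM h0
      ((comm_le e6 e5).trans hE.le) e7).le))
  exact (h.sup hM).1 ▸ le_cc_sup (comm_eq_bot'.1 e8) (ab_le_cc (ab_of_cyc
    (bg12_1_tau1 hM (h.h1.le.trans hE.le) h.h1.pi)) hX le_rfl)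
/-- BG 12.9 -/
theorem bg12_9 [Fact p.Prime] (hM : IsCoatom M) (hE : Hall (sigma M)ᶜ E M) (hp : p ∈ tau2 M)
    (hA : El p 2 A E) (hq : q ∈ tau1 M) (hQ : Q ≤ E) (h1 : #Q = q) (h2 : Sg M ⊓ CC Q = ⊥)
    (h3 : ⁅A, Q⁆ ≠ ⊥) : (#(⁅A, Q⁆ : Subgroup G) = p ∧ A ⊓ CC (Sg M) = ⁅A, Q⁆ ∧ M ≤ NN ⁅A, Q⁆) ∧
      ¬ CJ (A ⊓ CC Q) ⁅A, Q⁆ ∧ #(A ⊓ CC Q : Subgroup G) = p ∧ ¬ CC (A ⊓ CC Q) ≤ M := by
  haveI := Fact.mk (tau1_prime hq)
  have hpp : p.Prime := Fact.out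
  obtain ⟨a1, -⟩ := bg12_6ab hM hE hp hA
  have hne : q ≠ p := fun e => tau1_not2 hq (e ▸ hp)
  have hQA : Q ≤ NN A := hQ.trans a1
  have hc : (#Q).Coprime #A := pg_coprime_pg (pg_of_card h1) hA.pg hne
  obtain ⟨b1, b2, b3⟩ := bg10_11d hM (hA.le.trans hE.le) (hE.pi.mono hA.le) (tau1_ns hq)
    (hQ.trans hE.le) h1 hQA h2 ((pi1_of_pg hA.pg).not_dvd Fact.out hne) hA.ab
  have h4 : ⁅A, Q⁆ ≤ A := comm_le_left hQA
  have h5 : #(⁅A, Q⁆ : Subgroup G) = p := ((hA.line_or h4).resolve_left h3).resolve_right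
    fun e => hA.not_cyc (e ▸ b2)
  have h6 := cop_ab_inf hA.ab hQA hc
  have h7 : #(A ⊓ CC Q : Subgroup G) = p := by
    have := card_sup_l (ab_nn hA.ab inf_le_left h4) (inf_comm _ ⁅A, Q⁆ ▸ h6)
    rw [cop_comm_sup hQA hc (sol_of_ab hA.ab), hA.card, h5, sq] at this
    exact (Nat.eq_of_mul_eq_mul_left hpp.pos this).symm
  have h8 : A ⊓ CC (Sg M) = ⁅A, Q⁆ := by
    have := le_inf h4 b1
    rcases hA.line_or (inf_le_left : A ⊓ CC (Sg M) ≤ A) with h | h | h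
    · exact absurd (le_bot_iff.1 (h ▸ this)) h3
    · exact (eq_of_card_le this (h.trans h5.symm).le).symm
    · exact absurd (eq_bot_of_le (bg12_5 hM hp (hA.mono hE.le)).2.1 le_rfl
        (cc_symm (h ▸ inf_le_right))) (Sg_ne_bot hM)
  refine ⟨⟨h5, h8, b3⟩, fun ⟨g, e⟩ => ?_, h7, ?_⟩
  · have h9 : CC ⁅A, Q⁆ ≤ M := (cc_le_nn _).trans (max_nn' hM h3 (h4.trans (hA.le.trans hE.le)) b3).le
    have h10 : cj g Q ≤ CC ⁅A, Q⁆ := e ▸ cc_cj (cc_symm inf_le_right) g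
    obtain ⟨k, hk, e'⟩ := line_cj (ne_two_of_dvd (tau1_dvd hq)) (tau1_rk hq) (hQ.trans hE.le) h1
      (h10.trans h9) ((card_cj g Q).trans h1)
    exact h3 (eq_bot_of_le h6 (le_inf h4 (cc_symm (e'.ge.trans (cj_le h10 (nn_cc b3 hk))))) le_rfl)
  · obtain ⟨S, hS, hAS⟩ := exists_isSyl_ge hA.pg le_top
    obtain ⟨E1, c1, c2⟩ := exists_hall_ge (sol_of_le hM hE.le) hQ (pi_of_card h1 Fact.out hq)
    obtain ⟨E2, E3, h⟩ := exists_SC1 hM hE c1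
    refine ((bg12_7 hM hE hp hA hS.pgroup fun ha => h3 (comm_eq_bot'.2 (((bg12_8 hM h hp hA hS hAS
      ha).2.2.2.1 Q c2 (h1 ▸ Fact.out) h2).trans (cc_anti hA.le)))).2.2.2.1 _
        (inf_le_left.trans hA.le) h7 fun e => h3 ?_).2
    exact eq_bot_of_le h6 (h8.symm.trans e.symm).le le_rfl
/-- BG 12.10(a) -/
theorem bg12_10a (hM : IsCoatom M) (hN : N ≤ M) (h : IsPi (sigma M)ᶜ N) (hn : Group.IsNilpotent N) :
    IsMulCommutative N := by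
  refine nil_ab hn fun q hq hd => ?_
  haveI := Fact.mk hq
  by_cases h1 : Rk q 2 M
  · exact tau2_pg_ab hM (mem_tau2_of hM (h q hq hd) h1) (O_pg N) ((O_le _ _).trans hN)
  · exact ab_of_cyc (pg_cyc (O_pg N) fun h2 => h1 (h2.mono ((O_le _ _).trans hN)))
/-- BG 12.10(b) -/
theorem bg12_10b (hM : IsCoatom M) (hE : Hall (sigma M)ᶜ E M) : IsMulCommutative (⁅E, E⁆ : Subgroup G) :=
  bg12_10a hM ((der_le E).trans hE.le) (hE.pi.mono (der_le E)) (bg12_1a hM hE)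
theorem bg12_10b' (hM : IsCoatom M) (h : E2 ≤ M) (h2 : IsPi (tau2 M) E2) : IsMulCommutative E2 := by
  rcases eq_or_ne E2 ⊥ with rfl | h0
  · exact ab_of_cyc cyc_bot
  obtain ⟨p, hp, hd⟩ := exists_prime_dvd h0
  haveI := Fact.mk hp
  have h3 := h2 p hp hd
  obtain ⟨E, hE, h4⟩ := exists_compl_ge hM h (h2.sub fun _ => tau2_ns)
  obtain ⟨A, hA⟩ := (tau2_rk h3).hall hE (tau2_ns h3)
  obtain ⟨S, hS, hAS⟩ := exists_isSyl_ge hA.pg le_top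
  by_cases ha : IsMulCommutative S
  · obtain ⟨K, hK, h5⟩ := exists_hall_ge (sol_of_le hM hE.le) h4 h2
    obtain ⟨E1, E3, h6⟩ := exists_SC2 hM hE hK
    exact ab_mono (bg12_8 hM h6 h3 hA hS hAS ha).1.2.1 h5
  · exact tau2_pg_ab hM h3 (pg_of_pi ((bg12_7 hM hE h3 hA hS.pgroup ha).1 ▸ h2)) h
/-- BG 12.10(c) -/
theorem bg12_10c [Fact p.Prime] (hM : IsCoatom M) (hE : Hall (sigma M)ᶜ E M) (hp : p ∈ tau2 M)
    (hA : El p 2 A E) : ⁅E, E⁆ ≤ CC A ∧ ∀ q : ℕ, q.Prime → q ∣ (CC A).relIndex E → q ∈ tau1 M := by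
  obtain ⟨a1, -⟩ := bg12_6ab hM hE hp hA
  have h1 : ⁅E, E⁆ ≤ CC A := nil_le_of_O (bg12_1a hM hE) fun q hq _ => by
    haveI := Fact.mk hq
    have h2 : O {q} ⁅E, E⁆ ≤ E := (O_le _ _).trans (der_le E)
    rcases eq_or_ne q p with rfl | hne
    · exact ab_le_cc (tau2_pg_ab hM hp (pg_sup_l hA.pg (O_pg _) (h2.trans a1))
        ((sup_le hA.le h2).trans hE.le)) le_sup_right le_sup_left
    · exact cc_of_inf_eq_bot (h2.trans a1) (nn_O (nn_comm (nn_of_le hA.le) (nn_of_le hA.le)))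
        (inf_of_coprime (pg_coprime_pg (O_pg _) hA.pg hne))
  refine ⟨h1, fun q hq hd => ?_⟩
  rcases compl_tau hM hE hq (hd.trans (relIndex_dvd _ _)) with h | h | h
  · exact h
  · obtain ⟨K, hK, h2⟩ := exists_hall_ge (sol_of_le hM hE.le) hA.le (pi_of_pg hA.pg hp)
    exact absurd (hd.trans (relIndex_dvd_of_le (ab_le_cc (bg12_10b' hM (hK.le.trans hE.le) hK.pi)
      le_rfl h2) E)) (hK.nd hq h)
  · obtain ⟨K, hK⟩ := exists_hall (sol_of_le hM hE.le) (tau3 M)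
    exact absurd (hd.trans (relIndex_dvd_of_le ((bg12_1_tau3 hM hE hK).1.trans h1) E)) (hK.nd hq h)
/-- BG 12.10(d) -/
theorem bg12_10d [Fact p.Prime] (hM : IsCoatom M) (hp : p ∈ sigma M) (hP : IsPGroup p P) (h : P ≤ M)
    (hc : ¬ IsCyclic P) : NN P ≤ M := by
  obtain ⟨A, hA⟩ := pg_rk2 hP hc
  exact (bg10_1c hM hp hP h).ge.trans (sup_le inf_le_left
    ((cc_anti hA.le).trans (bg12_4a hM (hA.mono h))))
/-- BG 12.10(e) -/
theorem bg12_10e (hM : IsCoatom M) (hx : x ∈ M) (h1 : x ≠ 1) (h2 : PiE (tau2 M) x)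
    (h3 : Sg M ⊓ C1 x ≠ ⊥) : UM (C1 x) M := by
  obtain ⟨K, hK, h4⟩ := exists_hall_ge (max_sol hM) (zpowers_le.2 hx) h2
  obtain ⟨p, hp, hd⟩ := exists_prime_dvd (ne_bot_of_mem (mem_zpowers x) h1)
  haveI := Fact.mk hp
  obtain ⟨A, hA⟩ := (tau2_rk (h2 p hp hd)).hall hK (h2 p hp hd)
  exact um_of_forall (C1_ne_top h1) fun L a b => by_contra fun c => h3 (inf_bot_mono
    ((bg12_5 hM (h2 p hp hd) (hA.mono hK.le)).2.2.1 L a (((ab_le_cc (bg12_10b' hM hK.le hK.pi)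
      hA.le h4).trans (cc_zpowers x).le).trans b) c) le_rfl b)
theorem sigma_of_nn_le [Fact p.Prime] (hH : IsCoatom H) (hB : El p 2 B H) (h : NN B ≤ H) :
    p ∈ sigma H := by_contra fun h1 => by
  obtain ⟨E, hE, h2⟩ := exists_compl_ge hH hB.le (pi_of_pg hB.pg h1)
  exact (bg12_6ab hH hE (mem_tau2_of hH h1 hB.rk) (hB.of_le h2)).2.2.2.2 h
theorem cc_of_le_der [Fact p.Prime] (hL : IsCoatom L) (hp : p ∉ beta L) (hA : IsPGroup p A)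
    (h1 : A ≤ L) (h2 : Q ≤ ⁅L, L⁆) (h3 : IsPi {p}ᶜ Q) (h4 : Q ≤ NN A) : Q ≤ CC A :=
  comm_eq_bot'.1 (eq_bot_of_le (pg_inf hA (O_pi {p}ᶜ ⁅L, L⁆) (by simp)) (comm_le_left h4)
    ((commutator_mono le_rfl ((bg10_8c hL hp).1.le_O h2 h3)).trans (comm_le_right
      (nn_O (nn_comm (nn_of_le h1) (nn_of_le h1))))))
/-- BG 12.11 -/
theorem bg12_11 [Fact p.Prime] (hM : IsCoatom M) (hE : Hall (sigma M)ᶜ E M) (hp : p ∈ tau2 M)
    (hA : El p 2 A E) (hH : IsCoatom H) (h : NN A ≤ H) :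
    (∀ q ∈ tau2 M, q ∈ sigma H ∧ q ∉ beta H) ∧
      (∀ q : ℕ, q.Prime → q ∣ (CC A).relIndex E → q ∈ tau1 H ∪ tau2 H) ∧
      ∀ q : ℕ, q.Prime → q ∣ (CC A).relIndex E → q ∣ #(E ⊓ CC A : Subgroup G) →
        q ∈ tau2 H ∧ (∃ P, IsSyl p P ⊤ ∧ H ≤ NN P) ∧
          ∃ Q, IsSyl q Q ⊤ ∧ Q ≤ H ∧ IsMulCommutative Q := by
  obtain ⟨a1, -⟩ := bg12_6ab hM hE hp hA
  have hAH : A ≤ H := (le_nn A).trans h
  have hEH : E ≤ H := a1.trans h
  have h1 : p ∈ sigma H := sigma_of_nn_le hH (hA.of_le hAH) h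
  have nb : ∀ q ∈ tau2 M, ∀ L : Subgroup G, q ∉ beta L := fun q hq L h =>
    tau2_not_ideal hM hq (mem_beta.1 h).2
  have key : ∀ q : ℕ, q.Prime → q ∣ (CC A).relIndex E → ∀ Q, IsSyl q Q E → ∀ L, IsCoatom L → A ≤ L →
      ¬ Q ≤ CC A ∧ ¬ Q ≤ ⁅L, L⁆ := fun q hq hd Q hQ L hL hAL => by
    haveI := Fact.mk hq
    have : ¬ Q ≤ CC A := fun h => hQ.not_dvd (hd.trans (relIndex_dvd_of_le h E))
    exact ⟨this, fun h => this (cc_of_le_der hL (nb p hp L) hA.pg hAL h ((pi1_of_pg hQ.pgroup).ne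
      fun (e : p = q) => tau1_not2 ((bg12_10c hM hE hp hA).2 q hq hd) (e ▸ hp)) (hQ.le.trans a1))⟩
  refine ⟨fun q hq => ⟨?_, nb q hq H⟩, fun q hq hd => ?_, fun q hq hd hd' => ?_⟩
  · obtain ⟨S, hS, hAS⟩ := exists_isSyl_ge hA.pg le_top
    by_cases ha : IsMulCommutative S
    · haveI := Fact.mk (tau2_prime hq)
      obtain ⟨B, hB⟩ := (tau2_rk hq).hall hE (tau2_ns hq)
      obtain ⟨T, hT, hBT⟩ := exists_isSyl_ge hB.pg le_top
      obtain ⟨E1, c1⟩ := exists_hall (sol_of_le hM hE.le) (tau1 M)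
      obtain ⟨E2, E3, c⟩ := exists_SC1 hM hE c1
      obtain ⟨-, -, ⟨d1, d2, -⟩, -⟩ := bg12_8 hM c hp hA hS hAS ha
      obtain ⟨-, -, ⟨d3, d4, -⟩, -⟩ := bg12_8 hM c hq hB hT hBT (tau2_all_ab hM hp hS ha q hq T hT.pgroup)
      exact sigma_of_nn_le hH (hB.mono hEH) (by order)
    · obtain rfl : q = p := by simpa [(bg12_7 hM hE hp hA hS.pgroup ha).1] using hq
      exact h1
  · haveI := Fact.mk hq
    obtain ⟨Q, hQ⟩ := exists_isSyl q E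
    have h2 := (key q hq hd Q hQ H hH hAH).2
    rcases tau_cases hH hq (hd.trans ((relIndex_dvd _ _).trans (card_dvd hEH))) with h | h | h | h
    · exact absurd ((pg_le_Sg hH h (hQ.le.trans hEH) hQ.pgroup).trans (Sg_le_der hH)) h2
    · exact .inl h
    · exact .inr h
    · exact absurd (pg_le_der_of_tau3 h hQ.pgroup (hQ.le.trans hEH)) h2
  haveI := Fact.mk hq
  obtain ⟨Q, hQ⟩ := exists_isSyl q E
  have h2 : IsCyclic Q := pg_cyc hQ.pgroup fun h => tau1_rk ((bg12_10c hM hE hp hA).2 q hq hd)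
    (h.mono (hQ.le.trans hE.le))
  obtain ⟨X, b1, b2⟩ := pg_exists_card (hQ.pgroup.to_le inf_le_left) (syl_ne_bot
    (hQ.inf_of_le_normalizer (inf_le_left : E ⊓ CC A ≤ E) (by nrm)) hd')
  obtain ⟨L, hL, b3⟩ := exists_max (line_nn_ne_top b2)
  have b4 : X ≤ Q := b1.trans inf_le_left
  have b5 : X ≤ CC A := b1.trans (inf_le_right.trans inf_le_right)
  have b6 : A ≤ L := (nn_of_cc (cc_symm b5)).trans b3
  have b7 : Q ≤ L := (cyc_nn h2 b4 (le_nn Q)).trans b3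
  obtain ⟨c1, c2⟩ := key q hq hd Q hQ L hL b6
  have c3 : q ∈ tau2 L := (bg12_2a hL (pg_of_card b2) b3).resolve_left fun h =>
    c2 ((pg_le_Sg hL h b7 hQ.pgroup).trans (Sg_le_der hL))
  have c4 : p ∈ sigma L := by_contra fun h => c1 (ab_le_cc (bg12_10b' hL (sup_le b6 b7)
    ((pi_of_pg hA.pg (mem_tau2_of hL h (hA.of_le b6).rk)).sup_l (pi_of_pg hQ.pgroup c3)
      (hQ.le.trans a1))) le_sup_right le_sup_left)
  obtain rfl : H = L := by_contra fun e => bg10_12b hL hH (bg12_2b hL hA.pg b6 hH h (.inl ⟨c4, e⟩))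
    (bg12_5a hL c3) p c4 h1
  refine ⟨c3, ⟨_, sigma_syl c4 (Sg_syl hH c4 (nil_syl (bg12_5a hH c3))), by nrm⟩, ?_⟩
  obtain ⟨K, hK, d1⟩ := exists_compl_ge hH b7 (pi_of_pg hQ.pgroup (tau2_ns c3))
  obtain ⟨B, hB⟩ := (tau2_rk c3).hall hK (tau2_ns c3)
  obtain ⟨T, hT, hBT⟩ := exists_isSyl_ge hB.pg le_top
  have ha : IsMulCommutative T := by_contra fun ha => by
    obtain ⟨-, -, -, d2, E0, d3, d4, -⟩ := bg12_7 hH hK c3 hB hT.pgroup ha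
    have d5 : X = B ⊓ CC (Sg H) := by_contra fun e => (d2 X (b4.trans d1) b2 e).2 ((cc_le_nn X).trans b3)
    have d6 : K ≤ NN X := d5 ▸ nn_inf (bg12_6ab hH hK c3 hB).1 (nn_cc (nn_Sg' hK.le))
    rw [← d5] at d3 d4
    have d7 : E0 ⊓ Q = ⊥ := by_contra fun e => prime_ne_bot (b2 ▸ hq) (eq_bot_of_le d4 le_rfl
      ((cyc_line_le h2 b4 b2 inf_le_right (hQ.pgroup.to_le inf_le_right) e).trans inf_le_left))
    have := dedekind b4 ((d3 ▸ le_sup_right : E0 ≤ K).trans d6)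
    rw [d3, d7, sup_bot_eq, inf_eq_right.2 d1] at this
    exact c1 (this.le.trans b5)
  exact ⟨T, hT, (ab_le_cc ha le_rfl hBT).trans (bg12_4a hH (hB.mono hK.le)), ha⟩
end

end Cfsg.Agent.MS
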