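import Cfsg.Agent.Lib.MS.Sec12

/-!
BG section 12, second part (12.12 to 12.19).
-/

set_option linter.unusedSectionVars false
set_option linter.unusedVariables false
set_option linter.style.haveILetI false
set_option linter.unusedSimpArgs false

namespace Cfsg.Agent.MS

open Subgroup Cfsg.Agent.Transfer

universe u
variable {G : Type u} [Group G] [Finite G]

section
variable [hG : MinS G] {A A0 B E E1 E2 E3 H K L M N P Q R S U V X Y : Subgroup G} {p q : ℕ} {g x : G}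
include hG

theorem bg12_12aux {π : Set ℕ} [Fact p.Prime] (hM : IsCoatom M) (hE : Hall (sigma M)ᶜ E M)
    (hp : p ∈ tau2 M) (hA : El p 2 A E) (hS : IsSyl p S ⊤) (hAS : A ≤ S) (ha : IsMulCommutative S)
    (hU : Hall π U E)
    (hr : ∀ X ≤ U, (#X).Prime → #X ∈ tau1 M ∪ tau3 M → Sg M ⊓ CC X = ⊥) :
    ∃ z ∈ S, U ≤ NN (zpowers z) ∧ Reg (Sg M) (zpowers z) ∧ ∀ x ∈ S, x ^ orderOf z = 1 := by
  have hpp : p.Prime := Fact.out
  obtain ⟨-, a2, a3, a4, a5, -⟩ := bg12_8aux hM hE hp hA hS hAS ha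
  obtain ⟨b1, -, -, -, b2⟩ := bg12_6ab hM hE hp hA
  have hSE : S ≤ E := (ab_cc ha).trans a4
  have hSM : S ≤ M := hSE.trans hE.le
  have hES : E ≤ NN S := b1.trans a5.le
  have b3 : omegaOne p S = A := (bg12_5b hM hp (hS.mono hSM le_top)).2.2 A (hA.of_le hAS)
  have inv : ∀ X ≤ S, #X = p → NN S ≤ NN X → Sg M ⊓ CC X = ⊥ := fun X a b c => by_contra fun d =>
    b2 (a5.le.trans (c.trans ((bg12_6c hM hp (a.trans hSM) b d).mono (cc_le_nn X)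
      (line_nn_ne_top b)).le))
  by_cases hc : U ≤ CC S
  · obtain ⟨W, c1, c2, c3, c4⟩ := exists_mho hS.pgroup ha fun e => hA.ne_bot (le_bot_iff.1 (e ▸ hAS))
    obtain ⟨X, d1, d2, d3⟩ : ∃ X ≤ W, #X = p ∧ Sg M ⊓ CC X = ⊥ := by
      rcases (hA.line_or (c1.trans b3.le)).resolve_left c2 with h | rfl
      · exact ⟨W, le_rfl, h, inv W (c1.trans (omega_le _ _)) h c3⟩
      · exact (bg12_5 hM hp (hA.mono hE.le)).2.2.2
    obtain ⟨z, e1, e2, e3⟩ := c4 X d1 d2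
    exact ⟨z, e1, nn_of_cc (hc.trans (cc_anti (zpowers_le.2 e1))), reg_of_line (cyc_zpowers z)
      (hS.pgroup.to_le (zpowers_le.2 e1)) e2 d2 d3, e3⟩
  obtain ⟨q, hq, hd, R, hR, c1⟩ : ∃ q : ℕ, q.Prime ∧ q ∣ #U ∧ ∃ R, IsSyl q R U ∧ ¬ R ≤ CC S := by
    by_contra! h
    exact hc (le_of_syl fun q a b => haveI := Fact.mk a
      (exists_isSyl q U).imp fun R c => ⟨c, h q a b R c⟩)
  haveI := Fact.mk hq
  have c2 : IsSyl q R E := hU.syl_trans hR (hU.pi q hq hd)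
  have hne : q ≠ p := by
    rintro rfl
    exact c1 (((hS.mono hSE le_top).le_of_normal' hES c2.pgroup c2.le).trans (ab_cc ha))
  have c3 : q ∣ (CC A).relIndex E := by_contra fun h => c1 (cop_omega hA.ne_two hS.pgroup
    (c2.le.trans hES) ((pi1_of_pg c2.pgroup).ne hne.symm) (b3 ▸ pg_le_of_not_dvd c2.pgroup c2.le
      (nn_cc b1) h))
  have c4 := (bg12_10c hM hE hp hA).2 q hq c3
  have c5 : IsCyclic R := pg_cyc c2.pgroup fun h => tau1_rk c4 (h.mono (c2.le.trans hE.le))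
  obtain ⟨Y, d1, d2⟩ := pg_exists_card hR.pgroup fun e => c1 (e ▸ bot_le)
  obtain ⟨E1, d3, d4⟩ := exists_hall_ge (sol_of_le hM hE.le) (d1.trans c2.le) (pi_of_card d2 hq c4)
  obtain ⟨E2, E3, d5⟩ := exists_SC1 hM hE d3
  have d6 := (bg12_8 hM d5 hp hA hS hAS ha).2.2.2.1 Y d4 (d2 ▸ hq)
    (hr Y (d1.trans hR.le) (d2 ▸ hq) (.inl (d2 ▸ c4)))
  obtain ⟨H, hH, d7⟩ := exists_max (pg_nn_ne_top hA.pg hA.ne_bot)
  obtain ⟨e1, ⟨P, e2, e3⟩, -⟩ := (bg12_11 hM hE hp hA hH d7).2.2 q hq c3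
    (d2 ▸ card_dvd (le_inf (d1.trans c2.le) (d6.trans (cc_anti hA.le))))
  have e4 : S ≤ H := hSE.trans (b1.trans d7)
  obtain rfl : P = S := hS.eq_of_le e2.pgroup le_top
    (e2.le_of_le_normalizer hS.pgroup le_top (e4.trans e3))
  obtain ⟨Q, hQ, e5⟩ := exists_isSyl_ge c2.pgroup (c2.le.trans (b1.trans d7))
  have e6 := tau2_pg_ab hH e1 hQ.pgroup hQ.le
  have e7 : Q ⊓ CC P ≤ R := c2.le_of_le_normalizer (hQ.pgroup.to_le inf_le_left)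
    (inf_le_right.trans a4) (ab_nn e6 inf_le_left e5)
  have e8 := pg_coprime_pg hQ.pgroup hS.pgroup hne
  obtain ⟨a, f1, f2, f3⟩ : ∃ a ∈ Q, a ∉ Q ⊓ CC P ∧ P ⊓ C1 a ≠ ⊥ := by
    by_contra! h
    refine hA.ne_bot (le_bot_iff.1 (hAS.trans (cop_gen_mod (hQ.le.trans e3) e8 inf_le_left inf_le_right
      ((ab_iff_der.1 e6).le.trans bot_le) (fun x hx h' => ?_) fun a b c => (h a b c).le)))
    obtain ⟨B, hB⟩ := (tau2_rk e1).syl hQ
    exact hB.not_cyc (cyc_mono c5 ((le_of_cyc_mod hQ.pgroup inf_le_left (ab_nn e6 le_rfl inf_le_left)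
      hx h' hB.le hB.elem.2 e5 fun h => c1 (h.trans inf_le_right)).trans (sup_le e7 le_rfl)))
  rw [← cc_zpowers] at f3
  have g1 : zpowers a ≤ NN P := (zpowers_le.2 f1).trans (hQ.le.trans e3)
  have g2 := coprime_mono e8 (zpowers_le.2 f1) le_rfl
  have g3 := cop_ab_inf ha g1 g2
  have g4 : ⁅P, zpowers a⁆ ≠ ⊥ := fun e => f2 ⟨f1, comm_eq_bot'.1 e (mem_zpowers a)⟩
  obtain ⟨g5, g6⟩ := nn_cc_comm le_rfl g1 (a2.trans a3)
  have cyc : ∀ K L : Subgroup G, K ≤ P → L ≤ P → K ⊓ L = ⊥ → L ≠ ⊥ → IsCyclic K := fun K L a b c d =>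
    pg_cyc (hS.pgroup.to_le a) fun ⟨B, hB⟩ => by
      obtain ⟨X, h1, h2⟩ := pg_exists_card (hS.pgroup.to_le b) d
      exact tau2_rk3 hp (((hB.mono a).sup (el_one (h1.trans b) h2) (ab_le_cc ha (hB.le.trans a)
        (h1.trans b)) (inf_bot_mono c hB.le h1)).mono hSM).rk
  have g7 := comm_le_left g1
  obtain ⟨z, h1, h2⟩ := exists_gen_of_sup hS.pgroup ha (cop_comm_sup g1 g2 (sol_of_ab ha))
    (cyc _ _ g7 inf_le_left (inf_comm _ ⁅P, zpowers a⁆ ▸ g3) f3) (cyc _ _ inf_le_left g7 g3 g4)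
  obtain ⟨h3, h4, h5⟩ : zpowers z ≤ P ∧ NN P ≤ NN (zpowers z) ∧ zpowers z ≠ ⊥ := by
    rcases h1 with h | h <;> rw [h]
    exacts [⟨g7, g6, g4⟩, ⟨inf_le_left, g5, f3⟩]
  obtain ⟨X, h6, h7⟩ := pg_exists_card (hS.pgroup.to_le h3) h5
  exact ⟨z, h3 (mem_zpowers z), hU.le.trans (hES.trans h4), reg_of_line (cyc_zpowers z)
    (hS.pgroup.to_le h3) h6 h7 (inv X (h6.trans h3) h7 (cyc_nn (cyc_zpowers z) h6 h4)), h2⟩
/-- BG 12.12, for a Hall `σ(M)'`-subgroup `U` (as in the Coq development) -/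
theorem bg12_12 {π : Set ℕ} (hM : IsCoatom M) (hU : Hall π U M) (hs : IsPi (sigma M)ᶜ U)
    (h2 : tau2 M ⊆ π) (h : ∀ e ∈ U, e ≠ 1 → PiE (tau1 M ∪ tau3 M) e → Sg M ⊓ C1 e = ⊥) :
    (∃ A0 ≤ U, U ≤ NN A0 ∧ IsMulCommutative A0 ∧ ∀ x ∈ Sg M, x ≠ 1 → U ⊓ C1 x ≤ A0) ∧
      ∃ E0 ≤ U, Monoid.exponent E0 = Monoid.exponent U ∧ Reg (Sg M) E0 := by
  obtain ⟨E, hE, hUE⟩ := exists_compl_ge hM hU.le hs
  have hr : ∀ X ≤ U, (#X).Prime → #X ∈ tau1 M ∪ tau3 M → Sg M ⊓ CC X = ⊥ := fun X a b c => by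
    obtain ⟨x, d, e⟩ := exists_ne_one (prime_ne_bot b)
    exact prime_cc b d e ▸ h x (a d) e ((pi_of_card rfl b c).piE d)
  have hC : ∀ x ∈ Sg M, x ≠ 1 → IsPi (tau2 M) (U ⊓ C1 x) := fun x a b q hq hd => by
    obtain ⟨X, c, d⟩ := exists_card_eq hq hd
    by_contra e
    exact ne_bot_of_mem (mem_inf.2 ⟨a, le_C1_iff.1 (c.trans inf_le_right)⟩) b (hr X (c.trans inf_le_left) (d ▸ hq)
      (d ▸ (compl_tau hM hE hq (d ▸ card_dvd (c.trans (inf_le_left.trans hUE)))).imp_right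
        (·.resolve_left e)))
  have hn : U ≤ NN (Sg M) := nn_Sg' hU.le
  by_cases ha : ∀ p ∈ tau2 M, ∀ P : Subgroup G, IsPGroup p P → IsMulCommutative P
  swap
  · push Not at ha
    obtain ⟨p, hp, P, hP, ha⟩ := ha
    haveI := Fact.mk (tau2_prime hp)
    obtain ⟨A, hA⟩ := (tau2_rk hp).hall hU (h2 hp)
    obtain ⟨-, a1, -, -, E0, a2, a3, a4⟩ := bg12_7 hM hE hp (hA.mono hUE) hP ha
    have b0 : E ≤ NN (A ⊓ CC (Sg M)) :=
      nn_inf (bg12_6ab hM hE hp (hA.mono hUE)).1 (nn_cc (nn_Sg' hE.le))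
    set A0 := A ⊓ CC (Sg M)
    have b1 : A0 ≤ U := inf_le_left.trans hA.le
    have b2 := dedekind b1 ((a2 ▸ le_sup_right : E0 ≤ E).trans b0)
    rw [a2, inf_eq_right.2 hUE] at b2
    have b3 : E0 ⊓ U ≤ NN A0 := inf_le_right.trans (hUE.trans b0)
    have b4 : ∀ x ∈ Sg M, x ≠ 1 → E0 ⊓ U ⊓ C1 x = ⊥ := fun x a b => eq_bot_of_le (inf_of_coprime
      ((a4 x a b).coprime' (hC x a b) fun _ => tau1_not2)) (inf_le_inf_right _ inf_le_left)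
      (inf_le_inf_right _ inf_le_right)
    refine ⟨⟨A0, b1, hUE.trans b0, ab_mono hA.ab inf_le_left, fun x a b => ?_⟩, E0 ⊓ U, inf_le_right,
      exp_eq inf_le_right fun x => pow_eq_one_of_syl fun q hq _ => ?_, Reg.symm b4⟩
    · conv_lhs => rw [b2]
      rw [dedekind (inf_le_right.trans (cc_le_C1 a)) b3, b4 x a b, sup_bot_eq]
    haveI := Fact.mk hq
    rcases eq_or_ne q p with rfl | hne
    · obtain ⟨S, c1, c2⟩ := exists_isSyl_ge hA.pg hA.le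
      have c3 := dedekind (inf_le_left.trans c2 : A0 ≤ S) b3
      rw [← b2, inf_eq_right.2 c1.le] at c3
      obtain ⟨X, c4, c5⟩ := pg_exists_card (c1.pgroup.to_le (inf_le_right : E0 ⊓ U ⊓ S ≤ S)) fun e => by
        rw [e, sup_bot_eq] at c3
        exact hA.not_cyc (cyc_mono (prime_cyc (a1 ▸ hq)) (c2.trans c3.le))
      obtain ⟨y, c6, c7⟩ := exists_ne_one (prime_ne_bot (c5 ▸ hq))
      obtain ⟨k, c8⟩ : q ∣ Monoid.exponent (E0 ⊓ U : Subgroup G) := by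
        rw [← c5, ← prime_eq_zpowers (c5 ▸ hq) c6 c7, Nat.card_zpowers]
        exact orderOf_dvd_of_pow_eq_one (pow_exp (c4 c6).1)
      refine ⟨S, c1, fun x hx => ?_⟩
      obtain ⟨a, d1, b, d2, rfl⟩ := (mem_sup_l (inf_le_left.trans b3)).1 (c3.le hx)
      rw [(comm_of_ab (tau2_pg_ab hM hp c1.pgroup (c1.le.trans hU.le)) (c2 d1.1) d2.2).mul_pow,
        pow_exp d2.1, c8, pow_mul, hA.elem.2 a d1.1, one_pow, one_mul]
    · obtain ⟨Q, hQ⟩ := exists_isSyl q (E0 ⊓ U)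
      refine ⟨Q, hQ.trans inf_le_right fun hd => hne ?_, fun x hx => pow_exp (hQ.le hx)⟩
      have c1 := Transfer.card_mul_relIndex (inf_le_right : E0 ⊓ U ≤ U)
      conv_rhs at c1 => rw [b2, card_sup_l b3 (inf_bot_mono a3 le_rfl inf_le_left), a1, mul_comm]
      rw [Nat.eq_of_mul_eq_mul_left (card_pos' _) c1] at hd
      exact (Nat.prime_dvd_prime_iff_eq hq Fact.out).1 hd
  have hsU := sol_of_le hM hU.le
  obtain ⟨E2, a1⟩ := exists_hall hsU (tau2 M)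
  have a2 : Hall (tau2 M) E2 E := a1.trans (hU.mono hUE hE.le) h2
  obtain ⟨E1, E3, a3⟩ := exists_SC2 hM hE a2
  have a4 : E ≤ NN E2 ∧ IsMulCommutative E2 := by
    rcases eq_or_ne E2 ⊥ with rfl | h0
    · exact ⟨nn_bot, ab_of_cyc cyc_bot⟩
    obtain ⟨p, hp, hd⟩ := exists_prime_dvd h0
    haveI := Fact.mk hp
    have h3 := a1.pi p hp hd
    obtain ⟨A, hA⟩ := (tau2_rk h3).hall hE (tau2_ns h3)
    obtain ⟨S, hS, hAS⟩ := exists_isSyl_ge hA.pg le_top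
    exact (bg12_8 hM a3 h3 hA hS hAS (ha p h3 S hS.pgroup)).1.imp_right (·.1)
  refine ⟨⟨E2, a1.le, hUE.trans a4.1, a4.2, fun x a b =>
    a1.le_of_normal (hUE.trans a4.1) inf_le_left (hC x a b)⟩, ?_⟩
  have key : ∀ T : Finset ℕ, (∀ p ∈ T, p ∈ tau2 M) → ∃ Z ≤ E2, IsPi T Z ∧ U ≤ NN Z ∧ Reg (Sg M) Z ∧
      ∀ p ∈ T, ∃ S, IsSyl p S U ∧ ∀ x ∈ S, x ^ Monoid.exponent Z = 1 := fun T => by
    induction T using Finset.induction with
    | empty => exact fun _ => ⟨⊥, bot_le, IsPi.bot, nn_bot, fun x a b => absurd a b, by simp⟩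
    | insert p T hp ih =>
      intro hT
      obtain ⟨Z, b1, b2, b3, b4, b5⟩ := ih fun q hq => hT q (Finset.mem_insert_of_mem hq)
      have h3 := hT p (Finset.mem_insert_self _ _)
      haveI := Fact.mk (tau2_prime h3)
      obtain ⟨A, hA⟩ := (tau2_rk h3).hall hE (tau2_ns h3)
      obtain ⟨S, hS, hAS⟩ := exists_isSyl_ge hA.pg le_top
      have c0 := ha p h3 S hS.pgroup
      have c1 : S ≤ E2 := a2.le_of_normal a4.1 ((ab_le_cc c0 le_rfl hAS).trans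
        (bg12_6ab hM hE h3 hA).2.2.1) (pi_of_pg hS.pgroup h3)
      obtain ⟨z, c2, c3, c4, c5⟩ := bg12_12aux hM hE h3 hA hS hAS c0 (hU.mono hUE hE.le) hr
      have c6 : zpowers z ≤ E2 := (zpowers_le.2 c2).trans c1
      have c7 := pi1_of_pg (hS.pgroup.to_le (zpowers_le.2 c2))
      have c8 : zpowers z ⊔ Z ≤ E2 := sup_le c6 b1
      refine ⟨zpowers z ⊔ Z, c8, (c7.sub (by simp)).sup_l (b2.sub (by simp)) (ab_nn a4.2 b1 c6),
        by nrm, reg_sup (sol_mono hsU (c8.trans a1.le)) c7 (b2.ne (by simpa using hp))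
          (ab_nn a4.2 b1 c6) (c8.trans (a1.le.trans hn)) c4 b4, fun q hq => ?_⟩
      rcases Finset.mem_insert.1 hq with rfl | hq
      · refine ⟨S, hS.mono (c1.trans a1.le) le_top, fun x hx => ?_⟩
        obtain ⟨k, e⟩ := orderOf_dvd_of_pow_eq_one (pow_exp (U := zpowers z ⊔ Z)
          (mem_sup_left (mem_zpowers z)))
        rw [e, pow_mul, c5 x hx, one_pow]
      · exact (b5 q hq).imp fun S h => ⟨h.1, fun x hx => pow_exp_mono le_sup_right (h.2 x hx)⟩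
  obtain ⟨Z, b1, -, b3, b4, b5⟩ := key (#E2).primeFactors fun p hp =>
    a1.pi p (Nat.prime_of_mem_primeFactors hp) (Nat.dvd_of_mem_primeFactors hp)
  obtain ⟨V, hV⟩ := exists_hall hsU (tau2 M)ᶜ
  have b6 : Z ⊔ V ≤ U := sup_le (b1.trans a1.le) hV.le
  refine ⟨Z ⊔ V, b6, exp_eq b6 fun x => pow_eq_one_of_syl fun q hq hd => ?_, reg_sup (sol_mono hsU b6)
    (a1.pi.mono b1) hV.pi (hV.le.trans b3) (b6.trans hn) b4 (reg_of_prime fun X a b => hr X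
      (a.trans hV.le) b ((compl_tau hM hE b (card_dvd (a.trans (hV.le.trans hUE)))).imp_right
        (·.resolve_left (hV.pi _ b (card_dvd a)))))⟩
  haveI := Fact.mk hq
  by_cases c : q ∈ tau2 M
  · exact (b5 q (Nat.mem_primeFactors.2 ⟨hq, a1.dvd hq c hd, card_ne_zero _⟩)).imp fun S h =>
      ⟨h.1, fun x hx => pow_exp_mono le_sup_left (h.2 x hx)⟩
  · obtain ⟨Q, hQ⟩ := exists_isSyl q V
    exact ⟨Q, hV.syl_trans hQ c, fun x hx => pow_exp (mem_sup_right (hQ.le hx))⟩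
/-- BG 12.13 -/
theorem bg12_13 [Fact p.Prime] (hP : IsPGroup p P) (ha : ¬ IsMulCommutative P) : UU P := by
  have hpp : p.Prime := Fact.out
  have h0 : ∀ P : Subgroup G, IsPGroup p P → ¬ IsMulCommutative P → ∀ M, IsCoatom M → P ≤ M →
      p ∈ sigma M ∧ NN P ≤ M := fun P a b M c d => by
    have : p ∈ sigma M := by_contra fun h => b (bg12_10a c d (pi_of_pg a h) (nil_of_pg a))
    exact ⟨this, bg12_10d c this a d (mt ab_of_cyc b)⟩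
  obtain ⟨S, hS, hPS⟩ := exists_isSyl_ge hP le_top
  have hSa : ¬ IsMulCommutative S := fun h => ha (ab_mono h hPS)
  suffices hu : UU S by
    induction hn : #S - #P using Nat.strong_induction_on generalizing P with
    | _ n ih =>
    rcases hPS.eq_or_lt with rfl | hlt
    · exact hu
    have h1 := nil_lt_nn (nil_of_pg hS.pgroup) hlt
    have h2 := card_le_of_le (inf_le_left : S ⊓ NN P ≤ S)
    have h3 : #P < #(S ⊓ NN P : Subgroup G) := lt_of_le_of_ne (card_le_of_le h1.le)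
      fun e => h1.ne (eq_of_card_le h1.le e.ge)
    obtain ⟨M, hM⟩ := ih _ (by omega) (hS.pgroup.to_le inf_le_left) (fun h => ha (ab_mono h h1.le))
      inf_le_left rfl
    exact ⟨M, hM.max, h1.le.trans hM.le, fun L a b =>
      hM.uniq L a (inf_le_right.trans (h0 P hP ha L a b).2)⟩
  by_contra hu
  have hr : ¬ Rk p 3 S := fun h => hu (uu_of_rk3 (pg_ne_top hS.pgroup) h.rkA)
  obtain ⟨Q, C, a1, a2, a3, a4, a5, -, -⟩ := bg10_7b hS hr hSa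
  have hQ : Q ≤ S := a1 ▸ le_sup_left
  obtain ⟨A, hA⟩ := pg_rk2 hS.pgroup (mt ab_of_cyc hSa)
  have hm : MaxEl p A ⊤ := (hA.mono le_top).maxEl fun h => hr (h.syl hS)
  obtain ⟨b1, b2, -, b3⟩ := bg10_13 hA hm hS.pgroup hSa
  set Z := omegaOne p (S ⊓ CC S)
  have b4 : Z ≤ CC S := (omega_le _ _).trans inf_le_right
  have b5 : ⁅Q, Q⁆ ≤ Z := fun x hx => mem_omega ⟨hQ (der_le Q hx), a1 ▸ le_cc_sup (p3_der_le a4)
    ((der_le Q).trans a2) hx⟩ (a5 x (der_le Q hx))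
  have b6 : Z = ⁅Q, Q⁆ := (prime_eq_of_le (b2 ▸ hpp) b5 (mt ab_iff_der.2 a3)).symm
  have b7 : Z ≤ Q := b6 ▸ der_le Q
  have key : ∀ M L, IsCoatom M → IsCoatom L → S ≤ M → S ≤ L → L ≠ M →
      ∃ X ≤ A, #X = p ∧ X ≠ Z ∧ UM (NN X) M := fun M L hM hL c1 c2 hne => by
    obtain ⟨d1, d2⟩ := h0 S hS.pgroup hSa M hM c1
    obtain ⟨d3, d4⟩ := bg10_9b hM hL hne hS (h0 S hS.pgroup hSa L hL c2).2 d2
    have d5 : p ∉ beta M := fun h => hr ((alpha_iff.1 (beta_sub_alpha M h)).syl (hS.mono c1 le_top))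
    have d6 := (Be_pi M).ne d5
    have hn : S ≤ NN (Be M) := nn_Be' c1
    have d7 : Be M ⊓ CC Z ≤ L := cop_gen_mod (nn_inf (hQ.trans hn) (nn_cc (nn_of_cc (cc_symm
      (b4.trans (cc_anti hQ)))))) ((pi1_of_pg (hS.pgroup.to_le hQ)).coprime (d6.mono inf_le_left)) b7
      (cc_symm inf_le_right) b5 (fun x hx h => a3 (ab_mono (ab_iff.2 (sup_le (le_cc_sup
        (b4.trans (cc_anti (b7.trans hQ))) (b4.trans (cc_anti ((zpowers_le.2 hx).trans hQ))))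
        (le_cc_sup (cc_symm (b4.trans (cc_anti ((zpowers_le.2 hx).trans hQ))))
          (ab_cc (ab_of_cyc (cyc_zpowers x)))))) h)) fun a ha h => by
      have e1 : #(zpowers a) = p := (Nat.card_zpowers a).trans
        (orderOf_eq_prime (a5 a ha) fun e => h (e ▸ one_mem _))
      have e2 := (el_one (b7.trans hQ) b2).sup (el_one ((zpowers_le.2 ha).trans hQ) e1)
        (b4.trans (cc_anti ((zpowers_le.2 ha).trans hQ)))
        (inf_comm Z _ ▸ prime_inf (e1 ▸ hpp) (mt zpowers_le.1 h))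
      refine le_trans ?_ (bg12_4a hL (e2.mono c2))
      rw [cc_sup, cc_zpowers]; exact inf_le_inf_right _ inf_le_right
    have d8 := bg6_5b (sol_of_le hM (Be_le M)) (nn_Be' inf_le_right)
      (le_inf (b7.trans (hQ.trans c2)) (b7.trans (hQ.trans c1)))
      ((pi1_of_pg (pg_of_card b2)).coprime d6)
    rw [d3] at d8
    by_contra! h
    refine hne (max_eq' hM hL ?_)
    have d9 : Al M = ⊥ := (bg12_4b hM (hA.mono c1) fun X a b c => h X a b (fun e => hne (c.uniq L hL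
      ((le_inf c.le le_rfl).trans (e ▸ d8.le.trans (sup_le d7 (inf_le_left.trans inf_le_left))))))
      c).2.1
    exact d3.ge.trans (sup_le ((Be_le_Al M).trans (d9.le.trans bot_le)) inf_le_left)
  obtain ⟨M, hM, c1⟩ := exists_max (pg_ne_top hS.pgroup)
  obtain ⟨L, hL, c2, hne⟩ := exists_max_ne (fun h => hu h.uu) hM c1
  obtain ⟨X, d1, d2, d3, d4⟩ := key M L hM hL c1 c2 hne
  obtain ⟨Y, e1, e2, e3, e4⟩ := key L M hL hM c2 c1 hne.symm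
  obtain ⟨k, hk, rfl⟩ := b3 X d1 Y e1 d2 e2 d3 e3
  have := d4.cj k
  rw [cj_normalizer, cj_nn (nn_of_le c1 hk.1)] at this
  exact hne (this.eq e4)
/-- BG 12.14 -/
theorem bg12_14 [Fact p.Prime] (hM : IsCoatom M) (hX : X ≤ M) (h1 : #X = p)
    (h : p ∈ beta M ∨ X ≤ ⁅Sg M, Sg M⁆) : UM (CC X) M ∧ ∀ P, IsSyl p P (Sg M) → UM P M := by
  have hpp : p.Prime := Fact.out
  have h2 : p ∈ sigma M := h.elim (beta_sub_sigma hM ·) fun h =>
    Sg_pi M p hpp (h1 ▸ card_dvd (h.trans (der_le _)))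
  obtain ⟨P, hP, hXP⟩ := exists_isSyl_ge (pg_of_card h1) (pg_le_Sg hM h2 hX (pg_of_card h1))
  have hPM := hP.le.trans (Sg_le M)
  have h3 : CC X ≠ ⊤ := cc_ne_top (prime_ne_bot (h1 ▸ hpp))
  suffices UU (P ⊓ CC X) by
    have h4 := this.um hM (inf_le_left.trans hPM)
    refine ⟨h4.mono inf_le_right h3, fun R hR => ?_⟩
    obtain ⟨g, hg, rfl⟩ := hR.exists_cj_eq hP
    have := (h4.mono' inf_le_left hPM).cj g
    rwa [cj_nn (nn_of_le (Sg_le M) hg)] at this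
  by_contra hu
  have h4 : ¬ Rk p 3 (P ⊓ CC X) := fun h => hu (uu_of_rk3 (ne_top_of_le h3 inf_le_right) h.rkA)
  have h5 := bg5_3c (ne_two_of_dvd (sigma_dvd h2)) hP.pgroup hXP h1 h4
  have h6 := sigma_syl h2 (Sg_syl hM h2 hP)
  have h7 : p ∉ beta M := fun h => (ideal_iff.1 (mem_beta.1 h).2).2 P h6 h5
  have h8 := ((bg10_8c hM h7).1.mono (Sg_le_der hM)).sup hP
  have h9 := bg6_5a (sol_of_le hM ((O_le {p}ᶜ _).trans (Sg_le M))) (nn_O (nn_of_le hP.le)) hXP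
    ((pi1_of_pg (pg_of_card h1)).coprime (O_pi _ _))
  rw [h8, inf_eq_left.2 (h.resolve_left h7)] at h9
  have h10 : X ≤ ⁅P, P⁆ := h9.le.trans inf_le_right
  have h0 := prime_ne_bot (h1 ▸ hpp : (#X).Prime)
  have h11 : ¬ IsMulCommutative P := fun h => h0 (le_bot_iff.1 (ab_iff_der.1 h ▸ h10))
  by_cases h12 : Rk p 3 P
  · exact h0 (h9.trans (line_inf_der (ne_two_of_dvd (sigma_dvd h2)) hP.pgroup h12 hXP h1 h4))
  obtain ⟨Q, C, a1, a2, -, a3, -, a4, -⟩ := bg10_7b h6 h12 h11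
  have a5 : ⁅P, P⁆ ≤ CC P := by
    have : ⁅Q, Q⁆ ≤ CC P := a1 ▸ le_cc_sup (p3_der_le a3) ((der_le Q).trans a2)
    have b1 : Q ≤ NN (CC P) := nn_cc (nn_of_le (a1 ▸ le_sup_left))
    have b2 : C ≤ NN (CC P) := nn_cc (nn_of_le (a1 ▸ le_sup_right))
    conv_lhs => rw [← a1]
    exact comm_sup_l b1 b2 (comm_sup_r b1 b2 this ((comm_eq_bot.2 a2).le.trans bot_le))
      (comm_sup_r b1 b2 ((comm_eq_bot'.2 a2).le.trans bot_le)
        ((ab_iff_der.1 (ab_of_cyc a4)).le.trans bot_le))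
  exact hu ((inf_eq_left.2 (cc_symm (h10.trans a5))).symm ▸ bg12_13 hP.pgroup h11)
omit hG in
theorem syl_of_sup [Fact p.Prime] (h : K ⊔ U = H) (h1 : U ≤ NN K) (h2 : IsPi {p}ᶜ K) (hP : IsSyl p P U) :
    IsSyl p P H := hP.trans (h ▸ le_sup_right) fun hd => pi_compl_iff.1 h2 (hd.trans (by
  rw [← h]; exact relIndex_sup_dvd h1))
/-- BG 12.15 -/
theorem bg12_15 [Fact q.Prime] (hM : IsCoatom M) (hq : q ∈ sigma M) (hX : X ≤ M) (h1 : IsPGroup q X)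
    (h0 : X ≠ ⊥) (hH : IsCoatom H) (h2 : NN X ≤ H) (hne : H ≠ M) (hS : IsSyl q S (M ⊓ H)) (h3 : X ≤ S) :
    ¬ CJ M H ∧ NN S ≤ M ∧ IsSyl q S H ∧
      (q ∈ sigma H → Be H ⊔ (M ⊓ H) = H ∧ tau1 H ⊆ tau1 M ∪ alpha M ∧ Be M = Al M ∧ Al M ≠ ⊥) ∧
      (q ∉ sigma H → q ∈ tau2 H ∧ (∀ r ∈ sigma H, r ∣ #M → r ∈ beta H) ∧
        Hall (sigma H)ᶜ (M ⊓ H) H) := by
  have hqq : q.Prime := Fact.out
  have h4 := bg12_2b hM h1 hX hH h2 (.inl ⟨hq, hne⟩)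
  have hSM : S ≤ M := hS.le.trans inf_le_left
  have hSH : S ≤ H := hS.le.trans inf_le_right
  have h5 : NN S ≤ M := by
    by_cases hc : IsCyclic S
    · exact sigma_nn hq (syl_of_nn hSM (hS.mono (le_inf hSM (le_nn S))
        (inf_le_inf_left _ ((cyc_nn hc h3 le_rfl).trans h2))))
    · exact bg12_10d hM hq hS.pgroup hSM hc
  have h6 : IsSyl q S H := syl_of_nn hSH (hS.mono (le_inf hSH (le_nn S))
    (le_inf (inf_le_right.trans h5) inf_le_left))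
  refine ⟨h4, h5, h6, fun h7 => ?_, fun h7 => ?_⟩
  · obtain ⟨a1, a2⟩ := bg10_9b hM hH hne (sigma_syl h7 h6) (sigma_nn h7 h6) h5
    obtain ⟨a3, -⟩ := bg10_9b hH hM hne.symm (sigma_syl h7 h6) h5 (sigma_nn h7 h6)
    have a4 : Be M = Al M := by rw [Al_eq, a2]
    refine ⟨a3, fun r hr => or_iff_not_imp_right.2 fun a5 => ?_, a4, fun e => hne (max_eq' hM hH ?_)⟩
    swap
    · rw [← a1, a4, e, bot_sup_eq]; exact inf_le_left
    haveI := Fact.mk (tau1_prime hr)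
    obtain ⟨R, hR⟩ := exists_isSyl r (M ⊓ H)
    have b1 : IsSyl r R H := syl_of_sup a3 (nn_Be' inf_le_right)
      ((Be_pi H).ne fun h => tau1_ns hr (beta_sub_sigma hH h)) hR
    have b0 := (Be_pi M).ne (a2 ▸ a5)
    have b2 : IsSyl r R M := syl_of_sup (inf_comm H M ▸ a1) (nn_Be' inf_le_left) b0 hR
    have b3 := bg6_5a (sol_of_le hM (Be_le M)) (nn_Be' (inf_le_left : M ⊓ H ≤ M)) hR.le
      ((pi1_of_pg hR.pgroup).coprime b0)
    rw [inf_comm M H, a1] at b3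
    have b4 : ¬ r ∣ #(⁅M, M⁆ : Subgroup G) := (b2.inf_of_le_normalizer (der_le M) (by nrm)).eq_bot_iff.1
      (b3.trans (inf_bot_mono (tau1_inf_der (pi_of_pg hR.pgroup hr)) le_rfl (der_mono inf_le_left)))
    exact mem_tau1.2 ⟨Fact.out, fun h => b4 ((dvd_Sg hM h).trans (card_dvd (Sg_le_der hM))),
      (pg_dvd hR.pgroup (syl_ne_bot b1 (tau1_dvd hr))).trans (card_dvd b2.le), b4,
      fun h => tau1_rk hr ((h.syl b2).mono b1.le)⟩
  have a1 := (bg12_2a hH h1 h2).resolve_left h7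
  obtain ⟨E, hE, a2⟩ := exists_compl_ge hH hSH (pi_of_pg hS.pgroup h7)
  obtain ⟨A, hA⟩ := (tau2_rk a1).syl h6
  have hAM := hA.le.trans hSM
  obtain ⟨a3, -, a4, -⟩ := bg12_6ab hH hE a1 (hA.mono a2)
  obtain ⟨-, a5, a6, -⟩ := bg12_5 hH a1 (hA.mono hSH)
  have a7 : E ≤ M := a3.trans (bg12_10d hM hq hA.pg hAM hA.not_cyc)
  have a8 := dedekind' a7 (nn_Sg' hE.le)
  rw [sup_comm, Sg_sup hH hE, a6 M hM hAM hne.symm, sup_bot_eq, inf_comm] at a8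
  refine ⟨a1, fun r hr hd => by_contra fun b1 => ?_, a8 ▸ hE⟩
  haveI := Fact.mk (sigma_prime hr)
  have b2 : r ∉ sigma M := fun h => bg12_6f hH a1 hM (h4 ·.symm) r hr h
  have b3 : ∀ L : Subgroup G, q ∉ beta L := fun L h => tau2_not_ideal hH a1 (mem_beta.1 h).2
  have b4 : r ≠ q := fun e => h7 (e ▸ hr)
  have b5 : ¬ r < q := fun h => by
    obtain ⟨-, ⟨P, c1, c2⟩, -⟩ := bg10_9a hH b1 (b3 H) hA.pg (.inr ⟨h, hA.le.trans hSH⟩)
    exact syl_ne_bot c1 (dvd_Sg hH hr) (eq_bot_of_le a5 c1.le (cc_symm c2))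
  have b6 : ¬ r ∣ #(CC A) := fun h => hE.pi r Fact.out (h.trans (card_dvd a4)) hr
  obtain ⟨⟨P, c1, c2⟩, -⟩ := bg10_9a hM (fun h => b2 (beta_sub_sigma hM h)) (b3 M) hA.pg
    (.inl ⟨b4, (pg_le_Sg hM hq hAM hA.pg).trans (Sg_le_der hM)⟩)
  have b7 : ¬ r ∣ #(⁅M, M⁆ : Subgroup G) := fun h =>
    b6 ((pg_dvd c1.pgroup (syl_ne_bot c1 h)).trans (card_dvd (cc_symm c2)))
  have b8 : A ≤ NN (O {q}ᶜ M) := nn_O (nn_of_le hAM)
  rcases dvd_card_or Fact.out (O_le {q}ᶜ M) hd with h | h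
  · rw [← cop_comm_sup b8 ((pi1_of_pg hA.pg).coprime (O_pi _ _)) (sol_of_le hM (O_le _ _))] at h
    exact (dvd_sup_l Fact.out (inf_le_left.trans (left_nn_comm _ _)) h).elim
      (fun h => b7 (h.trans (card_dvd (commutator_mono (O_le _ _) hAM))))
      fun h => b6 (h.trans (card_dvd inf_le_right))
  · exact b5 (lt_of_le_of_ne ((bg10_8c hM (b3 M)).2 r Fact.out h) b4)
omit hG in
theorem exists_O_ne_bot (hs : Group.IsSolvable Y) (h : Y ≠ ⊥) : ∃ q : ℕ, q.Prime ∧ O {q} Y ≠ ⊥ := by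
  by_contra! h1
  exact F_ne_bot hs h (le_bot_iff.1 (F_le_of_O fun q hq _ => (h1 q hq).le))
theorem bg12_16aux [Fact q.Prime] (hM : IsCoatom M) (hq : q ∈ sigma M) (hX : X ≤ M) (h1 : IsPGroup q X)
    (h0 : X ≠ ⊥) (hH : IsCoatom H) (h2 : NN X ≤ H) : ∃ (π : Set ℕ) (L : Subgroup G), sigma M ⊆ πᶜ ∧
      (∀ p : ℕ, p ∣ #M → ¬ IsIdealPrime p G → p ∉ π) ∧ (IsPi π L ∧ H ≤ NN L ∧ L ⊔ (M ⊓ H) = H) ∧
      ∀ K ≤ H, IsPi πᶜ K → ∃ g ∈ H, cj g K ≤ M := by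
  have key : ∀ (π : Set ℕ) (L : Subgroup G), IsPi π L → H ≤ NN L → L ⊔ (M ⊓ H) = H →
      ∀ K ≤ H, IsPi πᶜ K → ∃ g ∈ H, cj g K ≤ M := fun π L a b c K d e => by
    obtain ⟨V, hV⟩ := exists_hall (sol_of_le hH (inf_le_right : M ⊓ H ≤ H)) πᶜ
    exact (Hall.exists_cj_le (max_sol hH) (hall_of_sup c (inf_le_right.trans b) a hV) d e).imp
      fun g h => ⟨h.1, h.2.trans (hV.le.trans inf_le_left)⟩
  rcases eq_or_ne H M with rfl | hne
  · exact ⟨∅, ⊥, by simp, by simp, ⟨IsPi.bot, nn_bot, by simp⟩, fun K a _ => ⟨1, one_mem _, (cj_one K).le.trans a⟩⟩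
  obtain ⟨S, hS, h3⟩ := exists_isSyl_ge h1 (le_inf hX ((le_nn X).trans h2))
  obtain ⟨a1, -, -, a2, a3⟩ := bg12_15 hM hq hX h1 h0 hH h2 hne hS h3
  by_cases h4 : q ∈ sigma H
  · exact ⟨beta H, Be H, fun r a b => bg10_12a hH hM (a1 ·.symm) r (beta_sub_alpha H b) a,
      fun r _ a b => a (mem_beta.1 b).2, ⟨Be_pi H, by nrm, (a2 h4).1⟩, key _ _ (Be_pi H) (by nrm) (a2 h4).1⟩
  · obtain ⟨b1, b2, b3⟩ := a3 h4
    exact ⟨sigma H, Sg H, fun r a b => bg12_6f hH b1 hM (a1 ·.symm) r b a,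
      fun r a b c => b (mem_beta.1 (b2 r c a)).2, ⟨Sg_pi H, by nrm, Sg_sup hH b3⟩,
      key _ _ (Sg_pi H) (by nrm) (Sg_sup hH b3)⟩
/-- BG 12.16, first part -/
theorem bg12_16 (hM : IsCoatom M) (hY : IsPi (sigma M) Y) : ∃ g, cj g Y ≤ Sg M := by
  rcases eq_or_ne Y ⊥ with rfl | h0
  · exact ⟨1, (cj_one _).le.trans bot_le⟩
  have h1 : Y ≠ ⊤ := by
    rintro rfl
    exact hM.1 (eq_top_iff.2 (((Sg_hall_top hM).eq_self hY).ge.trans (Sg_le M)))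
  obtain ⟨q, hq, h2⟩ := exists_O_ne_bot (sol_of_ne h1) h0
  haveI := Fact.mk hq
  have h3 : q ∈ sigma M := pg_mem_pi (O_pg Y) h2 (hY.mono (O_le _ _))
  obtain ⟨P, hP⟩ := exists_isSyl q M
  obtain ⟨g, -, e⟩ := (sigma_syl h3 hP).exists_cj_le (O_pg Y) le_top
  rw [cj_O] at e
  have h4 : O {q} (cj g Y) ≠ ⊥ := cj_O g {q} Y ▸ mt cj_eq_bot_iff.1 h2
  obtain ⟨H, hH, h5⟩ := exists_max (pg_nn_ne_top (O_pg _) h4)
  obtain ⟨π, L, a1, -, -, a2⟩ := bg12_16aux hM h3 (e.trans hP.le) (O_pg _) h4 hH h5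
  obtain ⟨k, -, e'⟩ := a2 _ ((nn_O (le_nn _)).trans h5) ((hY.cj g).sub a1)
  exact ⟨k * g, cj_cj k g Y ▸ le_Sg hM e' ((hY.cj g).cj k)⟩
/-- BG 12.16(a), (b) -/
theorem bg12_16ab [Fact p.Prime] (hM : IsCoatom M) (hY : Y ≤ Sg M) (h0 : Y ≠ ⊥) (hp : p ∉ sigma M)
    (hd : p ∣ #M) (hb : ¬ IsIdealPrime p G) (hH : IsCoatom H) (h1 : Y ≤ H) (h2 : ¬ CJ M H) :
    ¬ Rk p 2 (H ⊓ NN Y) ∧ (p ∈ tau1 M → ¬ p ∣ #(⁅H ⊓ NN Y, H ⊓ NN Y⁆ : Subgroup G)) := by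
  have hpp : p.Prime := Fact.out
  have hYM := hY.trans (Sg_le M)
  obtain ⟨q, hq, h3⟩ := exists_O_ne_bot (sol_of_le hM hYM) h0
  haveI := Fact.mk hq
  have h4 := (Sg_pi M).mono hY
  obtain ⟨L, hL, h5⟩ := exists_max (pg_nn_ne_top (O_pg Y) h3)
  obtain ⟨π, K, a1, a2, ⟨a3, a4, a5⟩, a6⟩ := bg12_16aux hM (pg_mem_pi (O_pg Y) h3 (h4.mono (O_le _ _)))
    ((O_le _ _).trans hYM) (O_pg Y) h3 hL h5
  have h6 : NN Y ≤ L := (nn_O le_rfl).trans h5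
  refine ⟨fun ⟨A, hA⟩ => ?_, fun ht h => ?_⟩
  · have b1 : A ≤ NN Y := hA.le.trans inf_le_right
    obtain ⟨g, -, e⟩ := a6 (Y ⊔ A) (sup_le ((le_nn Y).trans h6) (b1.trans h6))
      ((h4.sub a1).sup_l (pi_of_pg hA.pg (a2 p hd hb)) b1)
    rw [cj_sup, sup_le_iff] at e
    have b2 := (hA.cj g).of_le e.2
    exact h0 (cj_eq_bot_iff.1 (eq_bot_of_le ((bg12_5 hM (mem_tau2_of hM hp b2.rk) b2).2.2.1 _
      (max_cj hH g) (cj_mono g (hA.le.trans inf_le_left)) fun e => h2 (CJ.symm ⟨g, e⟩))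
      (le_Sg hM e.1 (h4.cj g)) (cj_mono g h1)))
  · replace h := h.trans (card_dvd (der_mono (inf_le_right.trans h6)))
    have b1 := der_sup_le (inf_le_right.trans a4 : M ⊓ L ≤ NN K)
    rw [a5] at b1
    exact (dvd_sup_l hpp ((der_le _).trans (inf_le_right.trans a4)) (h.trans (card_dvd b1))).elim
      (a3.not_dvd hpp (a2 p hd hb)) fun h => tau1_nd ht (h.trans (card_dvd (der_mono inf_le_left)))
/-- BG 12.17 -/
theorem bg12_17a (hM : IsCoatom M) (hE : Hall (sigma M)ᶜ E M) :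
    Sg M ⊓ CC E ≤ ⁅Sg M, Sg M⁆ ∧ ⁅Sg M, E⁆ = Sg M := by
  have h1 := bg6_3a (sol_of_le hM (Sg_le M)) (nn_Sg' hE.le) (Sg_coprime hE.pi).symm
    (by rw [Sg_sup hM hE]; exact Sg_le_der hM)
  exact ⟨cop_cc_le_der (nn_Sg' hE.le) (Sg_coprime hE.pi) h1, h1⟩
theorem bg12_17b (hM : IsCoatom M) (hg : g ∉ M) : IsCyclic (Sg M ⊓ cj g M : Subgroup G) ∧
    IsPi (beta M)ᶜ (Sg M ⊓ cj g M) ∧ Sg M ⊓ cj g M ⊓ ⁅Sg M, Sg M⁆ = ⊥ := by
  have key : ∀ p : ℕ, p.Prime → ∀ X ≤ Sg M ⊓ cj g M, IsPGroup p X → X ≠ ⊥ → ¬ CC X ≤ M :=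
      fun p hp X a b c d => by
    haveI := Fact.mk hp
    obtain ⟨k, hk, e⟩ := bg10_1b hM (pg_mem_pi b c ((Sg_pi M).mono (a.trans inf_le_left))) b
      (a.trans (inf_le_left.trans (Sg_le M))) (a.trans inf_le_right)
    exact cj_max_ne hM hg (e.symm.trans (cj_nn (le_nn M (d hk))))
  have key2 : ∀ X ≤ Sg M ⊓ cj g M, (#X).Prime → ¬ (#X ∈ beta M ∨ X ≤ ⁅Sg M, Sg M⁆) := fun X a b c =>
    haveI := Fact.mk b
    key _ b X a (pg_of_card rfl) (prime_ne_bot b)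
      (bg12_14 hM (a.trans (inf_le_left.trans (Sg_le M))) rfl c).1.le
  have h1 : Sg M ⊓ cj g M ⊓ ⁅Sg M, Sg M⁆ = ⊥ := by_contra fun h => by
    obtain ⟨X, a, b⟩ := exists_prime_sub h
    exact key2 X (a.trans inf_le_left) b (.inr (a.trans inf_le_right))
  refine ⟨ab_cyc (ab_iff_der.2 (eq_bot_of_le h1 (der_le _) (der_mono inf_le_left))) fun ⟨p, hp, A, hA⟩ =>
    haveI := Fact.mk hp
    key p hp A hA.le hA.pg hA.ne_bot (bg12_4a hM (hA.mono (inf_le_left.trans (Sg_le M)))),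
    fun p hp hd h => ?_, h1⟩
  obtain ⟨X, a, rfl⟩ := exists_card_eq hp hd
  exact key2 X a hp (.inl h)
/-- BG 12.18(a) -/
theorem bg12_18a [Fact p.Prime] [Fact q.Prime] (hM : IsCoatom M) (hp : p ∈ tau1 M) (hq : q ≠ p)
    (hP : P ≤ M) (h1 : #P = p) (h0 : Q ≠ ⊥) (h2 : P ≤ NN Q) (h3 : Q ⊓ CC P = ⊥) (h4 : ¬ UM (NN Q) M)
    (h5 : Al M ≠ ⊥) (h6 : q ∉ alpha M) (h7 : IsPGroup q Q) (h8 : Q ≤ M) :
    Al M ⊓ CC P ≠ ⊥ ∧ Al M ⊓ CC (P ⊔ Q) = ⊥ := by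
  have hpp : p.Prime := Fact.out
  have a1 : ¬ RkA 2 (Al M ⊓ CC Q) := fun h => h4 (((bg10_3 hM h8 (pi_of_pg h7 h6) h).um hM
    inf_le_left).mono (inf_le_right.trans (cc_le_nn Q)) (pg_nn_ne_top h7 h0))
  have a0 : p ∉ alpha M := fun h => tau1_ns hp (alpha_sub_sigma hM h)
  have a2 : ¬ RkA 2 (Al M ⊓ CC P) := fun h => (bg12_2a hM (pg_of_card h1) (((bg10_3 hM hP
    (pi_of_card h1 hpp a0) h).um hM inf_le_left).mono (inf_le_right.trans (cc_le_nn P))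
      (line_nn_ne_top h1)).le).elim (tau1_ns hp) (tau1_not2 hp)
  have hPA : P ≤ NN (Al M) := nn_Al' hP
  have hQA : Q ≤ NN (Al M) := nn_Al' h8
  have c1 := pg_coprime h7 (Al_pi M) h6
  have c2 := pg_coprime (pg_of_card h1) (Al_pi M) a0
  refine ⟨fun h => a1 ?_, by_contra fun h => ?_⟩
  · have b1 := sup_inf_cc hPA h2 hQA (inf_of_coprime c1.symm)
    rw [h, h3, sup_bot_eq] at b1
    rw [inf_eq_left.2 (nil_cc (prime_nil (h1 ▸ hpp) (by nrm) b1) le_sup_left le_sup_right c1.symm)]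
    exact (Al_rk hM h5).anti (by omega)
  obtain ⟨r, hr, hd⟩ := exists_prime_dvd h
  haveI := Fact.mk hr
  obtain ⟨Y, b1, b2⟩ := exists_card_eq hr hd
  have b3 : r ∈ alpha M := Al_pi M r hr (hd.trans (card_dvd inf_le_left))
  have b4 : Y ≤ CC P := b1.trans (inf_le_right.trans (cc_anti le_sup_left))
  have b5 : Y ≤ CC Q := b1.trans (inf_le_right.trans (cc_anti le_sup_right))
  obtain ⟨R, hR, b6, b7⟩ := cop_syl_ge (A := P ⊔ Q) (sup_le hPA hQA) (((pi_of_card h1 hpp a0).sup_r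
    (pi_of_pg h7 h6) h2).coprime (Al_pi M).compl_compl) (sol_of_le hM (Al_le M))
    (b1.trans inf_le_left) (pg_of_card b2) (nn_of_cc (cc_symm (b1.trans inf_le_right)))
  obtain ⟨W, d1, d2, -, d3, -, d4⟩ := BG.exists_critical_odd (ne_two_of_dvd hd) hR.pgroup
  have d5 : ¬ Q ≤ CC W := fun h => a1 ((((((alpha_iff.1 b3).hall (Al_hall hM) b3).syl hR).anti
    (by omega)).mono (le_inf hR.le (cc_symm (d4 Q (le_sup_right.trans b7) (pi_compl_iff_coprime.1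
      ((pi1_of_pg h7).ne fun (e : r = q) => h6 (e ▸ b3))) h)))).rkA)
  have hPW : P ≤ NN W := le_sup_left.trans (b7.trans d2)
  have hQW : Q ≤ NN W := le_sup_right.trans (b7.trans d2)
  have line : ∀ K, Y ≤ K → ¬ RkA 2 (Al M ⊓ K) → W ⊓ K ≤ Y := fun K a b x hx => by
    rcases eq_or_ne x 1 with rfl | e
    · exact one_mem _
    exact cyc_line_le (pg_cyc (hR.pgroup.to_le (inf_le_left : R ⊓ K ≤ R)) fun h =>
      b (h.mono (inf_le_inf_right _ hR.le)).rkA) (zpowers_le.2 ⟨d1 hx.1, hx.2⟩)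
      ((Nat.card_zpowers x).trans (orderOf_eq_prime (d3 x hx.1) e)) (le_inf b6 a) (pg_of_card b2)
      (prime_ne_bot (b2 ▸ hr)) (mem_zpowers x)
  have e1 : W ⊓ CC P ≤ W ⊓ CC Q := le_inf inf_le_left ((line _ b4 a2).trans b5)
  have e2 : W ⊓ CC Q ≤ CC P := (line _ b5 a1).trans b4
  set Z := W ⊓ CC Q
  have hW := hR.pgroup.to_le d1
  have e3 := nil_lt_nn (nil_of_pg hW) ((inf_le_left : Z ≤ W).lt_of_ne fun e => d5 (cc_symm
    (e ▸ inf_le_right)))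
  set N := W ⊓ NN Z
  have e4 : P ≤ NN N := nn_inf hPW (nn_nn (nn_of_cc (cc_symm e2)))
  have e5 : Q ≤ NN N := nn_inf hQW (nn_nn (nn_of_cc (cc_symm inf_le_right)))
  have e6 : N ≤ Al M := inf_le_left.trans (d1.trans hR.le)
  have e7 := coprime_mono c1 le_rfl e6
  obtain ⟨T, _, _, f, z⟩ := exists_qm (N := Z) (M := N ⊔ Q ⊔ P) (e3.le.trans (by order))
    (sup_le (sup_le inf_le_right (nn_of_cc (cc_symm inf_le_right))) (nn_of_cc (cc_symm e2)))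
  have f1 : N ⊔ Q ≤ N ⊔ Q ⊔ P := le_sup_left
  have f2 : P ≤ N ⊔ Q ⊔ P := le_sup_right
  have f3 := coprime_mono c2 le_rfl (e3.le.trans e6)
  have f4 := z.im_inf_cc f1 f2 (e3.le.trans le_sup_left) (by nrm) f3
    (sol_of_pg (hW.to_le inf_le_left))
  rw [sup_inf_cc e4 h2 e5 (inf_of_coprime e7.symm), h3, sup_bot_eq,
    (z.im_eq_bot (by order)).2 ((inf_le_inf_right _ inf_le_left).trans e1)] at f4
  have f5 := prime_nil (by rw [z.card_im_of_disj f2 (inf_of_coprime f3.symm), h1]; exact hpp)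
    (im_nn f2 f1 (by nrm)) f4.symm
  have f6 := (z.cc_iff (by order) (by order)).1 (nil_cc f5 (im_mono le_sup_left) (im_mono le_sup_right)
    (im_coprime e7.symm (by order) (by order)))
  exact e3.not_ge (le_inf inf_le_left (cc_symm (cop_stable (coprime_mono e7 le_rfl e3.le) f6
    (cc_symm inf_le_right))))
/-- BG 12.18(b) -/
theorem bg12_18b [Fact p.Prime] [Fact q.Prime] (hM : IsCoatom M) (hp : p ∈ tau1 M) (hq : q ≠ p)
    (hP : P ≤ M) (h1 : #P = p) (h0 : Q ≠ ⊥) (h2 : P ≤ NN Q) (h3 : Q ⊓ CC P = ⊥) (h4 : ¬ UM (NN Q) M)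
    (h5 : IsSyl q Q M) : alpha M = beta M ∧ Al M ≠ ⊥ ∧ q ∉ alpha M ∧
      Al M ⊓ CC P ≠ ⊥ ∧ Al M ⊓ CC (P ⊔ Q) = ⊥ := by
  have hQ := h5.pgroup
  have a1 : ∀ X, UU X → X ≤ M → ¬ X ≤ NN Q := fun X a b c =>
    h4 ((a.um hM b).mono c (pg_nn_ne_top hQ h0))
  have a2 : q ∉ alpha M := fun h => a1 Q (uu_of_rk3 (pg_ne_top hQ) ((alpha_iff.1 h).syl h5).rkA)
    h5.le (le_nn Q)
  have a3 : Q ≤ ⁅M, M⁆ := (cop_comm_eq h2 (pg_coprime_pg (pg_of_card h1) hQ hq.symm) (sol_of_pg hQ)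
    h3).ge.trans (commutator_mono h5.le hP)
  have a4 : Al M ≠ ⊥ := fun e => h4 (by
    rw [max_nn' hM h0 h5.le (syl_nn (h5.mono a3 (der_le M)) (nil_syl_nn (nilMod_bot.1
      (e ▸ der_nilMod_Al hM)) (h5.mono a3 (der_le M))) (by nrm))]
    exact ⟨hM, le_rfl, fun L a b => max_eq' hM a b⟩)
  refine ⟨(beta_sub_alpha M).antisymm' fun r hr => by_contra fun h => ?_, a4, a2,
    bg12_18a hM hp hq hP h1 h0 h2 h3 h4 a4 a2 hQ h5.le⟩
  haveI := Fact.mk (mem_alpha.1 hr).1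
  exact a1 _ ((bg10_9a hM h (fun h => a2 (beta_sub_alpha M h)) hQ (.inl ⟨fun e => a2 (e ▸ hr), a3⟩)).2.2.1
    hr) inf_le_left (inf_le_right.trans (cc_le_nn Q))
/-- BG 12.19 -/
theorem bg12_19 (hM : IsCoatom M) (hE : Hall (sigma M)ᶜ E M) :
    ∃ H, Hall (beta M)ᶜ H (Sg M) ∧ ⁅E, E⁆ ≤ CC H := by
  have h1 : IsPi (beta M)ᶜ ⁅E, E⁆ := (hE.pi.mono (der_le E)).sub
    (Set.compl_subset_compl.2 (beta_sub_sigma hM))
  obtain ⟨W, hW, h2⟩ := exists_hall_ge (sol_of_le hM (der_le M)) (der_mono hE.le) h1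
  exact ⟨W ⊓ Sg M, hW.inf_normal (Sg_le_der hM) (nn_Sg' (der_le M)), nil_cc (nil_of_nb hM hW.le hW.pi) h2
    inf_le_left (coprime_mono (Sg_coprime hE.pi) (der_le E) inf_le_right)⟩
end

end Cfsg.Agent.MS
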