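import Cfsg.Agent.Lib.MS.Sec12b

/-!
BG section 13: prime action.
-/

set_option linter.unusedSectionVars false
set_option linter.unusedVariables false
set_option linter.style.haveILetI false
set_option linter.unusedSimpArgs false

namespace Cfsg.Agent.MS

open Subgroup Cfsg.Agent.Transfer

universe u
variable {G : Type u} [Group G] [Finite G]

section
variable [hG : MinS G] {A B E E1 E2 E3 H K L M N P Q R S U V X Y : Subgroup G} {p q r : ℕ} {g x : G}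
include hG

theorem bg12_16ab' [Fact p.Prime] (hM : IsCoatom M) (hY : IsPi (sigma M) Y) (h0 : Y ≠ ⊥) (hp : p ∉ sigma M)
    (hd : p ∣ #M) (hb : ¬ IsIdealPrime p G) (hH : IsCoatom H) (h1 : Y ≤ H) (h2 : ¬ CJ M H) :
    ¬ Rk p 2 (H ⊓ NN Y) ∧ (p ∈ tau1 M → ¬ p ∣ #(⁅H ⊓ NN Y, H ⊓ NN Y⁆ : Subgroup G)) := by
  obtain ⟨g, h3⟩ := bg12_16 hM hY
  have := bg12_16ab hM h3 (fun e => h0 (cj_eq_bot_iff.1 e)) hp hd hb (max_cj hH g) (cj_mono g h1)
    fun e => h2 (e.trans (cj_CJ g H).symm)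
  rwa [← cj_normalizer, ← cj_inf, ← cj_commutator, card_cj, rk_cj] at this
/-- Frattini argument modulo a normal subgroup with nilpotent `M'/N` -/
theorem frattini_nilMod [Fact p.Prime] (h : NilMod N ⁅M, M⁆) (h1 : N ≤ M) (h2 : M ≤ NN N) (h3 : ¬ p ∣ #N)
    (hP : IsSyl p P ⁅M, M⁆) : M ≤ NN (N ⊔ P) ∧ N ⊔ (M ⊓ NN P) = M := by
  have a := h.nn_hall ((der_le M).trans h2) (hall_of_syl hP) h2 (by nrm)
  have b := hP.le.trans (der_le M)
  have c := frattini (((Hall.self (pi1_of_pg hP.pgroup)).sup_left (pi_compl_iff.2 h3) (b.trans h2)).syl)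
    (sup_le h1 b) a
  rw [sup_assoc, sup_eq_right.2 (le_inf b (le_nn P))] at c
  exact ⟨a, c⟩
omit hG in
theorem rk_of_sup [Fact p.Prime] {n : ℕ} (h : Rk p n (K ⊔ N)) (h1 : ¬ p ∣ #K) (h2 : N ≤ NN K) : Rk p n N := by
  obtain ⟨T, hT⟩ := exists_isSyl p N
  exact (h.syl ((hall_of_syl hT).sup_left (pi_compl_iff.2 h1) h2).syl).mono hT.le
omit hG in
theorem dvd_der_of_sup (hp : p.Prime) (h : p ∣ #(⁅K ⊔ N, K ⊔ N⁆ : Subgroup G)) (h1 : ¬ p ∣ #K) (h2 : N ≤ NN K) :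
    p ∣ #(⁅N, N⁆ : Subgroup G) :=
  (dvd_sup_l hp ((der_le N).trans h2) (h.trans (card_dvd (der_sup_le h2)))).resolve_left h1
theorem tau3_pg_le_der [Fact p.Prime] (hp : p ∈ tau3 M) (hX : IsPGroup p X) (h : X ≤ M) : X ≤ ⁅M, M⁆ := by
  obtain ⟨P, hP, h1⟩ := exists_isSyl_ge hX h
  exact h1.trans ((cyc_syl_der hP (pg_cyc hP.pgroup fun e => tau3_rk hp (e.mono hP.le))).resolve_left
    (syl_ne_bot (hP.inf_of_le_normalizer (der_le M) (by nrm)) (tau3_dvd' hp)))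
theorem not_sigma_of_alpha (hM : IsCoatom M) (hH : IsCoatom H) (h : ¬ CJ M H) : IsPi (sigma M)ᶜ (Al H) :=
  (Al_pi H).sub fun p a b => bg10_12a hH hM (fun e => h e.symm) p a b
/-- BG 13.1 -/
theorem bg13_1 [Fact p.Prime] (hM : IsCoatom M) (hH : IsCoatom H) (hp : p ∉ sigma M) (h1 : p ∣ #M)
    (h2 : p ∣ #H) (h3 : p ∉ tau1 H) (h4 : ⁅Sg M ⊓ H, M ⊓ H⁆ ≠ ⊥) (h5 : ¬ CJ M H) :
    (∀ P ≤ M ⊓ H, IsPGroup p P → P ≤ CC (Sg M ⊓ H)) ∧ p ∉ tau2 H ∧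
      (p ∈ tau1 M → IsIdealPrime p G) := by
  have hp' : p.Prime := Fact.out
  obtain ⟨q, hq, a1⟩ := exists_prime_dvd h4
  haveI := Fact.mk hq
  have a2 : q ∈ sigma M := Sg_pi M q hq (a1.trans (card_dvd ((commutator_mono inf_le_left inf_le_left).trans
    (comm_le_left (nn_Sg' le_rfl)))))
  obtain ⟨Y, hY⟩ := exists_isSyl q ⁅H, H⁆
  have a3 := syl_ne_bot hY (a1.trans (card_dvd (commutator_mono inf_le_right inf_le_right)))
  have a4 := (frattini_nilMod (der_nilMod_Be hH) (Be_le H) (nn_Be' le_rfl)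
    (fun e => not_sigma_of_alpha hM hH h5 q hq (e.trans (card_dvd (Be_le_Al H))) a2) hY).2
  have key := fun b => bg12_16ab' hM (pi_of_pg hY.pgroup a2) a3 hp h1 b hH (hY.le.trans (der_le H)) h5
  have nb : ¬ IsIdealPrime p G → ¬ p ∣ #(Be H) := fun b c => b (mem_beta.1 (Be_pi H p hp' c)).2
  have b : p ∉ tau2 H := fun h => (key (tau2_not_ideal hH h)).1 (rk_of_sup (a4.symm ▸ tau2_rk h)
    (nb (tau2_not_ideal hH h)) (nn_Be' inf_le_left))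
  have c : ∀ X ≤ H, IsPGroup p X → X ≤ ⁅H, H⁆ := fun X a d => by
    rcases tau_cases hH hp' h2 with e | e | e | e
    exacts [sigma_pg_le_der hH e d a, absurd e h3, absurd e b, tau3_pg_le_der e d a]
  refine ⟨fun P d e => ?_, b, fun d => by_contra fun e => (key e).2 d (dvd_der_of_sup hp' ?_ (nb e)
    (nn_Be' inf_le_left))⟩
  · obtain ⟨S, s1, s2⟩ := exists_isSyl_ge e (c P (d.trans inf_le_right) e)
    have s3 := (der_nilMod_Al hH).nn_hall (nn_Al' (der_le H)) (hall_of_syl s1) (nn_Al' le_rfl) (by nrm)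
    refine comm_eq_bot'.1 (eq_bot_of_le (Sg_inf ((not_sigma_of_alpha hM hH h5).sup_l (pi_of_pg s1.pgroup hp)
      (nn_Al' (s1.le.trans (der_le H))))) ((commutator_mono inf_le_left (d.trans inf_le_left)).trans
      (comm_le_left (nn_Sg' le_rfl))) ((commutator_mono inf_le_right (s2.trans le_sup_right)).trans
      (comm_le_right s3)))
  · obtain ⟨X, x1, x2⟩ := exists_card_eq hp' h2
    rw [a4]
    exact x2 ▸ card_dvd (c X x1 (pg_of_card x2))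
theorem beta_of_ideal [Fact p.Prime] (h : p ∈ sigma H) (h1 : IsIdealPrime p G) : p ∈ beta H := by
  obtain ⟨S, hS⟩ := exists_isSyl p H
  exact mem_beta.2 ⟨alpha_iff.2 (((ideal_iff.1 h1).1.syl (sigma_syl h hS)).mono hS.le), h1⟩
/-- BG 13.2 -/
theorem bg13_2 [Fact p.Prime] (hM : IsCoatom M) (hp : p ∈ tau1 M ∪ tau3 M) (hP : P ≤ M)
    (h1 : IsPGroup p P) (hH : IsCoatom H) (h2 : NN P ≤ H) :
    (∀ P1 ≤ M ⊓ H, IsPGroup p P1 → P1 ≤ CC (Sg M ⊓ H)) ∧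
      (∀ X ≤ M ⊓ H, IsPi (sigma M)ᶜ X → IsPi (tau1 H)ᶜ X → X ≤ CC (Sg M ⊓ H)) ∧
      (⁅Sg M ⊓ H, M ⊓ H⁆ ≠ ⊥ → p ∈ sigma H ∧ (p ∈ tau1 M → p ∈ beta H)) := by
  by_cases h : ⁅Sg M ⊓ H, M ⊓ H⁆ = ⊥
  · exact ⟨fun _ a _ => a.trans (comm_eq_bot'.1 h), fun _ a _ _ => a.trans (comm_eq_bot'.1 h),
      fun a => absurd h a⟩
  have a1 := bg12_2b hM h1 hP hH h2 (.inr hp)
  have a2 := bg12_2a hH h1 h2
  obtain ⟨-, a3, a4, -⟩ := tau13_iff.1 hp
  obtain ⟨b1, b2, b3⟩ := bg13_1 hM hH a3 a4 (a2.elim sigma_dvd tau2_dvd)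
    (fun e => a2.elim (tau1_ns e) (tau1_not2 e)) h a1
  refine ⟨b1, fun X c d e => le_of_pg fun q f g S i j => ?_, fun _ => ⟨a2.resolve_right b2,
    fun c => beta_of_ideal (a2.resolve_right b2) (b3 c)⟩⟩
  haveI := Fact.mk f
  exact (bg13_1 hM hH (d q f g) (g.trans (card_dvd (c.trans inf_le_left)))
    (g.trans (card_dvd (c.trans inf_le_right))) (e q f g) h a1).1 S (i.trans c) j
/-- BG 13.3(a) -/
theorem bg13_3a [Fact p.Prime] (hM : IsCoatom M) (hp : p ∉ sigma M) (hP : IsSyl p P M)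
    (hc : IsCyclic P) : Prm (Sg M) P := prm_of_prime fun X a b => by
  have h0 := prime_ne_bot b
  have h1 := hP.pgroup.to_le a
  obtain ⟨H, hH, h2⟩ := exists_max (pg_nn_ne_top h1 h0)
  exact cc_symm (((bg13_2 hM (tau13_iff.2 ⟨Fact.out, hp, (pg_dvd h1 h0).trans (card_dvd (a.trans hP.le)),
    fun e => not_rk2_of_cyc hc (e.syl hP)⟩) (a.trans hP.le) h1 hH h2).1 P
    (le_inf hP.le ((cyc_nn hc a (le_nn P)).trans h2)) hP.pgroup).trans
    (cc_anti (inf_le_inf_left _ ((cc_le_nn X).trans h2))))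
/-- BG 13.3(b) -/
theorem bg13_3b (hM : IsCoatom M) (hE : Hall (sigma M)ᶜ E M) (h3 : Hall (tau3 M) E3 E) :
    Prm (Sg M) E3 := prm_of_prime fun X a b => by
  haveI := Fact.mk b
  obtain ⟨c1, c2, c3, -⟩ := bg12_1_tau3 hM hE h3
  have h1 : IsPGroup #X X := pg_of_card rfl
  obtain ⟨H, hH, h2⟩ := exists_max (pg_nn_ne_top h1 (prime_ne_bot b))
  have h4 := (cyc_nn c3 a c2).trans h2
  exact cc_symm (((bg13_2 hM (.inr (h3.pi _ b (card_dvd a))) (a.trans (h3.le.trans hE.le)) h1 hH h2).2.1 E3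
    (h3.le.trans (le_inf hE.le h4)) (hE.pi.mono h3.le) fun q c d e =>
      tau1_nd e (d.trans (card_dvd (c1.trans (der_mono h4))))).trans
    (cc_anti (inf_le_inf_left _ ((cc_le_nn X).trans h2))))
theorem bg13_4_aux [Fact q.Prime] (hM : IsCoatom M) (hp : p ∈ tau1 M) (hP : P ≤ M) (h1 : #P = p) (hR : R ≤ M)
    (h2 : (#R).Prime) (h3 : #R ∉ sigma M) (h4 : R ≤ CC P) (hS : IsSyl q S (Sg M ⊓ CC P)) (h5 : R ≤ NN S)
    (h6 : ¬ R ≤ CC S) :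
    #R ∈ tau1 M ∧ q ∉ alpha M ∧ Al M ⊓ CC R ≠ ⊥ ∧ Al M ⊓ CC (R ⊔ ⁅S, R⁆) = ⊥ := by
  haveI := Fact.mk (tau1_prime hp)
  haveI := Fact.mk h2
  have pP := pg_of_card h1
  have pR : IsPGroup #R R := pg_of_card rfl
  have hP0 := prime_ne_bot (h1 ▸ tau1_prime hp)
  obtain ⟨H, hH, a1⟩ := exists_max (pg_nn_ne_top pP hP0)
  have a2 := bg12_2b hM pP hP hH a1 (.inr (.inl hp))
  have a3 := (cc_le_nn P).trans a1
  have hPH := (le_nn P).trans a1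
  obtain ⟨b1, b2, b3⟩ := bg13_2 hM (.inl hp) hP pP hH a1
  have e : Sg M ⊓ CC P = Sg M ⊓ H := le_antisymm (inf_le_inf_left _ a3)
    (le_inf inf_le_left (cc_symm (b1 P (le_inf hP hPH) pP)))
  have hSP := hS.le.trans inf_le_right
  rw [e] at hS
  have hRH := le_inf hR (h4.trans a3)
  have a4 : p ∈ beta H := (b3 fun h => h6 (hRH.trans ((comm_eq_bot'.1 h).trans (cc_anti hS.le)))).2 hp
  have a5 : #R ∈ tau1 H := by_contra fun h => h6 ((b2 R hRH (pi_of_pg pR h3) (pi_of_pg pR h)).trans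
    (cc_anti hS.le))
  have hQ0 : ⁅S, R⁆ ≠ ⊥ := fun h => h6 (comm_eq_bot'.1 h)
  have hQS : ⁅S, R⁆ ≤ S := comm_le_left h5
  have hS0 : S ≠ ⊥ := fun h => hQ0 (eq_bot_iff.2 (h ▸ hQS))
  have a6 : q ∈ sigma M := pg_mem_pi hS.pgroup hS0 ((Sg_pi M).mono (hS.le.trans inf_le_left))
  have a7 : q ≠ #R := fun h => h3 (h ▸ a6)
  have hSM := hS.le.trans (inf_le_left.trans (Sg_le M))
  have hSH := hS.le.trans inf_le_right
  have a8 : IsMulCommutative S := by_contra fun h =>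
    not_uu_of hM hH hSM hSH (ne_of_not_CJ a2) (bg12_13 hS.pgroup h)
  have a9 : ⁅S, R⁆ ⊓ CC R = ⊥ := eq_bot_of_le (cop_ab_inf a8 h5 (pg_coprime_pg pR hS.pgroup a7.symm))
    (inf_le_inf_right _ hQS) inf_le_left
  have pQ := hS.pgroup.to_le hQS
  have a10 : UM (NN ⁅S, R⁆) H := by
    have c : P ≤ Al H := (le_Be hH hPH (pi_of_pg pP a4)).trans (Be_le_Al H)
    by_contra h
    exact hP0 (eq_bot_of_le (bg12_18a hH a5 a7 (h4.trans a3) rfl hQ0 (right_nn_comm _ _) a9 h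
      (fun d => hP0 (eq_bot_iff.2 (d ▸ c))) (fun d => bg10_12a hH hM (fun e => a2 e.symm) q d a6) pQ
      (hQS.trans hSH)).2 c (cc_symm (sup_le h4 (hQS.trans hSP))))
  have a11 : IsSyl q S (M ⊓ H) := ((Sg_hall hM).normal_inf (nn_Sg' le_rfl) inf_le_left).syl_trans
    (by rwa [← inf_assoc, inf_eq_left.2 (Sg_le M)]) a6
  obtain ⟨-, -, -, c1, c2⟩ := bg12_15 hM a6 (hQS.trans hSM) pQ hQ0 hH a10.le (ne_of_not_CJ a2) a11 hQS
  have a12 : q ∈ sigma H := by_contra fun h => (c2 h).2.2.pi p Fact.out (h1 ▸ card_dvd (le_inf hP hPH))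
    (beta_sub_sigma hH a4)
  obtain ⟨-, c3, -, c4⟩ := c1 a12
  have a13 : #R ∈ tau1 M := (c3 a5).resolve_right fun h => h3 (alpha_sub_sigma hM h)
  have a14 : q ∉ alpha M := fun h => bg10_12a hM hH a2 q h a12
  exact ⟨a13, a14, bg12_18a hM a13 a7 hR rfl hQ0 (right_nn_comm _ _) a9
    (not_um_of hH a10.le (ne_of_not_CJ a2)) c4 a14 pQ (hQS.trans hSM)⟩
theorem bg13_4_alpha (hM : IsCoatom M) (hp : p ∈ tau1 M) (hP : P ≤ M) (h1 : #P = p) (hR : R ≤ M)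
    (h2 : (#R).Prime) (h3 : #R ∉ sigma M) (h4 : R ≤ CC P) : Al M ⊓ CC P ≤ CC R := le_of_syl fun q a b => by
  haveI := Fact.mk a
  have pR := pi_of_card (π := (sigma M)ᶜ) rfl h2 h3
  have hn : R ≤ NN (CC P) := nn_of_le h4
  obtain ⟨S0, s1, s2⟩ := cop_syl q (nn_inf (nn_Al' hR) hn) (((Sg_pi M).mono (inf_le_left.trans
    (Al_le_Sg hM))).coprime pR).symm (sol_of_le hM (inf_le_left.trans (Al_le M)))
  obtain ⟨S, s3, s4, s5⟩ := cop_syl_ge (nn_inf (nn_Sg' hR) hn) (((Sg_pi M).mono inf_le_left).coprime pR).symm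
    (sol_of_le hM (inf_le_left.trans (Sg_le M))) (s1.le.trans (inf_le_inf_right _ (Al_le_Sg hM))) s1.pgroup s2
  refine ⟨S0, s1, s4.trans (cc_symm (by_contra fun h => ?_))⟩
  exact (bg13_4_aux hM hp hP h1 hR h2 h3 h4 s3 s5 h).2.1 (Al_pi M q a (b.trans (card_dvd inf_le_left)))
/-- BG 13.4 -/
theorem bg13_4 (hM : IsCoatom M) (hp : p ∈ tau1 M) (hP : P ≤ M) (h1 : #P = p) (hR : R ≤ M)
    (h2 : (#R).Prime) (h3 : #R ∉ sigma M) (h4 : R ≤ CC P) : Sg M ⊓ CC P ≤ CC R := le_of_syl fun q a b => by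
  haveI := Fact.mk a
  obtain ⟨S, s1, s2⟩ := cop_syl q (nn_inf (nn_Sg' hR) (nn_of_le h4)) (((Sg_pi M).mono inf_le_left).coprime
    (pi_of_card (π := (sigma M)ᶜ) rfl h2 h3)).symm (sol_of_le hM (inf_le_left.trans (Sg_le M)))
  refine ⟨S, s1, cc_symm (by_contra fun h => ?_)⟩
  obtain ⟨a1, -, a2, a3⟩ := bg13_4_aux hM hp hP h1 hR h2 h3 h4 s1 s2 h
  have e : Al M ⊓ CC R = Al M ⊓ CC P := le_antisymm (le_inf inf_le_left (bg13_4_alpha hM a1 hR rfl hP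
    (h1 ▸ tau1_prime hp) (h1 ▸ tau1_ns hp) (cc_symm h4))) (le_inf inf_le_left (bg13_4_alpha hM hp hP h1 hR h2 h3 h4))
  have h5 : S ≤ NN (CC (Al M ⊓ CC R)) := nn_cc (e ▸ nn_inf (nn_Al' (s1.le.trans (inf_le_left.trans (Sg_le M))))
    (nn_of_le (s1.le.trans inf_le_right)))
  exact a2 (eq_bot_of_le a3 inf_le_left (le_cc_sup inf_le_right (cc_symm
    ((commutator_mono le_rfl (cc_symm inf_le_right)).trans (comm_le_right h5)))))
/-- BG 13.5 -/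
theorem bg13_5 (hM : IsCoatom M) (h : E1 ≤ M) (h1 : IsPi (tau1 M) E1) : Prm (Sg M) E1 := prm_of_prime fun X a b => cc_symm (le_of_pg fun r c d S e g => by
  haveI := Fact.mk c
  by_cases h0 : S = ⊥
  · exact h0.le.trans bot_le
  obtain ⟨T, t1, t2⟩ := exists_isSyl_ge g (e.trans h)
  obtain ⟨R, r1, r2⟩ := pg_exists_card g h0
  have hr := h1 r c d
  have h2 := (bg13_3a hM (tau1_ns hr) t1 (pg_cyc t1.pgroup fun e => tau1_rk hr (e.mono t1.le))).cc (r1.trans t2)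
    (prime_ne_bot (r2 ▸ c))
  exact t2.trans (cc_symm ((le_inf inf_le_left (bg13_4 hM (h1 _ b (card_dvd a)) (a.trans h) rfl
    (r1.trans (e.trans h)) (r2 ▸ c) (r2 ▸ tau1_ns hr) (ab_le_cc (ab_of_cyc (bg12_1_tau1 hM h h1)) (r1.trans e) a))).trans
    (h2.le.trans inf_le_right))))
theorem exists_el2_compl [Fact p.Prime] (hE : Hall (sigma M)ᶜ E M) (hp : p ∈ tau2 M) : ∃ A, El p 2 A E :=
  (tau2_rk hp).hall hE (tau2_ns hp)
theorem cc_compl_of_cc_der (hM : IsCoatom M) (hE : Hall (sigma M)ᶜ E M) (h1 : Hall (tau1 M) E1 E) (h0 : E1 ≠ ⊥)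
    (hX : X ≤ Sg M) (h2 : X ≤ CC E1) (h3 : X ≤ CC ⁅E, E⁆) : X ≤ CC E := by
  obtain ⟨E2, E3, h⟩ := exists_SC1 hM hE h1
  by_cases e : E2 = ⊥
  · rw [← (h.sup hM).1, e, sup_bot_eq]
    exact le_cc_sup (h3.trans (cc_anti (bg12_1_tau3 hM hE h.h3).1)) h2
  obtain ⟨p, hp, a⟩ := exists_prime_dvd e
  haveI := Fact.mk hp
  have b := h.h2.pi p hp a
  obtain ⟨A, hA⟩ := exists_el2_compl hE b
  have c := (bg12_6ab hM hE b hA).1
  obtain ⟨P, p1, p2⟩ := exists_prime_sub h0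
  refine (eq_bot_of_le (bg12_5 hM b (hA.mono hE.le)).2.1 hX ?_).le.trans bot_le
  rw [← cop_comm_sup (h1.le.trans c) (pg_coprime hA.pg h1.pi fun d => tau1_not2 d b).symm (sol_of_pg hA.pg)]
  refine le_cc_sup (h3.trans (cc_anti (commutator_mono hA.le h1.le))) (le_cc_iff.2 fun x hx => ?_)
  by_cases d : x = 1
  · rw [d, C1_one]; exact le_top
  have d1 := hA.card_zpowers hx.1 d
  exact cc_zpowers x ▸ (le_inf hX (h2.trans (cc_anti p1))).trans (bg13_4 hM (h1.pi _ p2 (card_dvd p1))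
    (p1.trans (h1.le.trans hE.le)) rfl (zpowers_le.2 (hE.le (hA.le hx.1))) (d1 ▸ hp) (d1 ▸ tau2_ns b)
    (zpowers_le.2 (cc_anti p1 hx.2)))
theorem tau1_pi_ns (h : IsPi (tau1 M) P) : IsPi (sigma M)ᶜ P := h.sub fun _ a => tau1_ns a
theorem tau2_pi_ns (h : IsPi (tau2 M) P) : IsPi (sigma M)ᶜ P := h.sub fun _ a => tau2_ns a
theorem tau3_pi_ns (h : IsPi (tau3 M) P) : IsPi (sigma M)ᶜ P := h.sub fun _ a => tau3_ns a
/-- BG 13.6 -/
theorem bg13_6 [Fact q.Prime] (hM : IsCoatom M) (hP : P ≤ M) (h1 : IsPi (tau1 M) P) (h0 : P ≠ ⊥)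
    (hX : X ≤ Sg M ⊓ CC P) (h2 : #X = q) : UM (CC X) M ∧ ∀ S, IsSyl q S (Sg M) → UM S M := by
  have hXS := hX.trans inf_le_left
  refine bg12_14 hM (hXS.trans (Sg_le M)) h2 (or_iff_not_imp_left.2 fun hb => ?_)
  obtain ⟨E, hE, a1⟩ := exists_compl_ge hM hP (tau1_pi_ns h1)
  obtain ⟨E1, hE1, a2⟩ := exists_hall_ge (sol_of_le hM hE.le) a1 h1
  have hE1M := hE1.le.trans hE.le
  have a3 : X ≤ CC E1 := hX.trans (((bg13_5 hM hE1M hE1.pi).cc a2 h0).le.trans inf_le_right)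
  obtain ⟨H, b1, b2⟩ := bg12_19 hM hE
  have hs := sol_of_le hM (Sg_le M)
  have hc := Sg_coprime (tau1_pi_ns hE1.pi)
  obtain ⟨S, s1, s2⟩ := cop_syl q (K := Sg M ⊓ CC ⁅E, E⁆) (nn_inf (nn_Sg' hE1M)
    (nn_cc (nn_comm (nn_of_le hE1.le) (nn_of_le hE1.le)))) (coprime_mono hc le_rfl inf_le_left)
    (sol_mono hs inf_le_left)
  obtain ⟨T, t1⟩ := exists_isSyl q H
  have s3 : IsSyl q S (Sg M) := (b1.syl_trans t1 hb).of_card_le s1.pgroup (s1.le.trans inf_le_left)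
    (s1.card_le t1.pgroup (t1.le.trans (le_inf b1.le (cc_symm b2))))
  obtain ⟨S1, u1, u2, u3⟩ := cop_syl_ge (nn_Sg' hE1M) hc hs hXS (pg_of_card h2) (nn_of_cc (cc_symm a3))
  obtain ⟨c, c1, c2⟩ := cop_syl_conj (nn_Sg' hE1M) hc hs s3 u1 s2 u3
  have hE' := hE.cj_nn (le_nn M (Sg_le M c1.1))
  have hE1' := hE1.cj c
  rw [cj_cc c1.2, ← tau1_cj c, cj_eq_of_mem (Sg_le M c1.1)] at hE1'
  refine (le_inf hXS (cc_compl_of_cc_der hM hE' hE1' (fun e => h0 (eq_bot_iff.2 (e ▸ a2))) hXS a3 ?_)).trans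
    (bg12_17a hM hE').1
  exact u2.trans (c2 ▸ cj_commutator c E E ▸ cc_cj (s1.le.trans inf_le_right) c)
omit hG in
theorem exists_not_reg (h : ¬ Reg K R) : ∃ X ≤ R, ∃ Y ≤ K, (#X).Prime ∧ (#Y).Prime ∧ Y ≤ CC X := by
  by_contra! h1
  refine h (reg_of_prime fun X a b => by_contra fun c => ?_)
  obtain ⟨Y, d, e⟩ := exists_prime_sub c
  exact h1 X a Y (d.trans inf_le_left) b e (d.trans inf_le_right)
theorem tau2_empty_of_not_reg (hM : IsCoatom M) (hE : Hall (sigma M)ᶜ E M) (h3 : Hall (tau3 M) E3 E)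
    (h : ¬ Reg (Sg M) E3) : p ∉ tau2 M := fun b => by
  haveI := Fact.mk (tau2_prime b)
  obtain ⟨A, hA⟩ := exists_el2_compl hE b
  obtain ⟨E1, h1⟩ := exists_hall (sol_of_le hM hE.le) (tau1 M)
  obtain ⟨E2, E4, h2⟩ := exists_SC1 hM hE h1
  rw [h3.eq_O (bg12_1_tau3 hM hE h3).2.1, ← h2.h3.eq_O (bg12_1_tau3 hM hE h2.h3).2.1] at h
  exact h (bg12_6de hM h2 b hA).1
theorem sup_of_tau2_empty (hM : IsCoatom M) (hE : Hall (sigma M)ᶜ E M) (h1 : Hall (tau1 M) E1 E)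
    (h3 : Hall (tau3 M) E3 E) (h : ∀ p, p ∉ tau2 M) : E1 ≠ ⊥ ∧ E3 ⊔ E1 = E := by
  obtain ⟨E2, E4, h2⟩ := exists_SC1 hM hE h1
  have e : E2 = ⊥ := h2.h2.eq_bot_iff.2 fun p _ _ => h p
  rw [h3.eq_O (bg12_1_tau3 hM hE h3).2.1, ← h2.h3.eq_O (bg12_1_tau3 hM hE h2.h3).2.1]
  exact ⟨h2.ne_bot hM e, by rw [← (h2.sup hM).1, e, sup_bot_eq]⟩
/-- BG 13.7 -/
theorem bg13_7 (hM : IsCoatom M) (hE : Hall (sigma M)ᶜ E M) (h1 : Hall (tau1 M) E1 E)
    (h3 : Hall (tau3 M) E3 E) (h : ¬ Reg E3 E1) : Prm (Sg M) (E3 ⊔ E1) := by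
  obtain ⟨P, p1, R, r1, p2, r2, a1⟩ := exists_not_reg h
  obtain ⟨-, c1, c2, c3⟩ := bg12_1_tau3 hM hE h3
  have hE1 := h1.le.trans hE.le
  have hE3 := h3.le.trans hE.le
  have d1 := bg13_5 hM hE1 h1.pi
  have d3 := bg13_3b hM hE h3
  have e1 := d1.cc p1 (prime_ne_bot p2)
  have e3 := d3.cc r1 (prime_ne_bot r2)
  have hr := h3.pi _ r2 (card_dvd r1)
  by_cases a2 : Sg M ⊓ CC E3 ≤ CC E1
  · have a3 : Sg M ⊓ CC E1 ≤ CC (E3 ⊔ E1) := le_cc_sup (e1 ▸ (le_inf inf_le_left (bg13_4 hM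
      (h1.pi _ p2 (card_dvd p1)) (p1.trans hE1) rfl (r1.trans hE3) r2 (tau3_ns hr) a1)).trans
      (e3.le.trans inf_le_right)) inf_le_right
    refine prm_of_prime fun X a b => ?_
    have hX := sup_le h3.le h1.le
    rcases dvd_sup_l b (h1.le.trans c1) (card_dvd a) with e | e
    · exact (d3.cc (h3.le_of_normal c1 (a.trans hX) (pi_of_card rfl b (h3.pi _ b e))) (prime_ne_bot b)).le.trans
        ((le_inf inf_le_left a2).trans a3)
    obtain ⟨g, g1, g2⟩ := Hall.exists_cj_le (sol_of_le hM (hX.trans hE.le)) (h1.mono le_sup_right hX) a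
      (pi_of_card rfl b (h1.pi _ b e))
    have := (d1.cc g2 fun e => prime_ne_bot b (cj_eq_bot_iff.1 e)).le.trans a3
    rwa [← cj_eq_of_mem g1, ← cj_centralizer, ← cj_centralizer, ← cj_nn (nn_Sg' (hX.trans hE.le) g1), ← cj_inf,
      cj_le_cj_iff] at this
  exfalso
  haveI := Fact.mk r2
  have a3 : ¬ Reg (Sg M) E3 := fun e => a2 ((e.cc le_rfl fun e => prime_ne_bot r2
    (eq_bot_iff.2 (e ▸ r1))).le.trans bot_le)
  have a4 := (sup_of_tau2_empty hM hE h1 h3 fun p => tau2_empty_of_not_reg hM hE h3 a3).2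
  have pR : IsPGroup #R R := pg_of_card rfl
  obtain ⟨H, hH, b1⟩ := exists_max (pg_nn_ne_top pR (prime_ne_bot r2))
  have b2 := (cyc_nn c2 r1 c1).trans b1
  have b3 : Sg M ⊓ CC E3 ≤ Sg M ⊓ H := e3 ▸ inf_le_inf_left _ ((cc_le_nn R).trans b1)
  obtain ⟨-, b4, b5⟩ := bg13_2 hM (.inr hr) (r1.trans hE3) pR hH b1
  have b6 : IsPi (tau1 H) E1 := fun s a b => by_contra fun c => by
    obtain ⟨X, x1, x2⟩ := exists_card_eq a b
    exact a2 (b3.trans ((le_inf inf_le_left (cc_symm (b4 X (x1.trans (h1.le.trans (le_inf hE.le b2)))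
      (hE.pi.mono (x1.trans h1.le)) (pi_of_card x2 a c)))).trans
      ((d1.cc x1 (prime_ne_bot (x2 ▸ a))).le.trans inf_le_right)))
  have b7 := (b5 fun e => a2 (b3.trans ((comm_eq_bot.1 e).trans (cc_anti (h1.le.trans (le_inf hE.le b2)))))).1
  have b8 := (le_inf (pg_le_Sg hH b7 ((le_nn R).trans b1) pR) a1).trans
    (((bg13_5 hH (h1.le.trans b2) b6).cc p1 (prime_ne_bot p2)).le.trans inf_le_right)
  exact prime_ne_bot r2 (eq_bot_of_le c3 r1 (a4 ▸ le_cc_sup (ab_le_cc (ab_of_cyc c2) r1 le_rfl) b8))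
theorem bg13_8_aux [Fact q.Prime] (hM : IsCoatom M) (hH : IsCoatom H) (h : ¬ CJ M H)
    (h1 : p ∈ tau1 M) (h2 : p ∈ tau1 H) (hP : P ≤ M ⊓ H) (h3 : #P = p) (hQ : IsSyl q Q (M ⊓ H))
    (h4 : P ≤ NN Q) (h6 : Q ⊓ CC P = ⊥) (h8 : NN Q ≤ H) (h9 : Be H ⊓ CC P ≠ ⊥)
    (hK : Hall (beta M ∪ beta H) K (CC P)) {s : ℕ} (hs : s ∈ beta M) (hd : s ∣ #(F K)) : False := by
  haveI := Fact.mk (tau1_prime h1)
  haveI := Fact.mk (sigma_prime (beta_sub_sigma hM hs))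
  have pP := pg_of_card h3
  have hP0 := prime_ne_bot (h3 ▸ tau1_prime h1)
  have hPM := hP.trans inf_le_left
  have hQ0 : Q ≠ ⊥ := fun e => hH.1 (eq_top_iff.2 (le_trans (e ▸ nn_bot) h8))
  have hQM : IsSyl q Q M := syl_of_nn (hQ.le.trans inf_le_left) (hQ.mono (le_inf (hQ.le.trans inf_le_left)
    (le_nn Q)) (inf_le_inf_left _ h8))
  have hqp : q ≠ p := fun e => by
    subst e
    exact nil_meet (nil_of_pg (pg_sup_l hQ.pgroup pP h4)) le_sup_left (sup_le (le_nn Q) h4) hQ0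
      (inf_bot_mono h6 le_rfl (cc_anti le_sup_right))
  obtain ⟨a1, -, a2, a3, a4⟩ := bg12_18b hM h1 hqp hPM h3 hQ0 h4 h6 (not_um_of hH h8 (ne_of_not_CJ h)) hQM
  have a5 : ⁅Q, P⁆ = Q := cop_comm_eq h4 (pg_coprime_pg pP hQ.pgroup hqp.symm) (sol_of_pg hQ.pgroup) h6
  have a6 := (frattini_nilMod (der_nilMod_Be hM) (Be_le M) (nn_Be' le_rfl)
    (fun e => a2 (beta_sub_alpha M (Be_pi M q Fact.out e)))
    (hQM.mono (a5 ▸ commutator_mono hQM.le hPM) (der_le M))).2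
  have e : Al M = Be M := by rw [Al_eq, a1]
  have hsC := sol_of_ne (cc_ne_top hP0)
  obtain ⟨g, g1, g2⟩ := Hall.exists_cj_le hsC hK (inf_le_right : Be M ⊓ CC P ≤ _)
    (((Be_pi M).mono inf_le_left).sub Set.subset_union_left)
  have hL := hK.cj_nn ((NN _).inv_mem (le_nn _ g1))
  rw [cj_le_iff_le_cj_inv] at g2
  rw [← card_cj g⁻¹, cj_F] at hd
  generalize cj g⁻¹ K = L at hL g2 hd
  have b1 : L ≤ M := by
    obtain ⟨S, hS⟩ := exists_isSyl s M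
    obtain ⟨k, -, k1⟩ := (sigma_syl (beta_sub_sigma hM hs) hS).exists_cj_le (O_pg (p := s) L) le_top
    have hN := max_cj hM k⁻¹
    have b2 := bg10_14d hN (cj_le_iff_le_cj_inv.1 (k1.trans hS.le)) (pi_of_pg (O_pg L) ((beta_cj _ M).symm ▸ hs))
      (O_ne_bot_of_F hd)
    have b3 := (nn_O (le_nn L)).trans b2
    obtain ⟨Y, y1, y2⟩ := exists_prime_sub (e ▸ a3)
    haveI := Fact.mk y2
    have b4 := (bg13_6 hM hPM (pi_of_pg pP h1) hP0 (y1.trans (inf_le_inf_right _ (Be_le_Sg hM))) rfl).1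
    have b5 := (bg13_6 hN ((nn_O (nn_of_cc (cc_symm hL.le))).trans b2) (pi_of_pg pP ((tau1_cj _ M).symm ▸ h1)) hP0
      (le_inf (le_Sg hN (y1.trans (g2.trans b3)) ((sigma_cj _ M).symm ▸
        ((Be_pi M).mono (y1.trans inf_le_left)).sub (beta_sub_sigma hM))) (y1.trans inf_le_right)) rfl).1
    exact b4.eq b5 ▸ b3
  obtain ⟨r, r1, r2⟩ := exists_prime_dvd h9
  have r3 := Be_pi H r r1 (r2.trans (card_dvd inf_le_left))
  have r4 : r ∉ sigma M := bg10_12a hH hM (fun e => h e.symm) r (beta_sub_alpha H r3)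
  obtain ⟨R, r5, r6⟩ := exists_card_eq r1 (hL.dvd r1 (.inr r3) (r2.trans (card_dvd inf_le_right)))
  obtain ⟨T, t1⟩ := exists_hall (sol_of_le hM (inf_le_left : M ⊓ NN Q ≤ M)) (beta M)ᶜ
  have t2 := t1.sup_left (Be_pi M).compl_compl (nn_Be' inf_le_left)
  rw [a6] at t2
  have r7 := r5.trans hL.le
  obtain ⟨k, k1, k2⟩ := Hall.exists_cj_le (max_sol hM) t2 (sup_le (r5.trans b1) hPM)
    ((pi_of_card (π := (beta M)ᶜ) r6 r1 fun e => r4 (beta_sub_sigma hM e)).sup_r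
      (pi_of_pg pP fun e => tau1_ns h1 (beta_sub_sigma hM e)) (nn_of_cc r7))
  obtain ⟨u, u1, c, c1, rfl⟩ := bg6_5c (g := k) (sol_of_le hM (Be_le M)) (nn_Be' inf_le_left) (le_inf hPM h4)
    (pg_coprime pP (Be_pi M) fun e => tau1_ns h1 (beta_sub_sigma hM e)) (a6.symm ▸ k1)
    ((cj_mono _ le_sup_right).trans (k2.trans t1.le))
  have c2 : cj c R ≤ M ⊓ NN Q := by
    have := cj_le' ((cj_mono _ le_sup_left).trans (k2.trans t1.le)) (inv_mem u1)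
    rwa [cj_cj, inv_mul_cancel_left] at this
  have c3 := (card_cj c R).trans r6
  have c4 : Al M ⊓ CC P ≤ H := (inf_le_inf_right _ (Al_le_Sg hM)).trans ((bg13_4 hM h1 hPM h3
    (c2.trans inf_le_left) (c3 ▸ r1) (c3 ▸ r4) (cj_le' r7 c1.2)).trans ((cc_le_nn _).trans
    (bg10_14d hH (c2.trans (inf_le_right.trans h8)) (pi_of_card c3 r1 r3) (prime_ne_bot (c3 ▸ r1)))))
  obtain ⟨S, s1, s2⟩ := exists_isSyl_ge hQ.pgroup (a5 ▸ commutator_mono (hQ.le.trans inf_le_right)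
    (hP.trans inf_le_right) : Q ≤ ⁅H, H⁆)
  have s3 := (der_nilMod_Al hH).nn_hall (nn_Al' (der_le H)) (hall_of_syl s1) (nn_Al' le_rfl) (by nrm)
  refine a3 (eq_bot_of_le a4 inf_le_left (le_cc_sup inf_le_right (comm_eq_bot.1 (eq_bot_of_le ((Al_pi M).inf
    ((pi_ns_na hM (not_sigma_of_alpha hM hH h)).sup_l (pi_of_pg s1.pgroup a2) (nn_Al' (s1.le.trans (der_le H)))))
    ((commutator_mono inf_le_left hQM.le).trans (comm_le_left (nn_Al' le_rfl)))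
    ((commutator_mono c4 (s2.trans le_sup_right)).trans (comm_le_right s3))))))
theorem bg13_8_ne [Fact q.Prime] (hM : IsCoatom M) (hH : IsCoatom H) (h : H ≠ M)
    (h1 : p ∈ tau1 M) (hP : P ≤ M) (h3 : #P = p) (hQ : IsSyl q Q (M ⊓ H))
    (h4 : P ≤ NN Q) (h6 : Q ⊓ CC P = ⊥) (h8 : NN Q ≤ H) : Be M ⊓ CC P ≠ ⊥ := by
  have hQ0 : Q ≠ ⊥ := fun e => hH.1 (eq_top_iff.2 (le_trans (e ▸ nn_bot) h8))
  have hQM : IsSyl q Q M := syl_of_nn (hQ.le.trans inf_le_left) (hQ.mono (le_inf (hQ.le.trans inf_le_left)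
    (le_nn Q)) (inf_le_inf_left _ h8))
  haveI := Fact.mk (tau1_prime h1)
  have hqp : q ≠ p := fun e => by
    subst e
    exact nil_meet (nil_of_pg (pg_sup_l hQ.pgroup (pg_of_card h3) h4)) le_sup_left (sup_le (le_nn Q) h4) hQ0
      (inf_bot_mono h6 le_rfl (cc_anti le_sup_right))
  obtain ⟨a1, -, -, a3, -⟩ := bg12_18b hM h1 hqp hP h3 hQ0 h4 h6 (not_um_of hH h8 h) hQM
  rwa [Al_eq, a1] at a3
/-- BG 13.8 -/
theorem bg13_8 [Fact q.Prime] [Fact r.Prime] (hM : IsCoatom M) (hH : IsCoatom H) (h : ¬ CJ M H)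
    (h1 : p ∈ tau1 M) (h2 : p ∈ tau1 H) (hP : P ≤ M ⊓ H) (h3 : #P = p) (hQ : IsSyl q Q (M ⊓ H))
    (hR : IsSyl r R (M ⊓ H)) (h4 : P ≤ NN Q) (h5 : P ≤ NN R) (h6 : Q ⊓ CC P = ⊥) (h7 : R ⊓ CC P = ⊥)
    (h8 : NN Q ≤ H) (h9 : NN R ≤ M) : False := by
  have h' : ¬ CJ H M := fun e => h e.symm
  have a := bg13_8_ne hM hH (ne_of_not_CJ h) h1 (hP.trans inf_le_left) h3 hQ h4 h6 h8
  have b := bg13_8_ne hH hM (ne_of_not_CJ h') h2 (hP.trans inf_le_right) h3 (inf_comm M H ▸ hR) h5 h7 h9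
  have hs := sol_of_ne (cc_ne_top (prime_ne_bot (h3 ▸ tau1_prime h1)))
  obtain ⟨K, hK, k1⟩ := exists_hall_ge hs (inf_le_right : Be M ⊓ CC P ≤ _)
    (((Be_pi M).mono inf_le_left).sub (Set.subset_union_left (t := beta H)))
  obtain ⟨s, s1, s2⟩ := exists_prime_dvd (F_ne_bot (sol_mono hs hK.le) fun e => a (eq_bot_iff.2 (e ▸ k1)))
  rcases hK.pi s s1 (s2.trans (card_dvd (F_le K))) with e | e
  · exact bg13_8_aux hM hH h h1 h2 hP h3 hQ h4 h6 h8 b hK e s2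
  · exact bg13_8_aux hH hM h' h2 h1 (inf_comm M H ▸ hP) h3 (inf_comm M H ▸ hR) h5 h7 h9 a
      (Set.union_comm _ _ ▸ hK) e s2
theorem cc_eq_bot_of_not_um [Fact q.Prime] (hM : IsCoatom M) (hP : P ≤ M) (h1 : IsPi (tau1 M) P) (h0 : P ≠ ⊥)
    (hS : IsSyl q S (Sg M)) (h : ¬ UM S M) : S ⊓ CC P = ⊥ := by_contra fun e => by
  obtain ⟨X, a, b⟩ := pg_exists_card (hS.pgroup.to_le inf_le_left) e
  exact h ((bg13_6 hM hP h1 h0 (a.trans (inf_le_inf_right _ hS.le)) b).2 S hS)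
/-- BG 13.9 -/
theorem bg13_9 (hM : IsCoatom M) (hH : IsCoatom H) (h : ¬ CJ M H) : ∀ p ∈ sigma M, p ∉ sigma H := fun q a b => by
  haveI := Fact.mk (sigma_prime a)
  obtain ⟨E, hE⟩ := exists_hall (max_sol hM) (sigma M)ᶜ
  obtain ⟨S, s1, s2⟩ := cop_syl q (nn_Sg' hE.le) (Sg_coprime hE.pi) (sol_of_le hM (Sg_le M))
  have s3 := Sg_syl hM a s1
  obtain ⟨g, h1⟩ := exists_cj_nn_le a b s3
  have hL := max_cj hH g
  have h2 : ¬ CJ M (cj g H) := fun e => h (e.trans (cj_CJ g H).symm)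
  generalize cj g H = L at h1 hL h2
  obtain ⟨E1, h3⟩ := exists_hall (sol_of_le hM hE.le) (tau1 M)
  obtain ⟨E3, h4⟩ := exists_hall (sol_of_le hM hE.le) (tau3 M)
  obtain ⟨P, p1, p2⟩ := exists_prime_sub (sup_of_tau2_empty hM hE h3 h4 fun p e => bg12_6f hM e hH h q a b).1
  haveI := Fact.mk p2
  have p3 := h3.pi _ p2 (card_dvd p1)
  have p4 := p1.trans (h3.le.trans s2)
  have p5 := p1.trans (h3.le.trans hE.le)
  have hSL := (le_nn S).trans h1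
  have s4 := cc_eq_bot_of_not_um hM p5 (h3.pi.mono p1) (prime_ne_bot p2) s1 (not_um_of hL hSL (ne_of_not_CJ h2))
  have s5 := sigma_syl_ne_bot a s3
  have p6 := le_inf p5 (p4.trans h1)
  have s6 : ¬ P ≤ CC (Sg M ⊓ L) := fun e => s5 (eq_bot_of_le s4 le_rfl (cc_symm (e.trans (cc_anti
    (le_inf s1.le hSL)))))
  have s7 := s3.mono (le_inf s3.le hSL) inf_le_left
  exact bg13_8 hM hL h2 p3 (by_contra fun e => s6 ((bg13_1 hM hL (tau1_ns p3) (tau1_dvd p3)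
    (card_dvd (p4.trans h1)) e (fun e => s6 (p6.trans (comm_eq_bot'.1 e))) h2).1 P p6 (pg_of_card rfl)))
    p6 rfl s7 s7 p4 p4 s4 s4 h1 (sigma_nn a s3)
/-- BG 13.10 -/
theorem bg13_10 (hM : IsCoatom M) (hE : Hall (sigma M)ᶜ E M) (h1 : Hall (tau1 M) E1 E)
    (h3 : Hall (tau3 M) E3 E) (hP : P ≤ E1) (h4 : (#P).Prime) (h5 : ¬ P ≤ CC E3) :
    Reg E3 E1 ∧ Reg (Sg M) E3 ∧ Sg M ⊓ CC P ≠ ⊥ := by
  obtain ⟨c0, c1, c2, c3⟩ := bg12_1_tau3 hM hE h3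
  haveI := Fact.mk h4
  have pP : IsPGroup #P P := pg_of_card rfl
  have hp := h1.pi _ h4 (card_dvd hP)
  have hPE := hP.trans h1.le
  have hPM := hPE.trans hE.le
  obtain ⟨q, hq, a0, a1⟩ : ∃ q, q.Prime ∧ q ∣ #E3 ∧ ¬ O {q} E3 ≤ CC P := by
    by_contra! h
    exact h5 (cc_symm (nil_le_of_O (nil_of_ab (ab_of_cyc c2)) h))
  haveI := Fact.mk hq
  have a2 := h3.pi q hq a0
  have hQ := compl_syl hE (tau3_ns a2) (h3.syl_trans (nil_syl (nil_of_ab (ab_of_cyc c2))) a2)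
  have a3 : E ≤ NN (O {q} E3) := nn_O c1
  have a4 : O {q} E3 ≤ E3 := O_le _ _
  generalize O {q} E3 = Q at hQ a3 a4 a1
  have hqp : q ≠ #P := fun e => tau1_not3 hp (e ▸ a2)
  have a5 : Q ⊓ CC P = ⊥ := by_contra fun e => a1 (cc_symm (cop_cyc hQ.pgroup (cyc_mono c2 a4) (hPE.trans a3)
    (pi_of_pg pP hqp.symm) e))
  have hQ0 : Q ≠ ⊥ := fun e => a1 (e.le.trans bot_le)
  obtain ⟨H, hH, b1⟩ := exists_max (pg_nn_ne_top hQ.pgroup hQ0)
  have b2 := bg12_2b hM hQ.pgroup hQ.le hH b1 (.inr (.inr a2))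
  obtain ⟨b3, -, -, b4, b5⟩ := bg12_18b hM hp hqp hPM rfl hQ0 (hPE.trans a3) a5
    (not_um_of hH b1 (ne_of_not_CJ b2)) hQ
  have b6 : Sg M ⊓ CC P ≠ ⊥ := fun e => b4 (inf_bot_mono e (Al_le_Sg hM) le_rfl)
  have b7 : Reg (Sg M) E3 := by
    refine (bg13_3b hM hE h3).reg (by_contra fun e => ?_)
    rw [← (bg13_3b hM hE h3).cc a4 hQ0] at e
    obtain ⟨d1, d2, -⟩ := bg13_2 hM (.inr a2) hQ.le hQ.pgroup hH b1
    have hQH := le_inf hQ.le ((le_nn Q).trans b1)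
    have e1 : Sg M ⊓ CC Q = Sg M ⊓ H := le_antisymm (inf_le_inf_left _ ((cc_le_nn Q).trans b1))
      (le_inf inf_le_left (cc_symm (d1 Q hQH hQ.pgroup)))
    obtain ⟨r, hr, r1⟩ := exists_prime_dvd e
    haveI := Fact.mk hr
    have r2 := Sg_pi M r hr (r1.trans (card_dvd inf_le_left))
    obtain ⟨R, r3, r4⟩ := cop_syl r (nn_inf (nn_Sg' hPM) (nn_cc (hPE.trans a3)))
      (coprime_mono (Sg_coprime (hE.pi.mono hPE)) le_rfl inf_le_left) (sol_of_le hM (inf_le_left.trans (Sg_le M)))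
    have r5 := syl_ne_bot r3 r1
    have hRM := r3.le.trans (inf_le_left.trans (Sg_le M))
    have hRH := r3.le.trans (e1.le.trans inf_le_right)
    have r6 : NN R ≤ M ∧ R ⊓ CC P = ⊥ := by
      by_cases f : r ∈ beta M
      · exact ⟨bg10_14d hM hRM (pi_of_pg r3.pgroup f) r5, eq_bot_of_le b5 (inf_le_left.trans
          (le_Al hM hRM (pi_of_pg r3.pgroup (beta_sub_alpha M f))))
          (le_cc_sup inf_le_right (inf_le_left.trans (r3.le.trans inf_le_right)))⟩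
      obtain ⟨T, t1, t2⟩ := (bg10_9a hM f (fun h => tau3_ns a2 (beta_sub_sigma hM h)) hQ.pgroup
        (.inl ⟨fun h => tau3_ns a2 (h ▸ r2), a4.trans (c0.trans (der_mono hE.le))⟩)).2.1
      have t3 := t1.of_card_le r3.pgroup (r3.le.trans inf_le_left) (r3.card_le t1.pgroup (le_inf t1.le (cc_symm t2)))
      exact ⟨sigma_nn r2 (Sg_syl hM r2 t3), cc_eq_bot_of_not_um hM hPM (h1.pi.mono hP) (prime_ne_bot h4) t3
        (not_um_of hH hRH (ne_of_not_CJ b2))⟩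
    have hPH := le_inf hPM (hPE.trans (a3.trans b1))
    rw [e1] at r3
    exact bg13_8 hM hH b2 hp (by_contra fun f => r5 (eq_bot_of_le r6.2 le_rfl (r3.le.trans (cc_symm
      (d2 P hPH (hE.pi.mono hPE) (pi_of_pg pP f)))))) hPH rfl (hQ.mono hQH inf_le_left)
      (((Sg_hall hM).normal_inf (nn_Sg' le_rfl) inf_le_left).syl_trans
        (by rwa [← inf_assoc, inf_eq_left.2 (Sg_le M)]) r2) (hPE.trans a3) r4 a5 r6.2 b1 r6.1
  refine ⟨by_contra fun e => b6 ?_, b7, b6⟩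
  have := bg13_7 hM hE h1 h3 e
  rw [this.cc (hP.trans le_sup_right) (prime_ne_bot h4), ← this.cc (a4.trans le_sup_left) hQ0, b7.cc a4 hQ0]
/-- BG 13.11 -/
theorem bg13_11 (hM : IsCoatom M) (hE : Hall (sigma M)ᶜ E M) (h1 : Hall (tau1 M) E1 E)
    (h3 : Hall (tau3 M) E3 E) (h : ¬ Reg (Sg M) E3) :
    E1 ≠ ⊥ ∧ E3 ⊔ E1 = E ∧ Prm (Sg M) E ∧ ∀ X ≤ E, (#X).Prime → E ≤ NN X := by
  obtain ⟨a1, a2⟩ := sup_of_tau2_empty hM hE h1 h3 fun p => tau2_empty_of_not_reg hM hE h3 h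
  obtain ⟨-, c1, c2, -⟩ := bg12_1_tau3 hM hE h3
  have a3 : ∀ P ≤ E1, (#P).Prime → P ≤ CC E3 := fun P a b => by_contra fun c =>
    h (bg13_10 hM hE h1 h3 a b c).2.1
  refine ⟨a1, a2, a2 ▸ bg13_7 hM hE h1 h3 fun e => ?_, fun X a b => ?_⟩
  · obtain ⟨P, a, b⟩ := exists_prime_sub a1
    have := eq_bot_of_le (e.cc a (prime_ne_bot b)) le_rfl (cc_symm (a3 P a b))
    exact h fun x hx hx1 => absurd (this ▸ hx : x ∈ ⊥) hx1
  rcases dvd_sup_l b (h1.le.trans c1) (a2.symm ▸ card_dvd a) with e | e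
  · exact cyc_nn c2 (h3.le_of_normal c1 a (pi_of_card rfl b (h3.pi _ b e))) c1
  obtain ⟨g, g1, g2⟩ := Hall.exists_cj_le (sol_of_le hM hE.le) h1 a (pi_of_card rfl b (h1.pi _ b e))
  have : cj g X ≤ CC E := a2 ▸ le_cc_sup (a3 _ g2 ((card_cj g X).symm ▸ b))
    (ab_le_cc (ab_of_cyc (bg12_1_tau1 hM (h1.le.trans hE.le) h1.pi)) g2 le_rfl)
  rw [← cj_eq_of_mem g1, ← cj_centralizer, cj_le_cj_iff] at this
  exact nn_of_cc (cc_symm this)
/-- BG 13.12 -/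
theorem bg13_12 [Fact q.Prime] (hM : IsCoatom M) (hE : Hall (sigma M)ᶜ E M) (hp : p ∈ tau1 M)
    (hq : q ∈ tau2 M) (hP : P ≤ E) (h1 : #P = p) (hA : El q 2 A E) (h : A ⊓ CC P ≠ ⊥) :
    Sg M ⊓ CC P = ⊥ := by
  by_contra h0
  haveI := Fact.mk (tau1_prime hp)
  have pP := pg_of_card h1
  have hP0 := prime_ne_bot (h1 ▸ tau1_prime hp)
  have hAM := hA.mono hE.le
  have key : ∀ R ≤ A ⊓ CC P, #R = q → Sg M ⊓ CC P ≤ CC R := fun R a b => bg13_4 hM hp (hP.trans hE.le) h1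
    (a.trans (inf_le_left.trans hAM.le)) (b ▸ tau2_prime hq) (b ▸ tau2_ns hq) (a.trans inf_le_right)
  obtain ⟨-, a1, a2, -⟩ := bg12_5 hM hq hAM
  have a3 : ¬ P ≤ CC A := fun e => h0 (eq_bot_of_le a1 inf_le_left (le_cc_iff.2 fun x hx => by
    by_cases d : x = 1
    · rw [d, C1_one]; exact le_top
    exact cc_zpowers x ▸ key _ (zpowers_le.2 (mem_inf.2 ⟨hx, cc_symm e hx⟩)) (hA.card_zpowers hx d)))
  obtain ⟨Y, y1, y2⟩ := pg_exists_card (hA.pg.to_le inf_le_left) h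
  have a4 := bg12_6c hM hq (y1.trans (inf_le_left.trans hAM.le)) y2 fun e =>
    h0 (eq_bot_of_le e inf_le_left (key Y y1 y2))
  obtain ⟨H, hH, b1⟩ := exists_max (pg_nn_ne_top hA.pg hA.ne_bot)
  obtain ⟨b2, -, -, -, b3⟩ := bg12_6ab hM hE hq hA
  have b4 : H ≠ M := fun e => b3 (e ▸ b1)
  obtain ⟨b5, b6, -⟩ := bg12_11 hM hE hq hA hH b1
  have hAH := (le_nn A).trans b1
  have hPH := hP.trans (b2.trans b1)
  have b7 := le_inf (pg_le_Sg hH (b5 q hq).1 (y1.trans (inf_le_left.trans hAH)) (pg_of_card y2))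
    (y1.trans inf_le_right)
  have b8 : p ∣ (CC A).relIndex E := by
    have := relIndex_dvd_of_nn (X := E) (A := E ⊓ CC A) inf_le_left hP (nn_inf (nn_of_le hP) (nn_cc (hP.trans b2)))
    rw [inf_relIndex_left] at this
    refine Dvd.dvd.trans ?_ this
    rw [← h1, ← card_inf_mul_relIndex (E ⊓ CC A) P, inf_comm,
      prime_inf (h1 ▸ tau1_prime hp) fun e => a3 (e.trans inf_le_right), card_bot, one_mul]
  rcases b6 p (tau1_prime hp) b8 with e | e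
  · exact b4 (a4.eq (bg13_6 hH hPH (pi_of_pg pP e) hP0 b7 y2).1)
  · exact h0 (inf_bot_mono (a2 H hH hAH b4) le_rfl (bg12_6c hH e hPH h1 fun d =>
      prime_ne_bot (y2 ▸ tau2_prime hq) (eq_bot_iff.2 (d ▸ b7))).le)
/-- elements centralized by a line of `τ₁ ∪ τ₃`-order -/
theorem um_of_tau13 [Fact q.Prime] (hM : IsCoatom M) (hp : p ∈ tau1 M ∪ tau3 M) (hP : P ≤ M) (h1 : #P = p)
    (hX : X ≤ Sg M ⊓ CC P) (h2 : #X = q) : UM (CC X) M ∧ ∀ S, IsSyl q S (Sg M) → UM S M := by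
  have hp' := (tau13_iff.1 hp).1
  rcases hp with e | e
  · exact bg13_6 hM hP (pi_of_card h1 hp' e) (prime_ne_bot (h1 ▸ hp')) hX h2
  obtain ⟨E, hE, a1⟩ := exists_compl_ge hM hP (pi_of_card h1 hp' (tau3_ns e))
  obtain ⟨E1, h3⟩ := exists_hall (sol_of_le hM hE.le) (tau1 M)
  obtain ⟨E3, h4, a2⟩ := exists_hall_ge (sol_of_le hM hE.le) a1 (pi_of_card h1 hp' e)
  obtain ⟨b1, -, b2, -⟩ := bg13_11 hM hE h3 h4 fun h => prime_ne_bot (h2 ▸ Fact.out)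
    (eq_bot_iff.2 (h.cc a2 (prime_ne_bot (h1 ▸ hp')) ▸ hX))
  exact bg13_6 hM (h3.le.trans hE.le) h3.pi b1 (hX.trans ((b2.cc a1 (prime_ne_bot (h1 ▸ hp'))).le.trans
    (inf_le_inf_left _ (cc_anti h3.le)))) h2
/-- BG 13.13 -/
theorem bg13_13 (hM : IsCoatom M) (hp : p ∈ tau1 M ∪ tau3 M) (hP : P ≤ M) (h1 : #P = p)
    (h : Sg M ⊓ CC P ≠ ⊥) (hH : IsCoatom H) (h2 : NN P ≤ H) : p ∈ sigma H := by
  have hp' := (tau13_iff.1 hp).1
  haveI := Fact.mk hp'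
  have pP := pg_of_card h1
  refine (bg12_2a hH pP h2).resolve_right fun e => ?_
  obtain ⟨Q, q1, hq⟩ := exists_prime_sub h
  haveI := Fact.mk hq
  have a1 := bg12_2b hM pP hP hH h2 (.inr hp)
  have a2 : #Q ∉ sigma H := bg13_9 hM hH a1 _ (Sg_pi M _ hq (card_dvd (q1.trans inf_le_left)))
  have hQP := q1.trans inf_le_right
  obtain ⟨E, hE, a3⟩ := exists_compl_ge hH (sup_le ((le_nn P).trans h2) (hQP.trans ((cc_le_nn P).trans h2)))
    ((pi_of_pg pP (tau2_ns e)).sup_l (pi_of_card rfl hq a2) (nn_of_cc hQP))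
  obtain ⟨A, hA⟩ := exists_el2_compl hE e
  obtain ⟨b1, b2, -⟩ := bg12_6ab hH hE e hA
  have b3 := b2 P (le_sup_left.trans a3) h1
  have b4 : ¬ Q ≤ CC A := fun d => (tau13_iff.1 hp).2.2.2
    (hA.of_le ((cc_symm d).trans (um_of_tau13 hM hp hP h1 q1 rfl).1.le)).rk
  have hQE := le_sup_right.trans a3
  have b5 : #Q ∈ tau1 H := (bg12_10c hH hE e hA).2 _ hq (by
    have := relIndex_dvd_of_nn (X := E) (A := E ⊓ CC A) inf_le_left hQE (nn_inf (nn_of_le hQE) (nn_cc (hQE.trans b1)))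
    rw [inf_relIndex_left] at this
    refine Dvd.dvd.trans ?_ this
    rw [← card_inf_mul_relIndex (E ⊓ CC A) Q, inf_comm,
      prime_inf hq fun e => b4 (e.trans inf_le_right), card_bot, one_mul])
  have b6 : P ≤ A ⊓ CC Q := le_inf b3 (cc_symm hQP)
  obtain ⟨-, -, b7, b8⟩ := bg12_9 hH hE e hA b5 hQE rfl (bg13_12 hH hE b5 e hQE rfl hA fun d =>
    prime_ne_bot (h1 ▸ hp') (eq_bot_iff.2 (d ▸ b6))) fun d => b4 (comm_eq_bot'.1 d)
  exact b8 (eq_of_card_le b6 (b7.trans h1.symm).le ▸ (cc_le_nn P).trans h2)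
end

end Cfsg.Agent.MS
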