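import Cfsg.Agent.Lib.MS.Sec13

/-!
BG section 14, first part (14.1 to 14.6).
-/

set_option linter.unusedSectionVars false
set_option linter.unusedVariables false
set_option linter.style.haveILetI false
set_option linter.unusedSimpArgs false

namespace Cfsg.Agent.MS

open Subgroup Cfsg.Agent.Transfer

universe u
variable {G : Type u} [Group G] [Finite G]

/-- `M` is of type `𝒫₁` -/
def TP1 (M : Subgroup G) : Prop := IsPi (sigma M ∪ kappa M) M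
/-- `M` is of type `𝒫₂` -/
def TP2 (M : Subgroup G) : Prop := (kappa M).Nonempty ∧ ¬ TP1 M
/-- the standard factorisation `M = M_σ U K` -/
structure KC (M U K : Subgroup G) : Prop where
  hK : Hall (kappa M) K M
  hU : Hall (sigma M ∪ kappa M)ᶜ U M
  nn : K ≤ NN U
/-- `ℓ_σ(x) = 1` -/
def L1 (x : G) : Prop := x ≠ 1 ∧ ∃ M : Subgroup G, IsCoatom M ∧ x ∈ Sg M
open Classical in
/-- `R(x)` -/
noncomputable def RR (x : G) : Subgroup G :=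
  if h : ∃ N, UM (C1 x) N ∧ x ∉ Sg N then Sg h.choose ⊓ C1 x else ⊥
/-- `M̃` -/
def Mt (M : Subgroup G) : Set G := {g | ∃ x ∈ Sg M, x ≠ 1 ∧ ∃ r ∈ RR x, g = x * r}
/-- the union of the conjugates of `A` -/
def CS (A : Set G) : Set G := {g | ∃ a ∈ A, ∃ y : G, g = y * a * y⁻¹}
/-- `H` meets its conjugates by elements outside `M` trivially -/
def TI (H M : Subgroup G) : Prop := ∀ g : G, g ∉ M → H ⊓ cj g H = ⊥

section
variable [hG : MinS G] {A B E E1 E2 E3 H K L M N P Q R S U V X Y : Subgroup G} {p q r : ℕ} {g x y : G}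

theorem Hall.sup_left' {π : Set ℕ} (h : Hall π H X) (h1 : IsPi πᶜ K) (h2 : X ≤ NN K) : Hall π H (X ⊔ K) :=
  sup_comm K X ▸ h.sup_left h1 h2
theorem RR_eq (h : UM (C1 x) N) (h1 : x ∉ Sg N) : RR x = Sg N ⊓ C1 x := by
  have h2 : ∃ N, UM (C1 x) N ∧ x ∉ Sg N := ⟨N, h, h1⟩
  rw [RR, dif_pos h2, h.eq h2.choose_spec.1]
theorem RR_eq_bot (hM : IsCoatom M) (hx : x ∈ Sg M) (h : C1 x ≤ M) : RR x = ⊥ :=
  dif_neg fun ⟨N, h1, h2⟩ => h2 (h1.uniq M hM h ▸ hx)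
theorem RR_le (x : G) : RR x ≤ C1 x := by
  unfold RR; split_ifs
  exacts [inf_le_right, bot_le]
theorem cj_RR (g x : G) : cj g (RR x) = RR (g * x * g⁻¹) := by
  by_cases h : ∃ N, UM (C1 x) N ∧ x ∉ Sg N
  · obtain ⟨N, h1, h2⟩ := h
    rw [RR_eq h1 h2, RR_eq (cj_centralizer_singleton g x ▸ h1.cj g)
      (by rwa [← cj_Sg, conj_mem_cj_iff]), cj_inf, cj_Sg, cj_centralizer_singleton]
  · rw [RR, dif_neg h, RR, dif_neg, cj_bot]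
    rintro ⟨N, h1, h2⟩
    refine h ⟨cj g⁻¹ N, ?_, by rwa [← cj_Sg, mem_cj, inv_inv]⟩
    have := h1.cj g⁻¹
    rwa [← cj_centralizer_singleton, cj_inv_cj] at this
include hG

theorem kappa_eq_empty_iff (hK : Hall (kappa M) K M) : kappa M = ∅ ↔ K = ⊥ :=
  ⟨fun h => hK.eq_bot_iff.2 fun p _ _ a => (h ▸ a : p ∈ (∅ : Set ℕ)),
   fun h => Set.eq_empty_of_forall_notMem fun p a => hK.eq_bot_iff.1 h p (kappa_prime a) (kappa_dvd a) a⟩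
theorem kappa_nonempty_iff (hK : Hall (kappa M) K M) : (kappa M).Nonempty ↔ K ≠ ⊥ := by
  rw [Set.nonempty_iff_ne_empty, Ne, kappa_eq_empty_iff hK]
theorem TP1.nonempty (hM : IsCoatom M) (h : TP1 M) : (kappa M).Nonempty := Set.nonempty_iff_ne_empty.2 fun e =>
  (der_lt_max hM).not_ge ((le_Sg hM le_rfl fun p a b => (h p a b).resolve_right
    fun c => (e ▸ c : p ∈ (∅ : Set ℕ))).trans (Sg_le_der hM))
theorem KC.tp1_iff (h : KC M U K) : TP1 M ↔ U = ⊥ := by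
  rw [h.hU.eq_bot_iff, compl_compl, TP1]
omit hG in
theorem TP1.cj (h : TP1 M) [MinS G] (g : G) : TP1 (cj g M) := by
  rw [TP1, sigma_cj, kappa_cj]; exact IsPi.cj h g
theorem CJ.tp1 (h : CJ M N) (h1 : TP1 M) : TP1 N := by obtain ⟨g, rfl⟩ := h; exact h1.cj g
theorem CJ.kappa (h : CJ M N) : kappa N = kappa M := by obtain ⟨g, rfl⟩ := h; exact kappa_cj g M
theorem CJ.tau2 (h : CJ M N) : tau2 N = tau2 M := by obtain ⟨g, rfl⟩ := h; exact tau2_cj g M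
theorem cj_of_sigma (hM : IsCoatom M) (hH : IsCoatom H) (h1 : p ∈ sigma M) (h2 : p ∈ sigma H) : CJ M H :=
  by_contra fun h => bg13_9 hM hH h p h1 h2
theorem Sg_pi_ns (hM : IsCoatom M) (hH : IsCoatom H) (h : ¬ CJ M H) : IsPi (sigma M)ᶜ (Sg H) :=
  (Sg_pi H).sub fun p a b => bg13_9 hM hH h p b a
theorem kappa_pi_ns (h : IsPi (kappa M) K) : IsPi (sigma M)ᶜ K := h.sub fun _ a => kappa_ns a
theorem kappa_cc (hp : p ∈ kappa M) (hX : X ≤ M) (h : #X = p) : Sg M ⊓ CC X ≠ ⊥ := by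
  haveI := Fact.mk (kappa_prime hp)
  obtain ⟨-, P, a, b, c⟩ := mem_kappa.1 hp
  obtain ⟨S, s1, s2⟩ := exists_isSyl_ge (pg_of_card h) hX
  obtain ⟨g, g1, g2⟩ := s1.exists_cj_le (pg_of_card b) a
  rw [← cyc_eq (pg_cyc s1.pgroup fun e => kappa_rk hp (e.mono s1.le)) g2 s2 (((card_cj g P).trans b).trans h.symm),
    ← cj_centralizer, ← cj_nn (nn_Sg' le_rfl g1), ← cj_inf]
  exact fun e => c (cj_eq_bot_iff.1 e)
theorem kappa_of_cc (hp : #X ∈ tau1 M ∪ tau3 M) (hX : X ≤ M) (h : Sg M ⊓ CC X ≠ ⊥) : #X ∈ kappa M :=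
  mem_kappa.2 ⟨hp, X, hX, rfl, h⟩
theorem exists_sigma (hp : p.Prime) (h : p ∣ #G) : ∃ M : Subgroup G, IsCoatom M ∧ p ∈ sigma M := by
  haveI := Fact.mk hp
  obtain ⟨P, hP⟩ := exists_isSyl p (⊤ : Subgroup G)
  obtain ⟨M, a, -, -, b⟩ := exists_max_nn_syl hP (syl_ne_bot hP (card_top (G := G) ▸ h))
  exact ⟨M, a, b⟩
/-- a nontrivial `σ(M)`-element has `σ`-length one -/
theorem l1_of_piE (hM : IsCoatom M) (h : PiE (sigma M) x) (h1 : x ≠ 1) :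
    ∃ g, x ∈ Sg (cj g M) := by
  obtain ⟨g, h2⟩ := bg12_16 hM h
  exact ⟨g⁻¹, cj_Sg g⁻¹ M ▸ cj_le_iff_le_cj_inv.1 h2 (mem_zpowers x)⟩
theorem mem_Sg (hM : IsCoatom M) (hx : x ∈ M) (h : PiE (sigma M) x) : x ∈ Sg M :=
  h.mem_hall (Sg_hall hM) hx (nn_Sg' le_rfl hx)
/-- BG 14.1 -/
theorem bg14_1 [Fact p.Prime] (hM : IsCoatom M) (hp : p ∉ sigma M ∪ kappa M) (hS : IsSyl p S M)
    (h0 : S ≠ ⊥) : IsMulCommutative S ∧ Sg M ⊓ CC (omegaOne p S) = ⊥ ∧ Group.IsNilpotent (Sg M) := by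
  have h1 : p ∉ sigma M := fun e => hp (.inl e)
  by_cases h : p ∈ tau2 M
  · obtain ⟨a, -, b⟩ := bg12_5b hM h hS
    obtain ⟨A, hA⟩ := (tau2_rk h).syl hS
    exact ⟨a, b A hA ▸ (bg12_5 hM h (hA.mono hS.le)).2.1, bg12_5a hM h⟩
  have h2 : ¬ Rk p 2 M := fun e => h (mem_tau2_of hM h1 e)
  have h3 := pg_cyc hS.pgroup fun e => h2 (e.mono hS.le)
  have h4 := omega_cyc h3 (pg_dvd hS.pgroup h0)
  have h5 := (omega_le p S).trans hS.le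
  have h6 : Sg M ⊓ CC (omegaOne p S) = ⊥ := by_contra fun e => hp (.inr (h4 ▸ kappa_of_cc (h4.symm ▸
    tau13_iff.2 ⟨Fact.out, h1, h4 ▸ card_dvd h5, h2⟩) h5 e))
  exact ⟨ab_of_cyc h3, h6, prime_nil (h4.symm ▸ Fact.out) (nn_Sg' h5) h6⟩
theorem Sg_nil_of_not_tp1 (hM : IsCoatom M) (h : ¬ TP1 M) : Group.IsNilpotent (Sg M) := by
  obtain ⟨p, a, b, c⟩ : ∃ p, p.Prime ∧ p ∣ #M ∧ p ∉ sigma M ∪ kappa M := by
    by_contra! e
    exact h e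
  haveI := Fact.mk a
  obtain ⟨S, hS⟩ := exists_isSyl p M
  exact (bg14_1 hM c hS (syl_ne_bot hS b)).2.2
theorem Sg_cc_eq_bot (hM : IsCoatom M) (hU : Hall (sigma M ∪ kappa M)ᶜ U M) (h0 : U ≠ ⊥) : Sg M ⊓ CC U = ⊥ := by
  obtain ⟨p, a, b⟩ := exists_prime_dvd h0
  haveI := Fact.mk a
  obtain ⟨S, hS⟩ := exists_isSyl p U
  exact inf_bot_mono (bg14_1 hM (hU.pi p a b) (hU.syl_trans hS (hU.pi p a b)) (syl_ne_bot hS b)).2.1 le_rfl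
    (cc_anti ((omega_le _ _).trans hS.le))
theorem kappa_cases (hM : IsCoatom M) (hK : Hall (kappa M) K M) (h0 : K ≠ ⊥) (hE : Hall (sigma M)ᶜ E M)
    (h : K ≤ E) : (K = E ∧ Prm (Sg M) E ∧ ∀ X ≤ E, (#X).Prime → E ≤ NN X) ∨ Hall (tau1 M) K E := by
  have hs := sol_of_le hM hE.le
  have key : ∀ L ≤ M, K ≤ L → Prm (Sg M) L → IsPi (tau1 M ∪ tau3 M) L → L = K := fun L a b c d => by
    obtain ⟨X, x1, x2⟩ := exists_prime_sub h0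
    refine hK.eq_of_le a (fun s e f => ?_) b
    obtain ⟨Y, y1, rfl⟩ := exists_card_eq e f
    refine kappa_of_cc (d _ e f) (y1.trans a) ?_
    rw [c.cc y1 (prime_ne_bot e), ← c.cc (x1.trans b) (prime_ne_bot x2)]
    exact kappa_cc (hK.pi _ x2 (card_dvd x1)) (x1.trans hK.le) rfl
  by_cases h1 : IsPi (tau1 M) K
  · obtain ⟨E1, a, b⟩ := exists_hall_ge hs h h1
    exact .inr (key E1 (a.le.trans hE.le) b (bg13_5 hM (a.le.trans hE.le) a.pi)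
      (a.pi.sub Set.subset_union_left) ▸ a)
  obtain ⟨p, a, b, c⟩ : ∃ p, p.Prime ∧ p ∣ #K ∧ p ∉ tau1 M := by
    by_contra! e
    exact h1 e
  obtain ⟨X, x1, rfl⟩ := exists_card_eq a b
  obtain ⟨E1, h2⟩ := exists_hall hs (tau1 M)
  obtain ⟨E3, h3, x2⟩ := exists_hall_ge hs (x1.trans h)
    (pi_of_card rfl a ((kappa_13 (hK.pi _ a b)).resolve_left c))
  obtain ⟨-, b1, b2, b3⟩ := bg13_11 hM hE h2 h3 fun e =>
    kappa_cc (hK.pi _ a b) (x1.trans hK.le) rfl (e.cc x2 (prime_ne_bot a))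
  exact .inl ⟨(key E hE.le h b2 (b1 ▸ (h3.pi.sub Set.subset_union_right).sup_l (h2.pi.sub Set.subset_union_left)
    (h2.le.trans (bg12_1_tau3 hM hE h3).2.1))).symm, b2, b3⟩
theorem kappa_nn (hM : IsCoatom M) (hK : Hall (kappa M) K M) (hX : X ≤ K) (h : (#X).Prime) : K ≤ NN X := by
  obtain ⟨E, hE, h1⟩ := exists_compl_ge hM hK.le (kappa_pi_ns hK.pi)
  rcases kappa_cases hM hK (fun e => prime_ne_bot h (eq_bot_iff.2 (e ▸ hX))) hE h1 with e | e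
  · exact h1.trans (e.2.2 X (hX.trans h1) h)
  · exact ab_nn (ab_of_cyc (bg12_1_tau1 hM hK.le e.pi)) le_rfl hX
/-- BG 14.2(a) -/
theorem exists_KC (hM : IsCoatom M) (hK : Hall (kappa M) K M) : ∃ U, KC M U K := by
  by_cases h0 : K = ⊥
  · obtain ⟨U, hU⟩ := exists_hall (max_sol hM) (sigma M ∪ kappa M)ᶜ
    exact ⟨U, hK, hU, h0.le.trans bot_le⟩
  obtain ⟨E, hE, h1⟩ := exists_compl_ge hM hK.le (kappa_pi_ns hK.pi)
  have key : ∀ U, Hall (kappa M)ᶜ U E → Hall (sigma M ∪ kappa M)ᶜ U M := fun U h => by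
    rw [Set.compl_union, Set.inter_comm]; exact h.trans' hE
  rcases kappa_cases hM hK h0 hE h1 with e | e
  · exact ⟨⊥, hK, key _ (Hall.bot (e.1 ▸ hK.pi.compl_compl)), nn_bot⟩
  obtain ⟨E2, E3, h2⟩ := exists_SC1 hM hE e
  obtain ⟨a, b⟩ := h2.sup hM
  refine ⟨E3 ⊔ E2, hK, key _ ?_, h1.trans b⟩
  have c : IsPi (kappa M)ᶜ (E3 ⊔ E2) := (h2.h3.pi.sub' fun p p1 p2 p3 p4 => tau1_not3 (e.pi p p1
    (hK.dvd p1 p4 (kappa_dvd p4))) p3).sup_l (h2.h2.pi.sub fun p p1 p2 => kappa_not2 p2 p1)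
    (h2.h2.le.trans (bg12_1_tau3 hM hE h2.h3).2.1)
  exact a ▸ Hall.of_sup c hK.pi.compl_compl (h1.trans b)
theorem KC.compl (hM : IsCoatom M) (h : KC M U K) : Hall (sigma M)ᶜ (U ⊔ K) M := by
  have h1 := h.hU.sup_union h.hK h.nn
  exact h1.congr fun p _ _ => ⟨fun a => a.elim (fun b c => b (.inl c)) kappa_ns,
    fun a => or_iff_not_imp_right.2 fun b c => c.elim a b⟩
theorem KC.pi (h : KC M U K) : IsPi (kappa M)ᶜ U := h.hU.pi.sub fun _ a b => a (.inr b)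
theorem KC.pi' (h : KC M U K) : IsPi (sigma M)ᶜ U := h.hU.pi.sub fun _ a b => a (.inl b)
theorem KC.coprime (h : KC M U K) : (#K).Coprime #U := h.hK.pi.coprime h.pi
theorem KC.reg (hM : IsCoatom M) (h : KC M U K) : Reg U K := reg_of_prime fun P a b => by_contra fun c => by
  obtain ⟨Y, y1, y2⟩ := exists_prime_sub c
  have hE := h.compl hM
  have hY := y1.trans inf_le_left
  have y3 := h.pi _ y2 (card_dvd hY)
  have hP := kappa_cc (h.hK.pi _ b (card_dvd a)) (a.trans h.hK.le) rfl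
  rcases kappa_cases hM h.hK (fun e => prime_ne_bot b (eq_bot_iff.2 (e ▸ a))) hE le_sup_right with e | e
  · exact y3 (h.hK.pi _ y2 (card_dvd (hY.trans (le_sup_left.trans e.1.ge))))
  have hYE := hY.trans (le_sup_left : U ≤ U ⊔ K)
  rcases compl_tau hM hE y2 (card_dvd hYE) with d | d | d
  · exact y3 (h.hK.pi _ y2 (e.dvd y2 d (card_dvd hYE)))
  · haveI := Fact.mk y2
    obtain ⟨A, hA⟩ := exists_el2_compl hE d
    exact hP (bg13_12 hM hE (e.pi _ b (card_dvd a)) d (a.trans le_sup_right) rfl hA fun f => prime_ne_bot y2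
      (eq_bot_of_le f ((bg12_6ab hM hE d hA).2.1 Y hYE rfl) (y1.trans inf_le_right)))
  · obtain ⟨E3, h3, y4⟩ := exists_hall_ge (sol_of_le hM hE.le) hYE (pi_of_card rfl y2 d)
    have := bg13_7 hM hE e h3 fun f => prime_ne_bot y2 (eq_bot_of_le (f.cc a (prime_ne_bot b)) y4
      (y1.trans inf_le_right))
    refine y3 (kappa_of_cc (.inr d) (hYE.trans hE.le) ?_)
    rwa [this.cc (y4.trans le_sup_left) (prime_ne_bot y2), ← this.cc (a.trans le_sup_right) (prime_ne_bot b)]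
theorem KC.comm (hM : IsCoatom M) (h : KC M U K) (h0 : K ≠ ⊥) : ⁅U, K⁆ = U :=
  cop_comm_eq h.nn h.coprime (sol_of_le hM h.hU.le) ((h.reg hM).cc le_rfl h0)
theorem KC.ab (hM : IsCoatom M) (h : KC M U K) (h0 : K ≠ ⊥) : IsMulCommutative U :=
  ab_mono (bg12_10b hM (h.compl hM)) ((h.comm hM h0).ge.trans (commutator_mono le_sup_left le_sup_right))
theorem bg14_2a (hM : IsCoatom M) (hK : Hall (kappa M) K M) : Prm (Sg M) K := by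
  by_cases h0 : K = ⊥
  · exact fun x a b => absurd (h0 ▸ a : x ∈ ⊥) b
  obtain ⟨E, hE, h1⟩ := exists_compl_ge hM hK.le (kappa_pi_ns hK.pi)
  rcases kappa_cases hM hK h0 hE h1 with e | e
  exacts [e.1 ▸ e.2.1, bg13_5 hM hK.le e.pi]
theorem bg14_2b_aux (hM : IsCoatom M) (hK : Hall (kappa M) K M) (hX : X ≤ K) (h0 : X ≠ ⊥) (h : K ≤ NN X) :
    M ⊓ NN X = K ⊔ (Sg M ⊓ CC K) := by
  obtain ⟨U, hU⟩ := exists_KC hM hK
  have hE := hU.compl hM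
  rw [← Sg_sup hM hE, bg6_5b (sol_of_le hM (Sg_le M)) (nn_Sg' hE.le) (hX.trans le_sup_right)
    (Sg_coprime (kappa_pi_ns (hK.pi.mono hX))), bg6_5b (sol_of_le hM hU.hU.le) hU.nn hX
    (coprime_mono hU.coprime hX le_rfl), (hU.reg hM).cc hX h0, bot_sup_eq, inf_eq_left.2 h,
    (bg14_2a hM hK).cc hX h0, Sg_sup hM hE, sup_comm]
/-- BG 14.2(b) -/
theorem bg14_2b (hM : IsCoatom M) (hK : Hall (kappa M) K M) (hX : X ≤ K) (h : (#X).Prime) :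
    M ⊓ NN X = K ⊔ (Sg M ⊓ CC K) ∧ ∀ H, IsCoatom H → NN X ≤ H → X ≤ Sg H := by
  haveI := Fact.mk h
  have h1 := hK.pi _ h (card_dvd hX)
  exact ⟨bg14_2b_aux hM hK hX (prime_ne_bot h) (kappa_nn hM hK hX h), fun H a b => pg_le_Sg a
    (bg13_13 hM (kappa_13 h1) (hX.trans hK.le) rfl (kappa_cc h1 (hX.trans hK.le) rfl) a b) ((le_nn X).trans b)
    (pg_of_card rfl)⟩
theorem bg14_2b' (hM : IsCoatom M) (hK : Hall (kappa M) K M) (h0 : K ≠ ⊥) :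
    M ⊓ NN K = K ⊔ (Sg M ⊓ CC K) := bg14_2b_aux hM hK le_rfl h0 (le_nn K)
/-- BG 14.2(c) -/
theorem bg14_2c (hM : IsCoatom M) (hK : Hall (kappa M) K M) : Sg M ⊓ CC K ≠ ⊥ := by
  by_cases h0 : K = ⊥
  · rw [h0, cc_bot, inf_top_eq]; exact Sg_ne_bot hM
  obtain ⟨X, a, b⟩ := exists_prime_sub h0
  exact (bg14_2a hM hK).cc a (prime_ne_bot b) ▸ kappa_cc (hK.pi _ b (card_dvd a)) (a.trans hK.le) rfl
theorem bg14_2c' (hM : IsCoatom M) (hK : Hall (kappa M) K M) (h0 : K ≠ ⊥) (hX : X ≤ Sg M ⊓ CC K)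
    (h : (#X).Prime) : UM (CC X) M := by
  haveI := Fact.mk h
  obtain ⟨P, a, b⟩ := exists_prime_sub h0
  exact (um_of_tau13 hM (kappa_13 (hK.pi _ b (card_dvd a))) (a.trans hK.le) rfl
    (hX.trans (inf_le_inf_left _ (cc_anti a))) rfl).1
/-- BG 14.2(d) -/
theorem bg14_2d (hM : IsCoatom M) (hK : Hall (kappa M) K M) (h0 : K ≠ ⊥) (hg : g ∉ M) :
    Sg M ⊓ CC K ⊓ cj g M = ⊥ := by
  by_contra e
  obtain ⟨X, a, b⟩ := exists_prime_sub e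
  haveI := Fact.mk b
  have c := a.trans inf_le_left
  exact hg (M.inv_mem_iff.1 (bg10_1e hM (Sg_pi M _ b (card_dvd (c.trans inf_le_left))) (pg_of_card rfl)
    (c.trans (inf_le_left.trans (Sg_le M))) (bg14_2c' hM hK h0 c b).le
    (le_cj_iff_cj_inv_le.1 (a.trans inf_le_right))))
theorem kappa_le_of_le (hK : Hall (kappa M) K M) (h : L ≤ K ⊔ (Sg M ⊓ CC K)) (h1 : IsPi (kappa M) L) : L ≤ K :=
  (hK.mono le_sup_left (sup_le hK.le (inf_le_left.trans (Sg_le M)))).le_of_normal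
    (sup_le (le_nn K) (nn_of_cc inf_le_right)) h h1
theorem bg14_2d' (hM : IsCoatom M) (hK : Hall (kappa M) K M) (hg : g ∈ M) (h : g ∉ NN K) :
    K ⊓ cj g K = ⊥ := by
  by_contra e
  obtain ⟨X, a, b⟩ := exists_prime_sub e
  have h1 := hK.cj_nn (le_nn M hg)
  exact h (mem_normalizer_of_cj_le (kappa_le_of_le hK ((le_inf h1.le (kappa_nn hM h1 (a.trans inf_le_right) b)).trans
    (bg14_2b hM hK (a.trans inf_le_left) b).1.le) h1.pi))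
/-- BG 14.2(e) -/
theorem bg14_2e [Fact p.Prime] (hM : IsCoatom M) (hK : Hall (kappa M) K M) (h0 : K ≠ ⊥)
    (hp : p ∣ #(Sg M ⊓ CC K : Subgroup G)) (hS : IsSyl p S (Sg M)) : UM S M ∧ ¬ S ≤ CC K := by
  obtain ⟨P, a, b⟩ := exists_prime_sub h0
  obtain ⟨X, c, d⟩ := exists_card_eq Fact.out hp
  have h1 := hK.pi _ b (card_dvd a)
  have h2 := (um_of_tau13 hM (kappa_13 h1) (a.trans hK.le) rfl
    (c.trans (inf_le_inf_left _ (cc_anti a))) d).2 S hS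
  refine ⟨h2, fun e => ?_⟩
  obtain ⟨H, hH, h3⟩ := exists_max (nn_ne_top' hM (a.trans hK.le) (prime_ne_bot b))
  have h4 := (bg14_2b hM hK a b).2 H hH h3
  rw [h2.uniq H hH (e.trans ((cc_anti a).trans ((cc_le_nn P).trans h3)))] at h4
  exact kappa_ns h1 (Sg_pi M _ b (card_dvd h4))
/-- BG 14.2(f) -/
theorem bg14_2f (hM : IsCoatom M) (hK : Hall (kappa M) K M) (h0 : K ≠ ⊥) (hY : IsPi (sigma M) Y)
    (h : Y ⊓ (Sg M ⊓ CC K) ≠ ⊥) : Y ≤ Sg M := by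
  obtain ⟨g, h1⟩ := bg12_16 hM hY
  rw [cj_le_iff_le_cj_inv] at h1
  have : g⁻¹ ∈ M := by_contra fun e => h (eq_bot_of_le (bg14_2d hM hK h0 e) inf_le_right
    (inf_le_left.trans (h1.trans (cj_mono _ (Sg_le M)))))
  exact h1.trans (cj_nn (nn_Sg' le_rfl this)).le
/-- BG 14.2(g) -/
theorem bg14_2g (hM : IsCoatom M) (hK : Hall (kappa M) K M) (h : TP2 M) :
    sigma M = beta M ∧ (#K).Prime ∧ TI (Sg M) M := by
  obtain ⟨U, hU⟩ := exists_KC hM hK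
  have h0 := (kappa_nonempty_iff hK).1 h.1
  have h1 : U ≠ ⊥ := fun e => h.2 (hU.tp1_iff.2 e)
  have hE := hU.compl hM
  have h2 := Sg_cc_eq_bot hM hU.hU h1
  obtain ⟨H, a, b⟩ := bg12_19 hM hE
  have h3 : IsPi (beta M) (Sg M) := by
    have := a.eq_bot_iff.1 (eq_bot_of_le h2 a.le (cc_symm (((hU.comm hM h0).ge.trans
      (commutator_mono le_sup_left le_sup_right)).trans b)))
    rwa [compl_compl] at this
  exact ⟨le_antisymm (fun p c => h3 p (sigma_prime c) (dvd_Sg hM c)) (beta_sub_sigma hM),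
    (bg3_10 h1 h0 hU.nn (hU.reg hM) (sol_of_le hM hE.le) (odd_sub _) (Sg_ne_bot hM) (Sg_nil_of_not_tp1 hM h.2)
      (nn_Sg' hU.hU.le) (nn_Sg' hK.le) (Sg_coprime hE.pi) h2 (bg14_2a hM hK)).1,
    fun g hg => inf_bot_mono ((h3.mono inf_le_left).eq_bot (bg12_17b hM hg).2.1) le_rfl (cj_mono g (Sg_le M))⟩
omit hG in
theorem exists_line (h : x ≠ 1) : ∃ X ≤ zpowers x, (#X).Prime := exists_prime_sub (by simpa using h)
omit hG in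
theorem C1_le_cc (h : X ≤ zpowers x) : C1 x ≤ CC X := cc_zpowers x ▸ cc_anti h
theorem tau2_sub_sigma (hM : IsCoatom M) (hp : p ∈ tau2 M) :
    ∃ H : Subgroup G, IsCoatom H ∧ tau2 M ⊆ sigma H := by
  haveI := Fact.mk (tau2_prime hp)
  obtain ⟨E, hE⟩ := exists_hall (max_sol hM) (sigma M)ᶜ
  obtain ⟨A, hA⟩ := exists_el2_compl hE hp
  obtain ⟨H, hH, h⟩ := exists_max (pg_nn_ne_top hA.pg hA.ne_bot)
  exact ⟨H, hH, fun q a => ((bg12_11 hM hE hp hA hH h).1 q a).1⟩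
/-- BG 14.3 -/
theorem bg14_3 (hM : IsCoatom M) (hx : x ∈ Sg M) (h1 : x ≠ 1) (hy : y ∈ M) (h2 : y ∈ C1 x) (h3 : y ≠ 1)
    (h4 : PiE (sigma M)ᶜ y) :
    (PiE (kappa M) y ∧ C1 x ≤ M) ∨ (PiE (tau2 M) y ∧ L1 y ∧ UM (C1 y) M) := by
  by_cases h : PiE (tau2 M) y
  · refine .inr ⟨h, ⟨h3, ?_⟩, bg12_10e hM hy h3 h (ne_bot_of_mem (mem_inf.2 ⟨hx, mem_C1_comm.1 h2⟩) h1)⟩
    obtain ⟨X, a, b⟩ := exists_line h3
    obtain ⟨H, hH, c⟩ := tau2_sub_sigma hM (h _ b (card_dvd a))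
    obtain ⟨g, d⟩ := l1_of_piE hH (h.sub c) h3
    exact ⟨_, max_cj hH g, d⟩
  obtain ⟨p, a, b, c⟩ : ∃ p, p.Prime ∧ p ∣ #(zpowers y) ∧ p ∉ tau2 M := by
    by_contra! e
    exact h e
  obtain ⟨X, x1, rfl⟩ := exists_card_eq a b
  have hXM := x1.trans (zpowers_le.2 hy)
  have h5 : x ∈ Sg M ⊓ CC X := mem_inf.2 ⟨hx, C1_le_cc x1 (mem_C1_comm.1 h2)⟩
  have h6 : #X ∈ kappa M := kappa_of_cc (((tau_cases hM a (card_dvd hXM)).resolve_left (h4 _ a b)).elim .inl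
    fun d => .inr (d.resolve_left c)) hXM (ne_bot_of_mem h5 h1)
  obtain ⟨K, hK, x2⟩ := exists_hall_ge (max_sol hM) hXM (pi_of_card rfl a h6)
  have h7 : K ≠ ⊥ := fun e => prime_ne_bot a (eq_bot_iff.2 (e ▸ x2))
  rw [(bg14_2a hM hK).cc x2 (prime_ne_bot a)] at h5
  obtain ⟨Y, y1, y2⟩ := exists_line h1
  refine .inl ⟨hK.pi.piE (h4.mem_hall ((Hall.self (kappa_pi_ns hK.pi)).sup_left' ((Sg_pi M).mono inf_le_left).compl_compl
    (nn_of_cc (cc_symm inf_le_right))) ?_ ?_), (C1_le_cc y1).trans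
    (bg14_2c' hM hK h7 (y1.trans (zpowers_le.2 h5)) y2).le⟩
  · exact (bg14_2b hM hK x2 a).1.le (mem_inf.2 ⟨hy, cc_le_nn X (C1_le_cc x1 (self_mem_C1 y))⟩)
  · exact (sup_le (le_nn K) (nn_of_cc inf_le_right) : K ⊔ (Sg M ⊓ CC K) ≤ NN K)
      ((bg14_2b hM hK x2 a).1.le (mem_inf.2 ⟨hy, cc_le_nn X (C1_le_cc x1 (self_mem_C1 y))⟩))
theorem bg14_4_aux (hM : IsCoatom M) (hx : x ∈ Sg M) (hX : X ≤ zpowers x) (h : (#X).Prime) (hN : IsCoatom N)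
    (h1 : NN X ≤ N) (h2 : N ≠ M) : ¬ CJ M N ∧ #X ∈ tau2 N ∧ (∀ r ∈ sigma N, r ∣ #M → r ∈ beta N) ∧
      Hall (sigma N)ᶜ (M ⊓ N) N ∧ ∀ g ∈ N, g * x * g⁻¹ ∈ M → ∃ a ∈ M, ∃ c ∈ Sg N ⊓ C1 x, g = a * c := by
  haveI := Fact.mk h
  have a1 := hX.trans (zpowers_le.2 hx)
  have a2 := Sg_pi M _ h (card_dvd a1)
  obtain ⟨S, s1, s2⟩ := exists_isSyl_ge (p := #X) (pg_of_card rfl) (le_inf (a1.trans (Sg_le M)) ((le_nn X).trans h1))
  obtain ⟨b1, -, -, -, b2⟩ := bg12_15 hM a2 (a1.trans (Sg_le M)) (pg_of_card rfl) (prime_ne_bot h) hN h1 h2 s1 s2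
  obtain ⟨b3, b4, b5⟩ := b2 (bg13_9 hM hN b1 _ a2)
  refine ⟨b1, b3, b4, b5, fun g c d => ?_⟩
  have hxN : x ∈ N := h1 (cc_le_nn X (C1_le_cc hX (self_mem_C1 x)))
  have a3 : zpowers x ≤ M ⊓ N := zpowers_le.2 (mem_inf.2 ⟨Sg_le M hx, hxN⟩)
  obtain ⟨a, e1, c, e2, e3⟩ := bg6_5c (g := g) (sol_of_le hN (Sg_le N)) (nn_Sg' inf_le_right) a3
    (Sg_coprime (b5.pi.mono a3)) ((Sg_sup hN b5).ge c) (by
      rw [cj_zpowers]; exact zpowers_le.2 (mem_inf.2 ⟨d, mul_mem (mul_mem c hxN) (inv_mem c)⟩))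
  exact ⟨a, e1.1, c, cc_zpowers x ▸ e2, e3⟩
/-- BG 14.4, when `C(x) ⊄ M` -/
theorem bg14_4 (hM : IsCoatom M) (hx : x ∈ Sg M) (h1 : x ≠ 1) (h : ¬ C1 x ≤ M) :
    ∃ N, UM (C1 x) N ∧ PiE (tau2 N) x ∧ RR x = Sg N ⊓ C1 x ∧ RR x ≠ ⊥ ∧ ¬ TP1 N ∧
      RR x ⊔ (M ⊓ C1 x) = C1 x ∧ tau2 N ⊆ sigma M ∧ (∀ r ∈ sigma N, r ∣ #M → r ∈ beta N) ∧
      Hall (sigma N)ᶜ (M ⊓ N) N ∧ ¬ CJ M N := by
  obtain ⟨X, a, b⟩ := exists_line h1
  obtain ⟨N, hN, c⟩ := exists_max (nn_ne_top' hM (a.trans (zpowers_le.2 (Sg_le M hx))) (prime_ne_bot b))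
  have d := (C1_le_cc a).trans ((cc_le_nn X).trans c)
  obtain ⟨a1, a2, a3, a4, a5⟩ := bg14_4_aux hM hx a b hN c fun e => h (e ▸ d)
  have e1 : Sg N ⊓ C1 x ⊔ M ⊓ C1 x = C1 x := le_antisymm (sup_le inf_le_right inf_le_right) fun g hg => by
    obtain ⟨u, u1, v, v1, rfl⟩ := a5 g (d hg) ((conj_eq_of_C1 hg).symm ▸ Sg_le M hx)
    exact mul_mem (mem_sup_right (mem_inf.2 ⟨u1, ((C1 x).mul_mem_cancel_right v1.2).1 hg⟩)) (mem_sup_left v1)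
  have e2 : Sg N ⊓ C1 x ≠ ⊥ := fun e => h (by rw [← e1, e, bot_sup_eq]; exact inf_le_left)
  have e3 : PiE (sigma N)ᶜ x := a4.pi.piE (mem_inf.2 ⟨Sg_le M hx, d (self_mem_C1 x)⟩)
  obtain ⟨z, z1, z2⟩ := exists_ne_one e2
  obtain ⟨e4, -, e5⟩ := (bg14_3 hN z1.1 z2 (d (self_mem_C1 x)) (mem_C1_comm.1 z1.2) h1 e3).resolve_left
    fun e => kappa_not2 (e.1 _ b (card_dvd a)) a2
  have e6 := RR_eq e5 fun e => h1 (((Sg_pi N).piE e).eq_one e3)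
  obtain ⟨H, hH, e7⟩ := tau2_sub_sigma hN a2
  exact ⟨N, e5, e4, e6, e6 ▸ e2, fun e => (e _ b (tau2_dvd a2)).elim (tau2_ns a2) fun f => kappa_not2 f a2,
    e6 ▸ e1, (cj_of_sigma hM hH (Sg_pi M _ b (card_dvd (a.trans (zpowers_le.2 hx)))) (e7 a2)).sigma ▸ e7,
    a3, a4, a1⟩
/-- BG 14.4, sharp transitivity of `R(x)` on `ℳ_σ(x)` -/
theorem bg14_4t (hM : IsCoatom M) (hx : x ∈ Sg M) (h1 : x ≠ 1) (hL : IsCoatom L) (h2 : x ∈ Sg L) :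
    ∃ r ∈ RR x, cj r M = L := by
  by_cases e : L = M
  · exact ⟨1, one_mem _, by rw [cj_one, e]⟩
  obtain ⟨X, a, b⟩ := exists_line h1
  haveI := Fact.mk b
  have a1 := a.trans (zpowers_le.2 hx)
  have a2 := a.trans (zpowers_le.2 h2)
  have a3 := Sg_pi M _ b (card_dvd a1)
  obtain ⟨g, rfl⟩ := cj_of_sigma hM hL a3 (Sg_pi L _ b (card_dvd a2))
  obtain ⟨u, u1, u2⟩ := bg10_1b hM a3 (pg_of_card rfl) (a1.trans (Sg_le M)) (a2.trans (Sg_le _))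
  obtain ⟨N, hN, c⟩ := exists_max (nn_ne_top' hM (a1.trans (Sg_le M)) (prime_ne_bot b))
  have u3 := c (cc_le_nn X u1)
  obtain ⟨v, v1, w, w1, e1⟩ := (bg14_4_aux hM hx a b hN c fun f => e (u2 ▸ cj_eq_of_mem (f ▸ u3))).2.2.2.2 u⁻¹
    (inv_mem u3) (by rw [inv_inv]; exact mem_cj.1 (u2 ▸ Sg_le _ h2))
  have e2 : cj w⁻¹ M = cj g M := by rw [← u2, ← inv_inv u, e1, mul_inv_rev, ← cj_cj, cj_eq_of_mem (inv_mem v1)]
  obtain ⟨N', b1, -, b2, -⟩ := bg14_4 hM hx h1 fun f => e (e2 ▸ cj_eq_of_mem (f (inv_mem w1.2)))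
  refine ⟨w⁻¹, ?_, e2⟩
  rw [b2, ← b1.uniq N hN ((C1_le_cc a).trans ((cc_le_nn X).trans c))]
  exact inv_mem w1
theorem RR_inf (hM : IsCoatom M) (hx : x ∈ Sg M) (h1 : x ≠ 1) : RR x ⊓ M = ⊥ := by
  by_cases h : C1 x ≤ M
  · rw [RR_eq_bot hM hx h, bot_inf_eq]
  obtain ⟨N, -, -, a, -, -, -, -, -, b, -⟩ := bg14_4 hM hx h1 h
  exact eq_bot_of_le (Sg_inf b.pi) (inf_le_left.trans (a.le.trans inf_le_left))
    (le_inf inf_le_right (inf_le_left.trans (a.le.trans (inf_le_left.trans (Sg_le N)))))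
theorem RR_pi (hM : IsCoatom M) (hx : x ∈ Sg M) (h1 : x ≠ 1) : IsPi (sigma M)ᶜ (RR x) := by
  by_cases h : C1 x ≤ M
  · rw [RR_eq_bot hM hx h]; exact IsPi.bot
  obtain ⟨N, c, -, a, -, -, -, -, -, -, b⟩ := bg14_4 hM hx h1 h
  exact (Sg_pi_ns hM c.max b).mono (a.le.trans inf_le_left)
theorem nn_RR (x : G) : C1 x ≤ NN (RR x) := by
  by_cases h : ∃ N, UM (C1 x) N ∧ x ∉ Sg N
  · obtain ⟨N, h1, h2⟩ := h
    rw [RR_eq h1 h2]
    exact nn_inf (nn_Sg' h1.le) (le_nn _)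
  · rw [RR, dif_neg h]; exact nn_bot
theorem RR_part (hM : IsCoatom M) (hx : x ∈ Sg M) (h1 : x ≠ 1) (hy : y ∈ RR x) : part (sigma M) (x * y) = x :=
  part_eq (mem_C1.1 (RR_le x hy)).symm ((Sg_pi M).piE hx) ((RR_pi hM hx h1).piE hy)
theorem RR_cases (hy : y ∈ RR x) : y = 1 ∨ ∃ N, UM (C1 x) N ∧ x ∉ Sg N ∧ y ∈ Sg N := by
  by_cases h : ∃ N, UM (C1 x) N ∧ x ∉ Sg N
  · obtain ⟨N, h1, h2⟩ := h
    exact .inr ⟨N, h1, h2, ((RR_eq h1 h2).le hy).1⟩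
  · rw [RR, dif_neg h] at hy; exact .inl hy
/-- BG 14.5(a) -/
theorem bg14_5a (hx : L1 x) (hy : L1 y) {r s : G} (hr : r ∈ RR x) (hs : s ∈ RR y) (h : x * r = y * s) :
    x = y := by
  obtain ⟨h1, M, hM, h2⟩ := hx
  obtain ⟨h3, L, hL, h4⟩ := hy
  have a := RR_part hM h2 h1 hr
  rw [h] at a
  by_cases e : CJ M L
  · rw [← a, ← e.sigma, RR_part hL h4 h3 hs]
  exfalso
  have b := (Sg_pi_ns hM hL e).piE h4
  have c := (mem_C1.1 (RR_le y hs)).symm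
  have d : ¬ PiE (sigma M)ᶜ s := fun d => h1 (a ▸ part_eq_one.2 (b.mul d c))
  obtain ⟨N, n1, -, n2⟩ := (RR_cases hs).resolve_left fun f => d (f ▸ PiE.one)
  have n3 : CJ M N := by_contra fun f => d ((Sg_pi_ns hM n1.max f).piE n2)
  rw [c, part_eq c.symm (n3.sigma ▸ (Sg_pi N).piE n2) b] at a
  subst a
  rw [c, mul_right_inj] at h
  exact h3 (eq_one_of_inf (RR_inf n1.max n2 h1) (h ▸ hr) (n1.le (self_mem_C1 y)))
omit hG [Finite G] in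
theorem inv_conj_ne {x y : G} (a : x ≠ 1) : y⁻¹ * x * y ≠ 1 := fun e => a (by
  have := congrArg (fun z => y * z * y⁻¹) e
  simpa [mul_assoc] using this)
theorem mem_CS_Mt : g ∈ CS (Mt M) ↔ ∃ x, x ≠ 1 ∧ (∃ L, CJ M L ∧ x ∈ Sg L) ∧ ∃ r ∈ RR x, g = x * r := by
  constructor
  · rintro ⟨_, ⟨x, a, b, r, c, rfl⟩, y, rfl⟩
    exact ⟨y * x * y⁻¹, by simpa using b, ⟨_, cj_CJ y M, cj_Sg y M ▸ conj_mem_cj a⟩, y * r * y⁻¹,
      cj_RR y x ▸ conj_mem_cj c, by group⟩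
  · rintro ⟨x, a, ⟨_, ⟨y, rfl⟩, b⟩, r, c, rfl⟩
    refine ⟨y⁻¹ * (x * r) * y, ⟨y⁻¹ * x * y, mem_cj.1 (cj_Sg y M ▸ b), inv_conj_ne a, y⁻¹ * r * y, ?_,
      by group⟩, y, by group⟩
    have := conj_mem_cj (g := y⁻¹) c
    rwa [cj_RR, inv_inv] at this
/-- BG 14.5(b) -/
theorem bg14_5b (hM : IsCoatom M) (hN : IsCoatom N) (h : ¬ CJ M N) :
    Disjoint (CS (Mt M)) (CS (Mt N)) := Set.disjoint_left.2 fun g a b => by
  obtain ⟨x, a1, ⟨M', a2, a3⟩, r, a4, rfl⟩ := mem_CS_Mt.1 a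
  obtain ⟨y, b1, ⟨N', b2, b3⟩, s, b4, e⟩ := mem_CS_Mt.1 b
  obtain rfl := bg14_5a ⟨a1, M', a2.max hM, a3⟩ ⟨b1, N', b2.max hN, b3⟩ a4 b4 e
  exact a1 (((Sg_pi M').piE a3).eq_one ((Sg_pi_ns (a2.max hM) (b2.max hN)
    fun e => h (a2.trans (e.trans b2.symm))).piE b3))
/-- BG 14.5(c) -/
theorem bg14_5c (hM : IsCoatom M) : (CS (Mt M)).ncard = (#(Sg M) - 1) * M.index := by
  classical
  have ch : ∀ x : G, ∃ L : Subgroup G, (∃ L, CJ M L ∧ x ∈ Sg L) → CJ M L ∧ x ∈ Sg L := fun x => by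
    by_cases h : ∃ L, CJ M L ∧ x ∈ Sg L
    · obtain ⟨L, h⟩ := h; exact ⟨L, fun _ => h⟩
    · exact ⟨⊥, fun a => absurd a h⟩
  choose φ hφ using ch
  let A : Set (G × G) := {p | p.1 ≠ 1 ∧ (∃ L, CJ M L ∧ p.1 ∈ Sg L) ∧ p.2 ∈ RR p.1}
  let T : Set (G × Subgroup G) := {p | p.1 ≠ 1 ∧ CJ M p.2 ∧ p.1 ∈ Sg p.2}
  have e1 : A.ncard = (CS (Mt M)).ncard := Set.ncard_congr (fun p _ => p.1 * p.2)
    (fun p h => mem_CS_Mt.2 ⟨p.1, h.1, h.2.1, p.2, h.2.2, rfl⟩) (fun p q a b e => by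
      obtain ⟨L, a1, a2⟩ := a.2.1
      obtain ⟨N, b1, b2⟩ := b.2.1
      have := bg14_5a ⟨a.1, L, a1.max hM, a2⟩ ⟨b.1, N, b1.max hM, b2⟩ a.2.2 b.2.2 e
      exact Prod.ext this (mul_left_cancel (this ▸ e))) fun g h => by
      obtain ⟨x, a, b, r, c, rfl⟩ := mem_CS_Mt.1 h
      exact ⟨(x, r), ⟨a, b, c⟩, rfl⟩
  have e2 : A.ncard = T.ncard := Set.ncard_congr (fun p _ => (p.1, cj p.2 (φ p.1)))
    (fun p h => ⟨h.1, (hφ _ h.2.1).1.trans (cj_CJ _ _), by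
      have := conj_mem_cj (g := p.2) (hφ _ h.2.1).2
      rwa [conj_eq_of_C1 (RR_le _ h.2.2), cj_Sg] at this⟩) (fun p q a b e => by
      obtain ⟨e1, e2⟩ := Prod.ext_iff.1 e
      obtain ⟨c1, c2⟩ := hφ _ a.2.1
      refine Prod.ext e1 (inv_mul_eq_one.1 (eq_one_of_inf (RR_inf (c1.max hM) c2 a.1)
        (mul_mem (inv_mem a.2.2) ((show p.1 = q.1 from e1) ▸ b.2.2)) ((cj_max_iff (c1.max hM)).1 ?_)))
      simp only at e1 e2
      rw [← cj_cj, e1, ← e2, e1, cj_inv_cj]) fun p h => by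
      obtain ⟨c1, c2⟩ := hφ _ ⟨_, h.2⟩
      obtain ⟨r, a, b⟩ := bg14_4t (c1.max hM) c2 h.1 (h.2.1.max hM) h.2.2
      exact ⟨(p.1, r), ⟨h.1, ⟨_, h.2⟩, a⟩, Prod.ext rfl b⟩
  have e3 : (((Sg M : Set G) \ {1}) ×ˢ (Set.univ : Set (G ⧸ M))).ncard = T.ncard := Set.ncard_congr
    (fun p _ => (p.2.out * p.1 * p.2.out⁻¹, cj p.2.out M))
    (fun p h => ⟨by simpa using h.1.2, cj_CJ _ _, cj_Sg _ M ▸ conj_mem_cj h.1.1⟩) (fun p q a b e => by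
      obtain ⟨e1, e2⟩ := Prod.ext_iff.1 e
      simp only at e1 e2
      have e3 : p.2 = q.2 := by
        rw [← p.2.out_eq', ← q.2.out_eq', QuotientGroup.eq, ← cj_max_iff hM, ← cj_cj, ← e2, cj_inv_cj]
      rw [e3] at e1
      exact Prod.ext (by simpa using e1) e3) fun p h => by
      obtain ⟨g, e⟩ := h.2.1
      obtain ⟨m, hm⟩ := QuotientGroup.mk_out_eq_mul M g
      have e1 : cj (g : G ⧸ M).out M = p.2 := by rw [hm, ← cj_cj, cj_eq_of_mem m.2, e]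
      refine ⟨(((g : G ⧸ M).out)⁻¹ * p.1 * (g : G ⧸ M).out, g), ⟨⟨?_, inv_conj_ne h.1⟩, trivial⟩,
        Prod.ext (by simp only; group) e1⟩
      exact mem_cj.1 (by rw [cj_Sg, e1]; exact h.2.2)
  rw [← e1, e2, ← e3, Set.ncard_prod, Set.ncard_univ, Set.ncard_diff_singleton_of_mem (one_mem _)]
  rfl
/-- BG 14.6 -/
theorem bg14_6 (hg : g ≠ 1) : Xor' (∃ x, L1 x ∧ x⁻¹ * g ∈ RR x)
    (∃ (M : Subgroup G) (y : G), IsCoatom M ∧ y ∈ Sg M ∧ y ≠ 1 ∧ y⁻¹ * g ∈ M ⊓ C1 y ∧ y⁻¹ * g ≠ 1 ∧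
      PiE (kappa M) (y⁻¹ * g)) := by
  by_cases h : ∃ x, L1 x ∧ x⁻¹ * g ∈ RR x
  · refine .inl ⟨h, ?_⟩
    rintro ⟨M, y, hM, b1, b2, b3, b4, b5⟩
    obtain ⟨x, ⟨a1, L, hL, a2⟩, a3⟩ := h
    have c1 := b5.sub fun _ a => kappa_ns a
    obtain ⟨X, x1, x2⟩ := exists_line b4
    have c2 := ((bg14_3 hM b1 b2 b3.1 b3.2 b4 c1).resolve_right fun e =>
      kappa_not2 (b5 _ x2 (card_dvd x1)) (e.1 _ x2 (card_dvd x1))).2
    have c3 := part_eq (mem_C1.1 b3.2).symm ((Sg_pi M).piE b1) c1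
    rw [mul_inv_cancel_left] at c3
    by_cases e : CJ M L
    · have c4 := RR_part hL a2 a1 a3
      rw [mul_inv_cancel_left, e.sigma, c3] at c4
      subst c4
      exact b4 (by rwa [RR_eq_bot hM b1 c2] at a3)
    have b := (Sg_pi_ns hM hL e).piE a2
    have c := (mem_C1.1 (RR_le x a3)).symm
    have d : ¬ PiE (sigma M)ᶜ (x⁻¹ * g) := fun d => b2 (c3 ▸ part_eq_one.2
      (mul_inv_cancel_left x g ▸ b.mul d c))
    obtain ⟨N, n1, n0, n2⟩ := (RR_cases a3).resolve_left fun f => d (f ▸ PiE.one)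
    have n3 : CJ M N := by_contra fun f => d ((Sg_pi_ns hM n1.max f).piE n2)
    have c4 := part_eq c.symm (n3.sigma ▸ (Sg_pi N).piE n2) b
    rw [← c, mul_inv_cancel_left, c3] at c4
    have c5 : y⁻¹ * g = x := by rw [c4, inv_mul_eq_iff_eq_mul, ← c, mul_inv_cancel_left]
    obtain ⟨N', n4, n5, -⟩ := bg14_4 hL a2 a1 fun f => n0 (n1.uniq L hL f ▸ a2)
    rw [n1.eq n4, ← c5] at n5
    exact kappa_not2 (b5 _ x2 (card_dvd x1)) (n3.tau2 ▸ n5 _ x2 (card_dvd x1))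
  refine .inr ⟨by_contra fun h2 => ?_, h⟩
  have key : ∀ M : Subgroup G, IsCoatom M → g ∈ M → PiE (sigma M)ᶜ g := fun M hM a => by
    refine part_eq_one.1 (by_contra fun b => ?_)
    have c := mem_Sg hM (part_mem_of a) (part_pi _ g)
    have c1 := part_pi' (sigma M) g
    have c2 : (part (sigma M) g)⁻¹ * g ∈ M ⊓ C1 (part (sigma M) g) :=
      mem_inf.2 ⟨mul_mem (inv_mem (Sg_le M c)) a, mem_C1.2 (part_comm _ g).symm⟩
    generalize part (sigma M) g = x at *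
    have c3 : x⁻¹ * g ≠ 1 := fun e => h ⟨x, ⟨b, M, hM, c⟩, e ▸ one_mem _⟩
    rcases bg14_3 hM c b c2.1 c2.2 c3 c1 with e | e
    · exact h2 ⟨M, x, hM, c, b, c2, c3, e.1⟩
    refine h ⟨_, e.2.1, ?_⟩
    rw [RR_eq e.2.2 fun f => c3 (((Sg_pi M).piE f).eq_one c1), show (x⁻¹ * g)⁻¹ * g = x by
      rw [inv_mul_eq_iff_eq_mul, mem_C1.1 c2.2, mul_inv_cancel_left]]
    exact mem_inf.2 ⟨c, mem_C1_comm.1 c2.2⟩
  obtain ⟨X, x1, x2⟩ := exists_line hg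
  obtain ⟨L, hL, a1⟩ := exists_sigma x2 (card_subgroup_dvd_card X)
  have a2 : part (sigma L) g ≠ 1 := fun e => part_eq_one.1 e _ x2 (card_dvd x1) a1
  obtain ⟨k, a3⟩ := l1_of_piE hL (part_pi _ g) a2
  have hM := max_cj hL k
  have a4 : ∀ m, g ∉ cj m (cj k L) := fun m e => key _ (max_cj hM m) e _ x2 (card_dvd x1)
    (by rw [sigma_cj, sigma_cj]; exact a1)
  have a5 := C1_le_part (sigma L) g (self_mem_C1 g)
  obtain ⟨N, b1, -, -, -, -, -, -, -, b2, -⟩ := bg14_4 hM a3 a2 fun e => a4 1 (by rw [cj_one]; exact e a5)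
  obtain ⟨m, -, b3⟩ := Hall.exists_cj_le (max_sol b1.max) b2 (zpowers_le.2 (b1.le a5)) (key N b1.max (b1.le a5))
  exact a4 m⁻¹ (cj_le_iff_le_cj_inv.1 (b3.trans inf_le_left) (mem_zpowers g))
end

end Cfsg.Agent.MS
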