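import Cfsg.Agent.Lib.MS.Sec14

/-!
BG section 14, second part (14.7 to 14.13).
-/

set_option linter.unusedSectionVars false
set_option linter.unusedVariables false
set_option linter.style.haveILetI false
set_option linter.unusedSimpArgs false

namespace Cfsg.Agent.MS

open Subgroup Cfsg.Agent.Transfer

universe u
variable {G : Type u} [Group G] [Finite G]

/-- `Ẑ` -/
def Zh (K L : Subgroup G) : Set G := {z | z ∈ K ⊔ L ∧ z ∉ K ∧ z ∉ L}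

/-- the conclusions of BG 14.7 for `M`, `K`, `K* = L` and the partner `H = M*` -/
structure Partner (M K L H : Subgroup G) : Prop where
  eq : L = Sg M ⊓ CC K
  max : IsCoatom H
  ncj : ¬ CJ M H
  um : ∀ X ≤ K, (#X).Prime → UM (CC X) H
  hk : Hall (kappa H) L H
  hs : Hall (sigma M) L H
  cc : Sg H ⊓ CC L = K
  kt : kappa M = tau1 M
  cyc : IsCyclic (K ⊔ L : Subgroup G)
  inf : M ⊓ H = K ⊔ L
  c1 : ∀ x ∈ K, x ≠ 1 → M ⊓ C1 x = K ⊔ L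
  c2 : ∀ y ∈ L, y ≠ 1 → H ⊓ C1 y = K ⊔ L
  c12 : ∀ x ∈ K, x ≠ 1 → ∀ y ∈ L, y ≠ 1 → C1 (x * y) = K ⊔ L
  ti : ∀ z ∈ Zh K L, ∀ g : G, g * z * g⁻¹ ∈ M → g ∈ M
  ti' : ∀ z ∈ Zh K L, ∀ g : G, g * z * g⁻¹ ∈ Zh K L → g ∈ K ⊔ L
  card : #K * #L * (CS (Zh K L)).ncard = (#K - 1) * (#L - 1) * #G
  half : #G < 2 * (CS (Zh K L)).ncard
  p2 : (TP2 M ∧ (#K).Prime) ∨ (TP2 H ∧ (#L).Prime)
  cls : ∀ N : Subgroup G, IsCoatom N → (kappa N).Nonempty → CJ M N ∨ CJ H N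
  der : ⁅M, M⁆ ⊔ K = M ∧ ⁅M, M⁆ ⊓ K = ⊥

/-- `K` is a nontrivial Hall `κ(N)`-subgroup of `N` and `Z = K K*` -/
structure ZP (Z N K : Subgroup G) : Prop where
  max : IsCoatom N
  hall : Hall (kappa N) K N
  ne : K ≠ ⊥
  eq : K ⊔ (Sg N ⊓ CC K) = Z

theorem CS.conj {T : Set G} {g : G} (h : g ∈ CS T) (y : G) : y * g * y⁻¹ ∈ CS T := by
  obtain ⟨a, h, z, rfl⟩ := h
  exact ⟨a, h, y * z, by group⟩
theorem CS.of_conj {T : Set G} {g y : G} (h : y * g * y⁻¹ ∈ CS T) : g ∈ CS T := by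
  simpa [mul_assoc] using CS.conj h y⁻¹
theorem ncard_CS {T : Set G} {Z : Subgroup G} (h : ∀ t ∈ T, ∀ g : G, g * t * g⁻¹ ∈ T ↔ g ∈ Z) :
    (CS T).ncard = T.ncard * Z.index := by
  have e : (T ×ˢ (Set.univ : Set (G ⧸ Z))).ncard = (CS T).ncard := Set.ncard_congr
    (fun p _ => p.2.out * p.1 * p.2.out⁻¹) (fun p a => ⟨p.1, a.1, _, rfl⟩) (fun p q a b e => by
      have e1 : p.2 = q.2 := by
        rw [← p.2.out_eq', ← q.2.out_eq', QuotientGroup.eq, ← h _ b.1,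
          show p.2.out⁻¹ * q.2.out * q.1 * (p.2.out⁻¹ * q.2.out)⁻¹ =
            p.2.out⁻¹ * (q.2.out * q.1 * q.2.out⁻¹) * p.2.out by group, ← e]
        simpa [mul_assoc] using a.1
      rw [e1] at e
      exact Prod.ext (by simpa using e) e1) fun g a => by
      obtain ⟨t, a, y, rfl⟩ := a
      obtain ⟨m, hm⟩ := QuotientGroup.mk_out_eq_mul Z y
      exact ⟨((m : G)⁻¹ * t * (m : G)⁻¹⁻¹, y), ⟨(h _ a _).2 (inv_mem m.2), trivial⟩, by simp only [hm]; group⟩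
  rw [← e, Set.ncard_prod, Set.ncard_univ]
  rfl
theorem Zh_comm (K L : Subgroup G) : Zh K L = Zh L K := by
  ext z; simp only [Zh, Set.mem_setOf_eq, sup_comm K L]; tauto
theorem cj_Zh {K L : Subgroup G} {z : G} (h : z ∈ Zh K L) (g : G) : g * z * g⁻¹ ∈ Zh (cj g K) (cj g L) :=
  ⟨cj_sup g K L ▸ conj_mem_cj h.1, fun a => h.2.1 (conj_mem_cj_iff.1 a), fun a => h.2.2 (conj_mem_cj_iff.1 a)⟩
theorem ncard_Zh {K L : Subgroup G} (h : L ≤ NN K) (h1 : K ⊓ L = ⊥) :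
    (Zh K L).ncard = (#K - 1) * (#L - 1) := by
  have e : Zh K L = ((K ⊔ L : Subgroup G) : Set G) \ ((K : Set G) ∪ L) := by
    ext z; simp [Zh]
  have a := Set.ncard_diff_add_ncard_of_subset (s := (K : Set G) ∪ L) (t := ((K ⊔ L : Subgroup G) : Set G))
    (Set.union_subset (le_sup_left (a := K) (b := L)) (le_sup_right (a := K) (b := L)))
  have b := Set.ncard_union_add_ncard_inter (K : Set G) L
  rw [← coe_inf, h1, coe_bot, Set.ncard_singleton] at b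
  have c := card_sup_l h h1
  change _ + _ = #(K ⊔ L : Subgroup G) at a
  change _ = #K + #L at b
  rw [e]
  obtain ⟨k, hk⟩ := Nat.exists_eq_succ_of_ne_zero (card_ne_zero K)
  obtain ⟨l, hl⟩ := Nat.exists_eq_succ_of_ne_zero (card_ne_zero L)
  rw [c, hk, hl] at a
  rw [hk, hl] at b ⊢
  simp only [Nat.succ_eq_add_one, add_tsub_cancel_right] at a b ⊢
  nlinarith

section
variable [hG : MinS G] {A B E E1 E2 E3 H K L M N P Q R S U V X Y Z : Subgroup G} {p q r : ℕ} {g x y z : G}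
include hG

theorem ncj_of (h0 : X ≠ ⊥) (h1 : IsPi (sigma N) X) (h2 : IsPi (sigma M)ᶜ X) : ¬ CJ M N :=
  fun e => h0 ((e.sigma ▸ h1).eq_bot h2)
namespace ZP
theorem ns (h : ZP Z M K) : IsPi (sigma M)ᶜ K := kappa_pi_ns h.hall.pi
theorem sp (h : ZP Z M K) : IsPi (sigma M) (Sg M ⊓ CC K) := (Sg_pi M).mono inf_le_left
theorem le (h : ZP Z M K) : Z ≤ M := h.eq ▸ sup_le h.hall.le (inf_le_left.trans (Sg_le M))
theorem l1 (h : ZP Z M K) : K ≤ Z := h.eq ▸ le_sup_left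
theorem l2 (h : ZP Z M K) : Sg M ⊓ CC K ≤ Z := h.eq ▸ le_sup_right
theorem nn (h : ZP Z M K) : Z ≤ NN K := h.eq ▸ sup_le (le_nn K) (nn_of_cc inf_le_right)
theorem hall1 (h : ZP Z M K) : Hall (sigma M)ᶜ K Z :=
  h.eq ▸ Hall.of_sup h.ns h.sp.compl_compl (nn_of_cc inf_le_right)
theorem le1 (h : ZP Z M K) (h1 : Y ≤ Z) (h2 : IsPi (sigma M)ᶜ Y) : Y ≤ K := h.hall1.le_of_normal h.nn h1 h2
theorem le2 (h : ZP Z M K) (h1 : Y ≤ Z) (h2 : IsPi (sigma M) Y) : Y ≤ Sg M ⊓ CC K := by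
  have a := Hall.of_sup h.sp h.ns (nn_of_cc (cc_symm inf_le_right))
  rw [sup_comm, h.eq] at a
  exact a.le_of_normal (nn_inf (nn_Sg' h.le) (nn_cc h.nn)) h1 h2
theorem inf (h : ZP Z M K) : K ⊓ (Sg M ⊓ CC K) = ⊥ := inf_comm K _ ▸ h.sp.inf h.ns
theorem card (h : ZP Z M K) : #Z = #K * #(Sg M ⊓ CC K : Subgroup G) :=
  h.eq ▸ card_sup_l (nn_of_cc inf_le_right) h.inf
theorem ne2 (h : ZP Z M K) : Sg M ⊓ CC K ≠ ⊥ := bg14_2c h.max h.hall
theorem kappa_star (h : ZP Z M K) (hX : X ≤ K) (h1 : (#X).Prime) (hN : IsCoatom N) (h2 : NN X ≤ N) :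
    IsPi (kappa N) (Sg M ⊓ CC K) := pi_of_forall fun y hy hp => by
  have a := (bg14_2b h.max h.hall hX h1).2 N hN h2
  have b := ncj_of (prime_ne_bot h1) ((Sg_pi N).mono a) (h.ns.mono hX)
  obtain ⟨x, c, d⟩ := exists_ne_one (prime_ne_bot h1)
  have e : y ≠ 1 := fun e => by simp [e, Nat.not_prime_one] at hp
  have f := cc_anti hX hy.2
  refine piE_iff.1 ((bg14_3 hN (a c) d (h2 (cc_le_nn X f)) (cc_le_C1 c f) e
    ((Sg_pi_ns hN h.max fun e => b e.symm).piE hy.1)).resolve_right fun f => ?_).1 _ hp dvd_rfl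
  obtain ⟨Y, y1, y2⟩ := exists_line e
  exact ne_of_not_CJ b (f.2.2.uniq M h.max
    ((C1_le_cc y1).trans (bg14_2c' h.max h.hall h.ne (y1.trans (zpowers_le.2 hy)) y2).le)).symm
theorem step (h : ZP Z M K) (hX : X ≤ K) (h1 : (#X).Prime) (hN : IsCoatom N) (h2 : NN X ≤ N) :
    X ≤ Sg N ∧ ∃ L, ZP Z N L := by
  have a := bg14_2b h.max h.hall hX h1
  have a1 := (kappa_nn h.max h.hall hX h1).trans h2
  have a2 : Sg M ⊓ CC K ≤ N := inf_le_right.trans ((cc_anti hX).trans ((cc_le_nn X).trans h2))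
  obtain ⟨L, b1, b2⟩ := exists_hall_ge (max_sol hN) a2 (h.kappa_star hX h1 hN h2)
  obtain ⟨Y, y1, y2⟩ := exists_prime_sub h.ne2
  have c := bg14_2c' h.max h.hall h.ne y1 y2
  have c1 : NN Y ≤ M := c.le_of (cc_le_nn Y) (nn_ne_top' hN (y1.trans a2) (prime_ne_bot y2))
  have d : ZP _ N L := ⟨hN, b1, ne_bot_of_le_ne_bot h.ne2 b2, rfl⟩
  have d1 : Z ≤ L ⊔ (Sg N ⊓ CC L) := h.eq ▸ sup_le ((bg14_2b hN b1 (y1.trans b2) y2).1 ▸
    le_inf a1 (nn_of_cc (cc_symm (y1.trans inf_le_right)))) (b2.trans le_sup_left)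
  have d2 := d.le2 (hX.trans (h.l1.trans d1)) ((Sg_pi N).mono (a.2 N hN h2))
  have d3 : Sg N ⊓ CC L ≤ M := inf_le_right.trans ((cc_anti (y1.trans b2)).trans c.le)
  obtain ⟨K', e1, e2⟩ := exists_hall_ge (max_sol h.max) d3 (d.kappa_star (y1.trans b2) y2 h.max c1)
  refine ⟨a.2 N hN h2, L, hN, b1, d.ne, le_antisymm ?_ d1⟩
  rw [← h.eq, ← a.1]
  exact sup_le (le_inf ((kappa_nn hN b1 (y1.trans b2) y2).trans c1) (nn_of_cc (cc_symm (d2.trans inf_le_right))))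
    (le_inf d3 (e2.trans (kappa_nn h.max e1 (d2.trans e2) h1)))
theorem step' (h : ZP Z M K) (hX : X ≤ K) (h1 : (#X).Prime) : ∃ N L, ZP Z N L ∧ X ≤ Sg N ∧ N ≠ M := by
  obtain ⟨N, hN, a⟩ := exists_max (nn_ne_top' h.max (hX.trans h.hall.le) (prime_ne_bot h1))
  obtain ⟨b, L, c⟩ := h.step hX h1 hN a
  exact ⟨N, L, c, b, ne_of_not_CJ (ncj_of (prime_ne_bot h1) ((Sg_pi N).mono b) (h.ns.mono hX))⟩
theorem exists_ne (h : ZP Z M K) : ∃ N L, ZP Z N L ∧ N ≠ M := by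
  obtain ⟨X, a, b⟩ := exists_prime_sub h.ne
  obtain ⟨N, L, c, -, d⟩ := h.step' a b
  exact ⟨N, L, c, d⟩
theorem ncj (h : ZP Z M K) (h1 : ZP Z N L) (hne : N ≠ M) : ¬ CJ M N := by
  rintro ⟨g, rfl⟩
  exact h1.ne2 (eq_bot_of_le (bg14_2d h.max h.hall h.ne fun e => hne (cj_eq_of_mem e))
    (h.le2 h1.l2 (sigma_cj g M ▸ h1.sp)) (h1.l2.trans h1.le))
theorem star_le (h : ZP Z M K) (h1 : ZP Z N L) (hne : N ≠ M) : Sg N ⊓ CC L ≤ K :=
  h.le1 h1.l2 ((Sg_pi_ns h.max h1.max (h.ncj h1 hne)).mono inf_le_left)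
theorem uniq (h : ZP Z M K) (h1 : ZP Z M L) : L = K := le_antisymm (h.le1 h1.l1 h1.ns) (h1.le1 h.l1 h.ns)
theorem part (h : ZP Z M K) (hz : z ∈ Zh K (Sg M ⊓ CC K)) :
    part (sigma M) z ∈ Sg M ⊓ CC K ∧ part (sigma M) z ≠ 1 ∧ part (sigma M)ᶜ z ∈ K ∧ part (sigma M)ᶜ z ≠ 1 := by
  have a : z ∈ Z := h.eq ▸ hz.1
  have b := h.le2 (zpowers_le.2 (part_mem_of a)) (part_pi _ z) (mem_zpowers _)
  have c := h.le1 (zpowers_le.2 (part_mem_of a)) (part_pi _ z) (mem_zpowers _)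
  have d := part_mul_part (sigma M) z
  exact ⟨b, fun e => hz.2.1 (by rwa [← d, e, one_mul]), c, fun e => hz.2.2 (by rwa [← d, e, mul_one])⟩
theorem ti (h : ZP Z M K) (hz : z ∈ Zh K (Sg M ⊓ CC K)) (hg : g * z * g⁻¹ ∈ M) : g ∈ M := by
  have a := part_mem_of (π := sigma M) hg
  rw [part_conj] at a
  exact by_contra fun e => (h.part hz).2.1 (eq_one_of_inf (bg14_2d h.max h.hall h.ne
    fun f => e (inv_mem_iff.1 f)) (h.part hz).1 (mem_cj.2 (by rwa [inv_inv])))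
theorem ti' (h : ZP Z M K) (hz : z ∈ Zh K (Sg M ⊓ CC K)) (hg : g * z * g⁻¹ ∈ Z) : g ∈ Z := by
  have a := h.ti hz (h.le hg)
  have b := h.le1 (zpowers_le.2 (part_mem_of hg)) (part_pi _ _) (mem_zpowers _)
  rw [part_conj] at b
  rw [← h.eq, ← bg14_2b' h.max h.hall h.ne]
  exact ⟨a, by_contra fun e => (h.part hz).2.2.2 (by
    simpa using eq_one_of_inf (bg14_2d' h.max h.hall a e) b (conj_mem_cj (h.part hz).2.2.1))⟩
theorem notMt (h : ZP Z M K) (hz : z ∈ Zh K (Sg M ⊓ CC K)) (hN : IsCoatom N) : z ∉ CS (Mt N) := fun a => by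
  obtain ⟨x, a1, ⟨L, a2, a3⟩, r, a4, a5⟩ := mem_CS_Mt.1 a
  obtain ⟨b1, b2, b3, b4⟩ := h.part hz
  rw [part_compl] at b3 b4
  rcases bg14_6 (g := z) (fun e => hz.2.1 (e ▸ one_mem K)) with c | c
  · exact c.2 ⟨M, _, h.max, b1.1, b2, ⟨h.hall.le b3, mem_C1.2 (part_comm _ z).symm⟩, b4, h.hall.pi.piE b3⟩
  · exact c.2 ⟨x, ⟨a1, L, a2.max hN, a3⟩, by rwa [a5, inv_mul_cancel_left]⟩
theorem count (h : ZP Z M K) (h1 : TP1 M) :
    2 * ((#(Sg M ⊓ CC K : Subgroup G) - 1) * Z.index) + Z.index ≤ 2 * (CS (Mt M)).ncard := by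
  have a : Hall (sigma M)ᶜ K M := h.hall.congr fun p a b => ⟨kappa_ns, fun c => (h1 p a b).resolve_left c⟩
  have b := (Sg_hall h.max).card_mul a
  have c := h.card
  have d : Z.relIndex M ≠ 1 := fun e => by
    obtain ⟨p, a1, a2⟩ := exists_prime_dvd h.ne2
    haveI := Fact.mk a1
    obtain ⟨S, hS⟩ := exists_isSyl p (Sg M)
    exact (bg14_2e h.max h.hall h.ne a2 hS).2 ((hS.le.trans (h.le2 ((Sg_le M).trans (relIndex_eq_one.1 e))
      (Sg_pi M))).trans inf_le_right)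
  have e := relIndex_mul_index h.le
  have f := card_mul_relIndex h.le
  have d1 := relIndex_pos Z M
  rw [bg14_5c h.max, ← e]
  rw [c, ← b, mul_comm _ #K, mul_assoc, Nat.mul_right_inj (card_ne_zero K)] at f
  rw [← f]
  obtain ⟨s, hs⟩ := Nat.exists_eq_succ_of_ne_zero (card_ne_zero (Sg M ⊓ CC K))
  obtain ⟨m, hm⟩ : ∃ m, Z.relIndex M = m + 2 := ⟨Z.relIndex M - 2, by omega⟩
  rw [hs, hm, show s.succ * (m + 2) - 1 = s * (m + 2) + m + 1 by rw [Nat.succ_mul]; omega]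
  simp only [Nat.succ_eq_add_one, add_tsub_cancel_right]
  nlinarith [Nat.zero_le (m * M.index)]
theorem exists_tp2 (h : ZP Z M K) : ∃ N L, ZP Z N L ∧ TP2 N ∧ (#L).Prime := by
  classical
  by_contra hc
  have a : ∀ N L, ZP Z N L → TP1 N := fun N L a => by_contra fun b =>
    have c : TP2 N := ⟨(kappa_nonempty_iff a.hall).2 a.ne, b⟩
    hc ⟨N, L, a, c, (bg14_2g a.max a.hall c).2.1⟩
  haveI := Fintype.ofFinite (Subgroup G)
  let s : Finset (Subgroup G) := Finset.univ.filter fun N => ∃ L, ZP Z N L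
  have hs : ∀ {N}, N ∈ s ↔ ∃ L, ZP Z N L := by simp [s]
  let T : Set G := {z | z ∈ Z ∧ ∀ N ∈ s, z ∉ Sg N}
  have b : ∀ t ∈ T, ∃ N L, ZP Z N L ∧ t ∈ Zh L (Sg N ⊓ CC L) := fun t ht => by
    by_cases e : t ∈ K
    · obtain ⟨X, x1, x2⟩ := exists_line (x := t) fun e => ht.2 M (hs.2 ⟨K, h⟩) (e ▸ one_mem _)
      obtain ⟨N, L, c, d, -⟩ := h.step' (x1.trans (zpowers_le.2 e)) x2
      exact ⟨N, L, c, c.eq ▸ ht.1, fun f => prime_ne_bot x2 (((Sg_pi N).mono d).eq_bot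
        (c.ns.mono (x1.trans (zpowers_le.2 f)))), fun f => ht.2 N (hs.2 ⟨L, c⟩) f.1⟩
    · exact ⟨M, K, h, h.eq ▸ ht.1, e, fun f => ht.2 M (hs.2 ⟨K, h⟩) f.1⟩
  have c := ncard_CS (T := T) (Z := Z) fun t ht g => ⟨fun e => by
    obtain ⟨N, L, c, d⟩ := b t ht
    exact c.ti' d e.1, fun e => ⟨mul_mem (mul_mem e ht.1) (inv_mem e), fun N hN f => by
      obtain ⟨L, c⟩ := hs.1 hN
      exact ht.2 N hN ((mem_normalizer_iff.1 (nn_Sg' c.le e) t).2 f)⟩⟩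
  have d : #Z ≤ T.ncard + 1 + ∑ N ∈ s, (#(Sg N ⊓ Z : Subgroup G) - 1) := by
    have e : (Z : Set G) ⊆ T ∪ {1} ∪ ⋃ N ∈ s, ((Sg N ⊓ Z : Subgroup G) : Set G) \ {1} := fun z hz => by
      by_cases e : z = 1
      · exact .inl (.inr e)
      by_cases f : z ∈ T
      · exact .inl (.inl f)
      simp only [T, Set.mem_setOf_eq, not_and, not_forall, not_not] at f
      obtain ⟨N, f1, f2⟩ := f hz
      exact .inr (Set.mem_biUnion f1 ⟨⟨f2, hz⟩, e⟩)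
    refine (Set.ncard_le_ncard e).trans ((Set.ncard_union_le _ _).trans (Nat.add_le_add
      ((Set.ncard_union_le _ _).trans (by rw [Set.ncard_singleton]))
      ((s.set_ncard_biUnion_le _).trans (Finset.sum_le_sum fun N _ => ?_))))
    rw [Set.ncard_diff_singleton_of_mem (one_mem _)]; rfl
  have e : (CS T).ncard + ∑ N ∈ s, (CS (Mt N)).ncard + 1 ≤ #G := by
    have e1 := s.finite_toSet.ncard_biUnion (s := fun N => CS (Mt N)) (fun _ _ => Set.toFinite _)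
      fun N a N' b c => by
        obtain ⟨L, a⟩ := hs.1 a
        obtain ⟨L', b⟩ := hs.1 b
        exact bg14_5b a.max b.max (a.ncj b c.symm)
    rw [finsum_mem_coe_finset] at e1
    rw [← e1, ← Set.ncard_union_eq, ← Set.ncard_insert_of_notMem (a := 1), ← Set.ncard_univ]
    · exact Set.ncard_le_ncard (Set.subset_univ _)
    · rintro (⟨t, f, y, f1⟩ | f)
      · exact f.2 M (hs.2 ⟨K, h⟩) ((show t = 1 by simpa using f1.symm) ▸ one_mem _)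
      · obtain ⟨N, f1, f2⟩ := Set.mem_iUnion₂.1 f
        obtain ⟨L, f1⟩ := hs.1 f1
        obtain ⟨x, a1, ⟨N', a2, a3⟩, r, a4, a5⟩ := mem_CS_Mt.1 f2
        have := RR_part (a2.max f1.max) a3 a1 a4
        rw [← a5, part_self PiE.one] at this
        exact a1 this.symm
    · refine Set.disjoint_left.2 ?_
      rintro _ ⟨t, f, y, rfl⟩ f1
      obtain ⟨N, f1, f2⟩ := Set.mem_iUnion₂.1 f1
      obtain ⟨L, f1⟩ := hs.1 f1
      obtain ⟨N', L', c, d⟩ := b t f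
      exact c.notMt d f1.max (CS.of_conj f2)
  have f : ∑ N ∈ s, (2 * ((#(Sg N ⊓ Z : Subgroup G) - 1) * Z.index) + Z.index) ≤
      ∑ N ∈ s, 2 * (CS (Mt N)).ncard := Finset.sum_le_sum fun N hN => by
    obtain ⟨L, f⟩ := hs.1 hN
    rw [show Sg N ⊓ Z = Sg N ⊓ CC L from le_antisymm (f.le2 inf_le_right ((Sg_pi N).mono inf_le_left))
      (le_inf inf_le_left f.l2)]
    exact f.count (a N L f)
  rw [Finset.sum_add_distrib, ← Finset.mul_sum, ← Finset.sum_mul, ← Finset.mul_sum, Finset.sum_const,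
    smul_eq_mul] at f
  obtain ⟨N, L, f1, f2⟩ := h.exists_ne
  have f3 : 1 < s.card := Finset.one_lt_card.2 ⟨N, hs.2 ⟨L, f1⟩, M, hs.2 ⟨K, h⟩, f2⟩
  have f4 := Z.card_mul_index
  have f5 := Nat.mul_le_mul_right Z.index d
  have f6 := Nat.mul_le_mul_right Z.index (show 2 ≤ s.card from f3)
  rw [c] at e
  nlinarith
theorem pair (h : ZP Z M K) (h1 : ZP Z H L) (hne : H ≠ M) : (TP2 M ∧ (#K).Prime) ∨ (TP2 H ∧ (#L).Prime) := by
  obtain ⟨N, X, a, b, c⟩ := h.exists_tp2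
  by_cases e : N = M
  · subst e; exact .inl ⟨b, a.uniq h ▸ c⟩
  by_cases f : N = H
  · subst f; exact .inr ⟨b, a.uniq h1 ▸ c⟩
  have d := prime_eq_of_le c (a.star_le h (Ne.symm e)) h.ne2
  have d1 := prime_eq_of_le c (a.star_le h1 (Ne.symm f)) h1.ne2
  exact absurd ((d ▸ h.sp).eq_bot (d1 ▸ (Sg_pi_ns h.max h1.max (h.ncj h1 hne)).mono inf_le_left)) a.ne
theorem dual_aux (h : ZP Z M K) (h1 : ZP Z H L) (hne : H ≠ M) (hp : (#K).Prime) :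
    Sg M ⊓ CC K = L ∧ Sg H ⊓ CC L = K := by
  have a := prime_eq_of_le hp (h.star_le h1 hne) h1.ne2
  have b := h1.card
  rw [a, h.card, mul_comm, Nat.mul_left_inj hp.ne_zero] at b
  exact ⟨eq_of_card_le (h1.star_le h hne.symm) b.ge, a⟩
theorem dual (h : ZP Z M K) (h1 : ZP Z H L) (hne : H ≠ M) : Sg M ⊓ CC K = L ∧ Sg H ⊓ CC L = K :=
  (h.pair h1 hne).elim (fun a => h.dual_aux h1 hne a.2) fun a => (h1.dual_aux h hne.symm a.2).symm
theorem sup (h : ZP Z M K) (h1 : ZP Z H L) (hne : H ≠ M) : K ⊔ L = Z := (h.dual h1 hne).1 ▸ h.eq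
theorem cyc (h : ZP Z M K) (h1 : ZP Z H L) (hne : H ≠ M) : IsCyclic Z := by
  obtain ⟨a, b⟩ := h.dual h1 hne
  have c : L ≤ CC K := a ▸ inf_le_right
  have d : Group.IsNilpotent K ∧ Group.IsNilpotent L := (h.pair h1 hne).elim
    (fun e => ⟨nil_of_ab (ab_of_cyc (prime_cyc e.2)), nil_mono (Sg_nil_of_not_tp1 h.max e.1.2) (a ▸ inf_le_left)⟩)
    fun e => ⟨nil_mono (Sg_nil_of_not_tp1 h1.max e.1.2) (b ▸ inf_le_left), nil_of_ab (ab_of_cyc (prime_cyc e.2))⟩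
  refine nil_cyc (h.sup h1 hne ▸ nil_sup d.1 d.2 (nn_of_cc (cc_symm c)) (nn_of_cc c)) (odd_sub _) ?_
  rintro ⟨p, hp, e⟩
  rcases dvd_sup_l hp (nn_of_cc c) (h.sup h1 hne ▸ e.dvd) with f | f
  · exact kappa_rk (h.hall.pi p hp f) (e.mono h.le)
  · exact kappa_rk (h1.hall.pi p hp f) (e.mono h1.le)
theorem ncard (h : ZP Z M K) (h1 : ZP Z H L) (hne : H ≠ M) :
    #K * #L * (CS (Zh K L)).ncard = (#K - 1) * (#L - 1) * #G := by
  obtain ⟨a, b⟩ := h.dual h1 hne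
  rw [ncard_CS (Z := Z) fun t ht g => ⟨fun e => h.ti' (a ▸ ht) (h.sup h1 hne ▸ e.1), fun e => by
    rwa [conj_eq_of_cc (ab_cc (ab_of_cyc (h.cyc h1 hne)) e) (h.sup h1 hne ▸ ht.1)]⟩,
    ncard_Zh (h1.l1.trans h.nn) (a ▸ h.inf), ← Z.card_mul_index, h.card, a]
  ring
theorem half (h : ZP Z M K) (h1 : ZP Z H L) (hne : H ≠ M) : #G < 2 * (CS (Zh K L)).ncard := by
  have a := h.ncard h1 hne
  obtain ⟨k, hk⟩ := odd_sub K
  obtain ⟨l, hl⟩ := odd_sub L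
  have b := (((h.dual h1 hne).1 ▸ h.sp).coprime h.ns)
  have c := (one_lt_card_iff_ne_bot K).2 h.ne
  have d := (one_lt_card_iff_ne_bot L).2 h1.ne
  have e : k ≠ l := fun e => by
    rw [hk, hl, e, Nat.coprime_self] at b; omega
  have f : (2 * k + 1) * (2 * l + 1) < 2 * (2 * k * (2 * l)) := by
    rcases Nat.lt_or_gt_of_ne e with f | f
    · obtain ⟨k, rfl⟩ : ∃ a, k = a + 1 := ⟨k - 1, by omega⟩
      obtain ⟨l, rfl⟩ : ∃ a, l = a + 2 := ⟨l - 2, by omega⟩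
      nlinarith [Nat.zero_le (k * l)]
    · obtain ⟨k, rfl⟩ : ∃ a, k = a + 2 := ⟨k - 2, by omega⟩
      obtain ⟨l, rfl⟩ : ∃ a, l = a + 1 := ⟨l - 1, by omega⟩
      nlinarith [Nat.zero_le (k * l)]
  rw [hk, hl, add_tsub_cancel_right, add_tsub_cancel_right] at a
  refine Nat.lt_of_mul_lt_mul_left (a := (2 * k + 1) * (2 * l + 1)) ?_
  rw [mul_left_comm, a, ← mul_assoc]
  exact Nat.mul_lt_mul_of_pos_right f Nat.card_pos
theorem inf_eq (h : ZP Z M K) (h1 : ZP Z H L) (hne : H ≠ M) : Sg M ⊓ H = L := by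
  obtain ⟨a, b⟩ := h.dual h1 hne
  refine le_antisymm (a ▸ le_inf inf_le_left (comm_eq_bot.1 (eq_bot_of_le
    (Sg_inf (Sg_pi_ns h.max h1.max (h.ncj h1 hne))) ?_ ?_))) (le_inf (a ▸ inf_le_left) h1.hall.le)
  · exact (commutator_mono inf_le_left le_rfl).trans (comm_le_left (nn_Sg' h.hall.le))
  · exact (commutator_mono inf_le_right (b ▸ inf_le_left)).trans (comm_le_right (nn_Sg' le_rfl))
theorem c1 (h : ZP Z M K) (hc : IsCyclic Z) (hx : x ∈ K) (h1 : x ≠ 1) : M ⊓ C1 x = Z := by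
  obtain ⟨X, a, b⟩ := exists_line h1
  refine le_antisymm ?_ (le_inf h.le ((ab_cc (ab_of_cyc hc)).trans (cc_le_C1 (h.l1 hx))))
  rw [← h.eq, ← (bg14_2b h.max h.hall (a.trans (zpowers_le.2 hx)) b).1]
  exact inf_le_inf_left M ((C1_le_cc a).trans (cc_le_nn X))
theorem kt (h : ZP Z M K) (hc : IsCyclic Z) : kappa M = tau1 M := by
  obtain ⟨E, a, b⟩ := exists_compl_ge h.max h.hall.le h.ns
  have c : ∀ p ∈ tau1 M, p ∣ #E := fun p e => a.dvd (tau1_prime e) (tau1_ns e) (tau1_dvd e)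
  rcases kappa_cases h.max h.hall h.ne a b with ⟨rfl, -⟩ | d
  · refine Set.ext fun p => ⟨fun e => (kappa_13 e).resolve_right fun f => ?_,
      fun e => h.hall.pi p (tau1_prime e) (c p e)⟩
    have := (dvd_der_compl h.max a (tau3_prime f) (tau3_ns f)).2 (tau3_dvd' f)
    exact ne_bot_of_dvd (tau3_prime f) this (ab_iff_der.1 (ab_of_cyc (cyc_mono hc h.l1)))
  · exact Set.ext fun p => ⟨fun e => d.pi p (kappa_prime e) (h.hall.dvd (kappa_prime e) e (kappa_dvd e)),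
      fun e => h.hall.pi p (tau1_prime e) (d.dvd (tau1_prime e) e (c p e))⟩
theorem partner (h : ZP Z M K) (h1 : ZP Z H L) (hne : H ≠ M) : Partner M K L H := by
  obtain ⟨a, b⟩ := h.dual h1 hne
  have c := h.sup h1 hne
  have d := h.cyc h1 hne
  have e := h.kt d
  refine ⟨a.symm, h1.max, h.ncj h1 hne, fun X f f1 => bg14_2c' h1.max h1.hall h1.ne (b ▸ f) f1, h1.hall, ?_, b, e,
    c ▸ d, ?_, fun x f f1 => c ▸ h.c1 d f f1, fun x f f1 => c ▸ h1.c1 d f f1, fun x f f1 y f2 f3 => ?_,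
    fun z f g => h.ti (a ▸ f), fun z f g f1 => c ▸ h.ti' (a ▸ f) (c ▸ f1.1), h.ncard h1 hne, h.half h1 hne,
    h.pair h1 hne, fun N hN f => ?_, ?_, inf_comm K _ ▸ tau1_inf_der (e ▸ h.hall.pi)⟩
  · obtain ⟨Y, y1, y2⟩ := exists_hall_ge (max_sol h1.max) h1.hall.le (a ▸ h.sp)
    have := bg14_2f h.max h.hall h.ne y1.pi (by rw [a, inf_eq_right.2 y2]; exact h1.ne)
    exact le_antisymm (h.inf_eq h1 hne ▸ le_inf this y1.le) y2 ▸ y1
  · rw [c, ← h.eq, ← bg14_2b' h.max h.hall h.ne]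
    exact le_antisymm (le_inf inf_le_left (h1.inf_eq h hne.symm ▸ nn_inf (nn_Sg' inf_le_right)
      (nn_of_le inf_le_left))) (by rw [bg14_2b' h.max h.hall h.ne, h.eq]; exact le_inf h.le h1.le)
  · have i : y * x = x * y := mem_CC.1 ((a ▸ inf_le_right : L ≤ CC K) f2) x f ▸ rfl
    have i1 := C1_le_part (sigma M) (y * x)
    have i2 := C1_le_part (sigma M)ᶜ (y * x)
    rw [part_eq i ((a ▸ h.sp).piE f2) (h.ns.piE f), i] at i1
    rw [part_eq' i ((a ▸ h.sp).piE f2) (h.ns.piE f), i] at i2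
    obtain ⟨Y, y1, y2⟩ := exists_line f3
    refine le_antisymm (c ▸ h.c1 d f f1 ▸ le_inf (i1.trans ((C1_le_cc y1).trans
      (bg14_2c' h.max h.hall h.ne (a ▸ y1.trans (zpowers_le.2 f2)) y2).le)) i2) ?_
    exact c ▸ (ab_cc (ab_of_cyc d)).trans (cc_le_C1 (mul_mem (h.l1 f) (h1.l1 f2)))
  · obtain ⟨K', f1⟩ := exists_hall (max_sol hN) (kappa N)
    have f2 : ZP _ N K' := ⟨hN, f1, (kappa_nonempty_iff f1).1 f, rfl⟩
    obtain ⟨H', L', f3, f4⟩ := f2.exists_ne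
    have f5 := f2.half f3 f4
    have f6 := h.half h1 hne
    obtain ⟨_, ⟨z, i1, u, rfl⟩, z', i2, v, i3⟩ : (CS (Zh K L) ∩ CS (Zh K' L')).Nonempty :=
      Set.not_disjoint_iff_nonempty_inter.1 fun i => by
        have := Set.ncard_le_ncard (Set.subset_univ (CS (Zh K L) ∪ CS (Zh K' L')))
        rw [Set.ncard_union_eq i, Set.ncard_univ] at this
        omega
    by_contra i
    rw [not_or] at i
    have i4 : IsPi (sigma N)ᶜ (K ⊔ L) := IsPi.sup_l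
      ((Sg_pi_ns hN h1.max fun e => i.2 e.symm).mono (b ▸ inf_le_left))
      ((Sg_pi_ns hN h.max fun e => i.1 e.symm).mono (a ▸ inf_le_left)) (h1.l1.trans h.nn)
    have i5 := ((i4.piE i1.1).conj u).conj v⁻¹
    rw [i3, show v⁻¹ * (v * z' * v⁻¹) * v⁻¹⁻¹ = z' by group] at i5
    exact (f2.part ((f2.dual f3 f4).1 ▸ i2)).2.1 (part_eq_one.2 i5)
  · obtain ⟨U, f⟩ := exists_KC h.max h.hall
    refine le_antisymm (sup_le (der_le M) h.hall.le) ?_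
    conv_lhs => rw [← Sg_sup h.max (f.compl h.max)]
    exact sup_le ((Sg_le_der h.max).trans le_sup_left) (sup_le_sup_right
      (f.comm h.max h.ne ▸ commutator_mono f.hU.le h.hall.le) K)
end ZP
theorem Partner.zp (hM : IsCoatom M) (hK : Hall (kappa M) K M) (h0 : K ≠ ⊥) (h : Partner M K L H) :
    ZP (K ⊔ L) M K ∧ ZP (K ⊔ L) H L :=
  ⟨⟨hM, hK, h0, h.eq ▸ rfl⟩, h.max, h.hk, h.eq ▸ bg14_2c hM hK, by rw [h.cc, sup_comm]⟩
theorem partner_of (hM : IsCoatom M) (hK : Hall (kappa M) K M) (h0 : K ≠ ⊥) (hH : IsCoatom H)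
    (h1 : Hall (kappa H) (Sg M ⊓ CC K) H) (h2 : K = Sg H ⊓ CC (Sg M ⊓ CC K : Subgroup G)) :
    Partner M K (Sg M ⊓ CC K) H :=
  ZP.partner ⟨hM, hK, h0, rfl⟩ ⟨hH, h1, bg14_2c hM hK, by rw [← h2, sup_comm]⟩
    (ne_of_not_CJ (ncj_of h0 ((Sg_pi H).mono (h2.le.trans inf_le_left)) (kappa_pi_ns hK.pi)))

/-- BG 14.7 -/
theorem bg14_7 (hM : IsCoatom M) (hK : Hall (kappa M) K M) (h0 : K ≠ ⊥) :
    ∃ H, Partner M K (Sg M ⊓ CC K) H := by
  have h : ZP _ M K := ⟨hM, hK, h0, rfl⟩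
  obtain ⟨H, L, a, b⟩ := h.exists_ne
  exact ⟨H, (h.dual a b).1 ▸ h.partner a b⟩
/-- the relation of 14.7 is symmetric -/
theorem Partner.symm (hM : IsCoatom M) (hK : Hall (kappa M) K M) (h0 : K ≠ ⊥) (h : Partner M K L H) :
    Partner H L K M :=
  (h.zp hM hK h0).2.partner (h.zp hM hK h0).1 (ne_of_not_CJ h.ncj).symm
theorem kappa_cyc (hM : IsCoatom M) (hK : Hall (kappa M) K M) : IsCyclic K := by
  by_cases h : K = ⊥
  · exact h ▸ cyc_bot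
  obtain ⟨H, a⟩ := bg14_7 hM hK h
  exact cyc_mono a.cyc le_sup_left
/-- BG 14.8(a) -/
theorem bg14_8 (hM : IsCoatom M) (hH : IsCoatom H) (h1 : TP1 M) (h2 : TP1 H) : CJ M H := by
  obtain ⟨K, a⟩ := exists_hall (max_sol hM) (kappa M)
  obtain ⟨N, b⟩ := bg14_7 hM a ((kappa_nonempty_iff a).1 (h1.nonempty hM))
  exact (b.cls H hH (h2.nonempty hH)).resolve_right fun e =>
    b.p2.elim (fun f => f.1.2 h1) fun f => f.1.2 (e.symm.tp1 h2)
/-- BG 14.9 -/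
theorem bg14_9a (h : ∀ M : Subgroup G, IsCoatom M → kappa M = ∅) (hg : g ≠ 1) :
    ∃ M : Subgroup G, IsCoatom M ∧ g ∈ CS (Mt M) := by
  rcases bg14_6 hg with ⟨⟨x, ⟨a, M, hM, b⟩, c⟩, -⟩ | ⟨⟨M, y, hM, -, -, -, a, b⟩, -⟩
  · exact ⟨M, hM, mem_CS_Mt.2 ⟨x, a, ⟨M, CJ.refl M, b⟩, _, c, (mul_inv_cancel_left x g).symm⟩⟩
  · obtain ⟨X, c, d⟩ := exists_line a
    exact absurd (b _ d (card_dvd c)) (h M hM ▸ Set.notMem_empty _)
theorem mem_CS_Zh (hM : IsCoatom M) (hK : Hall (kappa M) K M) (h : CJ M N) (hL : Hall (kappa N) L N)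
    (hg : g ∈ Zh L (Sg N ⊓ CC L)) : g ∈ CS (Zh K (Sg M ⊓ CC K)) := by
  obtain ⟨y, rfl⟩ := h.symm
  obtain ⟨m, a, rfl⟩ := Hall.conj (max_sol hM) ((kappa_cj y N).symm ▸ hL.cj y) hK
  have := cj_Zh (cj_Zh hg y) m
  rw [cj_inf, cj_inf, cj_Sg, cj_Sg, cj_eq_of_mem a, cj_centralizer, cj_centralizer] at this
  exact CS.of_conj (y := y) (CS.of_conj (y := m) ⟨_, this, 1, by simp⟩)
theorem bg14_9b (hM : IsCoatom M) (hK : Hall (kappa M) K M) (h0 : K ≠ ⊥) (hg : g ≠ 1) :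
    (∃ N : Subgroup G, IsCoatom N ∧ g ∈ CS (Mt N)) ∨ g ∈ CS (Zh K (Sg M ⊓ CC K)) := by
  rcases bg14_6 hg with ⟨⟨x, ⟨a, N, hN, b⟩, c⟩, -⟩ | ⟨⟨N, y, hN, a, b, c, d, e⟩, -⟩
  · exact .inl ⟨N, hN, mem_CS_Mt.2 ⟨x, a, ⟨N, CJ.refl N, b⟩, _, c, (mul_inv_cancel_left x g).symm⟩⟩
  obtain ⟨L, a1, a2⟩ := exists_hall_ge (max_sol hN) (zpowers_le.2 c.1) e
  have a3 := a2 (mem_zpowers _)
  have a4 : y ∈ Sg N ⊓ CC L := bg14_2a hN a1 _ a3 d ▸ mem_inf.2 ⟨a, mem_C1_comm.1 c.2⟩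
  have a5 : ZP _ N L := ⟨hN, a1, ne_bot_of_mem a3 d, rfl⟩
  have a6 : g ∈ Zh L (Sg N ⊓ CC L) := ⟨mul_inv_cancel_left y g ▸ mul_mem (mem_sup_right a4) (mem_sup_left a3),
    fun f => b (eq_one_of_inf a5.inf (by simpa using mul_mem f (inv_mem a3)) a4),
    fun f => d (eq_one_of_inf a5.inf a3 (mul_mem (inv_mem a4) f))⟩
  obtain ⟨H, h⟩ := bg14_7 hM hK h0
  rcases h.cls N hN ((kappa_nonempty_iff a1).2 a5.ne) with f | f
  · exact .inr (mem_CS_Zh hM hK f a1 a6)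
  · exact .inr (by simpa only [h.cc, Zh_comm K] using mem_CS_Zh h.max h.hk f a1 a6)
theorem bg14_9c (hM : IsCoatom M) (hK : Hall (kappa M) K M) (h0 : K ≠ ⊥) (hN : IsCoatom N) :
    Disjoint (CS (Zh K (Sg M ⊓ CC K))) (CS (Mt N)) := Set.disjoint_left.2 fun _ ⟨z, a, y, b⟩ c =>
  ZP.notMt ⟨hM, hK, h0, rfl⟩ a hN (CS.of_conj (b ▸ c))
theorem cc_bot_of_kappa (hk : kappa M = ∅) (hp : #X ∈ tau1 M ∪ tau3 M) (hX : X ≤ M) : Sg M ⊓ CC X = ⊥ :=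
  by_contra fun e => Set.notMem_empty _ (hk ▸ kappa_of_cc hp hX e)
/-- BG 14.11 -/
theorem bg14_11 (hM : IsCoatom M) (hk : kappa M = ∅) (hE : Hall (sigma M)ᶜ E M) (hQ : Q ≤ E)
    (hq : (#Q).Prime) (h : ¬ Q ≤ F E) : ∃ H : Subgroup G, IsCoatom H ∧
      ((#Q ∈ tau2 H ∧ UM (CC Q) H) ∨ (#Q ∈ kappa H ∧ TP1 H)) := by
  haveI := Fact.mk hq
  have a : #Q ∈ tau1 M := by
    rcases compl_tau hM hE hq (card_dvd hQ) with a | a | a
    · exact a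
    · obtain ⟨A, b⟩ := exists_el2_compl hE a
      have c := bg12_6ab hM hE a b
      exact absurd ((c.2.1 Q hQ rfl).trans (le_F b.le c.1 (nil_of_ab b.ab))) h
    · exact absurd ((pg_le_der (fun e => tau3_rk a (e.mono hE.le)) ((dvd_der_compl hM hE hq (tau3_ns a)).2
        (tau3_dvd' a)) (pg_of_card rfl) hQ).trans (le_F (der_le E) (nn_comm (le_nn E) (le_nn E)) (bg12_1a hM hE))) h
  have b := cc_bot_of_kappa hk (.inl a) (hQ.trans hE.le)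
  have c := bg12_10b hM hE
  have c1 : Q ≤ NN ⁅E, E⁆ := nn_comm (nn_of_le hQ) (nn_of_le hQ)
  have c2 : ¬ #Q ∣ #(⁅E, E⁆ : Subgroup G) := fun e => tau1_nd a (e.trans (card_dvd (der_mono hE.le)))
  obtain ⟨d1, d2, -⟩ := bg10_11d hM ((der_le E).trans hE.le) (hE.pi.mono (der_le E)) (tau1_ns a) (hQ.trans hE.le) rfl
    c1 b c2 c
  have d3 : ⁅⁅E, E⁆, Q⁆ ≠ ⊥ := fun e => h (le_sup_right.trans (le_F (sup_le (der_le E) hQ)
    (nn_of_der_le le_sup_left (sup_le (der_le E) hQ)) (nil_sup (nil_of_ab c) (nil_of_pg (pg_of_card rfl))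
      (nn_of_cc (comm_eq_bot.1 e)) c1)))
  obtain ⟨P, e1, e2⟩ := exists_prime_sub d3
  haveI := Fact.mk e2
  have e3 := e1.trans (comm_le_left c1)
  have e4 := e3.trans (der_le E)
  have e5 : #P ∈ tau2 M := (der_pi23 hM hE _ e2 (card_dvd e3)).resolve_left fun e => Sg_ne_bot hM
    (inf_eq_left.2 (cc_symm (e1.trans d1)) ▸ cc_bot_of_kappa hk (.inr e) (e4.trans hE.le))
  obtain ⟨A, f1⟩ := exists_el2_compl hE e5
  have f2 := bg12_6ab hM hE e5 f1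
  have f3 : ¬ Q ≤ CC A := fun e => prime_ne_bot e2 (eq_bot_of_le (cop_ab_inf c c1
    ((Nat.Prime.coprime_iff_not_dvd hq).2 c2)) (le_inf e3 ((f2.2.1 P e4 rfl).trans (cc_symm e))) e1)
  obtain ⟨-, -, f4, -⟩ := bg12_9 hM hE e5 f1 a hQ rfl b fun e => f3 (comm_eq_bot'.1 e)
  obtain ⟨H, hH, i⟩ := exists_max (pg_nn_ne_top f1.pg f1.ne_bot)
  obtain ⟨i1, i2, -⟩ := bg12_11 hM hE e5 f1 hH i
  have i3 := (hQ.trans f2.1).trans i
  have i4 : Sg H ⊓ CC Q ≠ ⊥ := ne_bot_of_le_ne_bot (prime_ne_bot (f4 ▸ e2))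
    (inf_le_inf_right _ (pg_le_Sg hH (i1 _ e5).1 ((le_nn A).trans i) f1.pg))
  rcases i2 _ hq (by_contra fun e => f3 (pg_le_of_not_dvd (pg_of_card rfl) hQ (nn_cc f2.1) e)) with j | j
  · have j1 := kappa_of_cc (.inl j) i3 i4
    obtain ⟨K, k⟩ := exists_hall (max_sol hH) (kappa H)
    exact ⟨H, hH, .inr ⟨j1, by_contra fun e => (i1 _ e5).2 ((bg14_2g hH k ⟨⟨_, j1⟩, e⟩).1 ▸ (i1 _ e5).1)⟩⟩
  · exact ⟨H, hH, .inl ⟨j, bg12_6c hH j i3 rfl i4⟩⟩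
/-- BG 14.12 -/
theorem bg14_12 [Fact r.Prime] (hM : IsCoatom M) (h : KC M U K) (h0 : K ≠ ⊥) (hp : Partner M K L N)
    (hR : IsSyl r R U) (hH : IsCoatom H) (h1 : NN R ≤ H) :
    kappa H = ∅ ∧ U ≤ Sg H ∧ M ⊓ H = U ⊔ K ∧ ¬ H ⊓ NN U ≤ M ∧ K ≤ F (H ⊓ N) ∧
      Hall (sigma H)ᶜ (H ⊓ N) H := by
  have a0 : R ≠ ⊥ := fun e => hH.1 (top_le_iff.1 (nn_bot.trans (e ▸ h1)))
  have a1 : U ≠ ⊥ := ne_bot_of_le_ne_bot a0 hR.le
  have a2 : TP2 M := ⟨(kappa_nonempty_iff h.hK).2 h0, fun e => a1 (h.tp1_iff.1 e)⟩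
  have hq := (bg14_2g hM h.hK a2).2.1
  haveI := Fact.mk hq
  have a3 := h.ab hM h0
  have a4 : U ≤ H := (ab_nn a3 le_rfl hR.le).trans h1
  have a5 : K ≤ H := (syl_nn hR (ab_nn a3 le_rfl hR.le) h.nn).trans h1
  have a6 := pg_mem_pi hR.pgroup a0 (h.hU.pi.mono hR.le)
  have a7 := h.hU.syl_trans hR a6
  have b1 : ¬ CJ M H := fun e => a6 (.inl (e.sigma ▸ mem_sigma_of (syl_of_nn (hR.le.trans a4) (by
    obtain ⟨g, rfl⟩ := e
    rw [inf_eq_right.2 h1]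
    exact ⟨le_nn R, hR.pgroup, fun e => a7.not_dvd (by
      have c1 := card_mul_relIndex (hR.le.trans a4)
      rw [card_cj, ← card_mul_relIndex a7.le, Nat.mul_right_inj (card_ne_zero R)] at c1
      exact c1 ▸ e.trans (Dvd.intro _ (relIndex_mul_relIndex _ _ _ (le_nn R) h1)))⟩)) a0 h1))
  obtain ⟨z1, z2⟩ := hp.zp hM h.hK h0
  have hN := hp.max
  have um := hp.um K le_rfl hq
  have b2 : K ≤ Sg N := hp.cc ▸ inf_le_left
  have b3 : #K ∈ sigma N := Sg_pi N _ hq (card_dvd b2)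
  have b4 : H ≠ N := fun e => a1 (eq_bot_of_le (inf_of_coprime h.coprime)
    (z1.le1 (hp.inf ▸ le_inf h.hU.le (e ▸ a4)) h.pi') le_rfl)
  have b5 : ¬ CJ N H := by
    rintro ⟨g, rfl⟩
    exact h0 (eq_bot_of_le (bg14_2d hN hp.hk z2.ne fun e => b4 (cj_eq_of_mem e)) hp.cc.ge a5)
  have c1 : kappa H = ∅ := Set.not_nonempty_iff_eq_empty.1 fun e => (hp.cls H hH e).elim b1 b5
  have c2 : IsPi (sigma H)ᶜ K := (Sg_pi_ns hH hN fun e => b5 e.symm).mono b2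
  obtain ⟨D, d1, d2⟩ := exists_compl_ge hH a5 c2
  have d3 : K ≤ F D := by_contra fun e => by
    obtain ⟨Y, y1, y2 | y2⟩ := bg14_11 hH c1 d1 d2 hq e
    · exact tau2_ns y2.1 (um.eq y2.2 ▸ b3)
    · rcases hp.cls Y y1 ⟨_, y2.1⟩ with f | f
      · exact a2.2 (f.symm.tp1 y2.2)
      · exact kappa_ns y2.1 (f.sigma ▸ b3)
  have d4 : K ≤ O {#K} D := (nil_le_O (F_nil D) d3 (pi1_of_pg (pg_of_card rfl))).trans (O1_F D).le
  have d5 : H ≤ NN (Sg H ⊔ O {#K} D) := (Sg_sup hH d1).ge.trans (sup_le (nn_of_le le_sup_left)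
    (nn_sup (nn_Sg' d1.le) (nn_O (le_nn D))))
  have d6 : U ≤ Sg H := by
    have e : U ≤ Sg H ⊔ O {#K} D := (h.comm hM h0).ge.trans ((commutator_mono a4 (d4.trans le_sup_right)).trans
      (comm_le_right d5))
    have e1 := nn_Sg' ((O_le {#K} D).trans d1.le)
    exact (Hall.of_sup (π := {#K}ᶜ) ((Sg_pi H).ne (c2 _ hq dvd_rfl)) (O_pi _ D).compl_compl e1).le_of_nn e
      (pi_compl_iff_coprime.2 h.coprime.symm) (nn_Sg' a4)
  have e1 : Sg M ⊓ H = ⊥ := eq_bot_of_le (Sg_cc_eq_bot hM h.hU a1) inf_le_left (comm_eq_bot.1 (eq_bot_of_le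
    (Sg_inf (Sg_pi_ns hM hH b1)) ((commutator_mono inf_le_left le_rfl).trans (comm_le_left (nn_Sg' h.hU.le)))
    ((commutator_mono inf_le_right d6).trans (comm_le_right (nn_Sg' le_rfl)))))
  have e2 : M ⊓ H = U ⊔ K := by
    conv_lhs => rw [← Sg_sup hM (h.compl hM), sup_comm,
      dedekind' (sup_le a4 a5) (nn_Sg' (h.compl hM).le), e1, sup_bot_eq]
  have e3 : D ≤ N := by
    by_cases e : IsCyclic (O {#K} D)
    · exact (cyc_nn e d4 (nn_O (le_nn D))).trans (um.le_of (cc_le_nn K) (nn_ne_top' hH a5 h0))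
    · exact (nn_O (le_nn D)).trans (bg12_10d hN b3 (O_pg D) ((ab_le_cc (bg12_10a hH ((O_le _ D).trans d1.le)
        (d1.pi.mono (O_le _ D)) (nil_of_pg (O_pg D))) le_rfl d4).trans um.le) e)
  have e4 : Sg H ⊓ CC K = ⊥ := by
    rcases compl_tau hH d1 hq (card_dvd d2) with e | e | e
    · exact cc_bot_of_kappa c1 (.inl e) a5
    · exact by_contra fun f => b4 (um.eq (bg12_6c hH e a5 rfl f))
    · exact cc_bot_of_kappa c1 (.inr e) a5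
  have e5 : Sg H ⊓ N = ⊥ := eq_bot_of_le e4 inf_le_left (comm_eq_bot.1 (eq_bot_of_le
    (Sg_inf (Sg_pi_ns hH hN fun e => b5 e.symm)) ((commutator_mono inf_le_left le_rfl).trans
    (comm_le_left (nn_Sg' a5))) ((commutator_mono inf_le_right b2).trans (comm_le_right (nn_Sg' le_rfl)))))
  have e6 : H ⊓ N = D := by
    conv_lhs => rw [← Sg_sup hH d1, sup_comm, dedekind' e3 (nn_Sg' d1.le), e5, sup_bot_eq]
  refine ⟨c1, d6, e2, fun e => ?_, e6 ▸ d3, e6 ▸ d1⟩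
  have f : U = Sg H := by_contra fun f => (nil_lt_nn (Sg_nil_of_not_tp1 hH fun e => by
    simpa [c1] using e.nonempty hH) (lt_of_le_of_ne d6 f)).not_ge (by
      have f1 : Sg H ⊓ NN U ≤ (U ⊔ K) ⊓ Sg H := le_inf (e2 ▸ le_inf
        ((inf_le_inf_right _ (Sg_le H)).trans e) (inf_le_left.trans (Sg_le H))) inf_le_left
      rwa [dedekind d6 h.nn, inf_comm K, Sg_inf c2, sup_bot_eq] at f1)
  exact ne_of_not_CJ b1 (max_eq' hH hM ((le_inf le_rfl (f ▸ nn_Sg' le_rfl)).trans e)).symm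
/-- BG 14.13(a) -/
theorem bg14_13a (hM : IsCoatom M) (hx : x ∈ Sg M) (h1 : x ≠ 1) (h : ¬ C1 x ≤ M) (hN : IsCoatom N)
    (h2 : C1 x ≤ N) (hp : p ∈ sigma N) (h3 : p ∣ #M) :
    kappa M = ∅ ∧ tau2 M = ∅ ∧ ∀ E, Hall (sigma M)ᶜ E M → Reg (Sg M) E := by
  obtain ⟨N', n1, n2, -, -, n3, -, n4, n5, -, n6⟩ := bg14_4 hM hx h1 h
  obtain rfl := n1.uniq N hN h2
  have hq := sigma_prime hp
  haveI := Fact.mk hq
  have a1 := n5 p hp h3
  have a2 := (mem_beta.1 a1).2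
  have a3 : p ∉ sigma M := fun e => n6 (cj_of_sigma hM hN e hp)
  have a4 : ∀ Q ≤ M, #Q = p → ∃ g, UM (CC Q) (cj g N) := fun Q b c => by
    obtain ⟨g, d⟩ := bg12_16 hN (pi_of_card c hq hp)
    have := (bg12_14 hN (d.trans (Sg_le N)) ((card_cj g Q).trans c) (.inl a1)).1.cj g⁻¹
    rw [← cj_centralizer, cj_inv_cj] at this
    exact ⟨_, this⟩
  obtain ⟨X, x1, x2⟩ := exists_line h1
  have b1 := n2 _ x2 (card_dvd x1)
  have b2 : kappa M = ∅ := Set.not_nonempty_iff_eq_empty.1 fun e => by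
    obtain ⟨K, k⟩ := exists_hall (max_sol hM) (kappa M)
    have c : TP1 M := by_contra fun f => tau2_not_ideal hN b1
      (mem_beta.1 ((bg14_2g hM k ⟨e, f⟩).1 ▸ n4 b1)).2
    obtain ⟨Q, c1, c2⟩ := exists_card_eq hq (k.dvd hq ((c p hq h3).resolve_left a3) h3)
    obtain ⟨H, c3⟩ := bg14_7 hM k ((kappa_nonempty_iff k).1 e)
    obtain ⟨g, c4⟩ := a4 Q (c1.trans k.le) c2
    have c5 : #X ∈ tau2 H := (c3.um Q c1 (c2 ▸ hq)).eq c4 ▸ (tau2_cj g N).symm ▸ b1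
    exact kappa_not2 (c3.hk.pi _ x2 (c3.hs.dvd x2 (n4 b1) (tau2_dvd c5))) c5
  have b3 : tau2 M = ∅ := Set.eq_empty_of_forall_notMem fun s hs => by
    haveI := Fact.mk (tau2_prime hs)
    obtain ⟨Q, c1, c2⟩ := exists_card_eq hq h3
    obtain ⟨E, c3, c4⟩ := exists_compl_ge hM c1 (pi_of_card c2 hq a3)
    obtain ⟨A, c5⟩ := exists_el2_compl c3 hs
    obtain ⟨g, c6⟩ := a4 Q c1 c2
    have d : ¬ Rk s 2 N := fun e => tau2_ns hs (n4 (mem_tau2_of hN (fun f => tau2_not_ideal hM hs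
      (mem_beta.1 (n5 s f (tau2_dvd hs))).2) e))
    have d1 : ¬ Q ≤ CC A := fun e => d (rk_cj.1 (c5.of_le ((cc_symm e).trans c6.le)).rk)
    have d2 : p ∈ tau1 M := by
      rcases compl_tau hM c3 hq (c2 ▸ card_dvd c4) with a | a | a
      · exact a
      · exact absurd a2 (tau2_not_ideal hM a)
      · exact absurd ((pg_le_der (fun e => tau3_rk a (e.mono c3.le)) ((dvd_der_compl hM c3 hq a3).2
          (tau3_dvd' a)) (pg_of_card c2) c4).trans (bg12_10c hM c3 hs c5).1) d1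
    obtain ⟨⟨e1, e2, -⟩, e3, e4, -⟩ := bg12_9 hM c3 hs c5 d2 c4 c2 (cc_bot_of_kappa b2 (.inl (c2 ▸ d2)) c1)
      fun e => d1 (comm_eq_bot'.1 e)
    obtain ⟨m, -, e5⟩ := line_cj (ne_two_of_dvd (tau2_dvd hs)) d
      (e2.ge.trans (inf_le_right.trans ((cc_le_C1 hx).trans h2))) e1
      (cj_le_iff_le_cj_inv.2 (by rw [inv_inv]; exact inf_le_right.trans c6.le)) ((card_cj g⁻¹ _).trans e4)
    exact e3 ((cj_CJ g⁻¹ _).trans ⟨m, e5⟩)
  refine ⟨b2, b3, fun E hE => reg_of_prime fun Y c d => cc_bot_of_kappa b2 ?_ (c.trans hE.le)⟩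
  rcases compl_tau hM hE d (card_dvd c) with a | a | a
  exacts [.inl a, absurd a (b3 ▸ Set.notMem_empty _), .inr a]
/-- BG 14.13(b) -/
theorem bg14_13b (hM : IsCoatom M) (hx : x ∈ Sg M) (h1 : x ≠ 1) (h : ¬ C1 x ≤ M) (hN : IsCoatom N)
    (h2 : C1 x ≤ N) (hy : y ∈ Sg M) (h3 : y ≠ 1) (h4 : ¬ C1 y ≤ M) (hL : IsCoatom L) (h5 : C1 y ≤ L)
    (h6 : CJ L N) : ∃ m ∈ M, cj m L = N := by
  obtain ⟨N', n1, n2, -, -, -, -, n4, -, n5, -⟩ := bg14_4 hM hx h1 h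
  obtain rfl := n1.uniq N hN h2
  obtain ⟨L', l1, -, -, -, -, -, -, -, l5, -⟩ := bg14_4 hM hy h3 h4
  obtain rfl := l1.uniq L hL h5
  obtain ⟨g, rfl⟩ := h6
  obtain ⟨m, a, b⟩ := Hall.conj (max_sol hN) ((sigma_cj g L).symm ▸ l5.cj g) n5
  obtain ⟨X, x1, x2⟩ := exists_line h1
  haveI := Fact.mk x2
  have c := n2 _ x2 (card_dvd x1)
  obtain ⟨A, d⟩ := exists_el2_compl n5 c
  rw [cj_cj] at b
  have e : A ≤ cj (m * g) M := d.le.trans (b ▸ cj_mono _ inf_le_left)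
  refine ⟨m * g, inv_mem_iff.1 (bg10_1e hM (n4 c) d.pg (d.le.trans inf_le_left) ((cc_le_nn A).trans
    (bg12_10d hM (n4 c) d.pg (d.le.trans inf_le_left) d.not_cyc)) (cj_le_iff_le_cj_inv.2 (by rwa [inv_inv]))), ?_⟩
  rw [← cj_cj, cj_eq_of_mem a]
end

end Cfsg.Agent.MS
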