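import Cfsg.Agent.Lib.MS.Sec14b
import Cfsg.Agent.Lib.MS.Aux15

/-!
BG section 15: the subgroup M_F.
-/

set_option linter.unusedSectionVars false
set_option linter.unusedVariables false
set_option linter.style.haveILetI false
set_option linter.unusedSimpArgs false

namespace Cfsg.Agent.MS

open Subgroup Cfsg.Agent.Transfer

universe u
variable {G : Type u} [Group G] [Finite G]

section
variable [hG : MinS G] {A B D E E1 E2 E3 H K L M N P Q R S U V X Y : Subgroup G} {p q r : ℕ} {g x y : G}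
  {π : Set ℕ}
include hG

/-- BG 15.1(a) -/
theorem bg15_1a (hM : IsCoatom M) (h : KC M U K) :
    M ≤ NN (Sg M ⊔ U) ∧ Sg M ⊔ U ⊔ K = M ∧ ⁅⁅M, M⁆, ⁅M, M⁆⁆ ≤ Sg M := by
  have a1 := h.compl hM
  have a2 := der_eq_Sg_sup hM a1
  have a3 : ⁅U ⊔ K, U ⊔ K⁆ ≤ U := (der_sup_le h.nn).trans
    (sup_le le_rfl (ab_iff_der.1 (ab_of_cyc (kappa_cyc hM h.hK)) ▸ bot_le))
  refine ⟨nn_of_der_le (a2.le.trans (sup_le_sup_left a3 _)) (sup_le (Sg_le M) h.hU.le),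
    by rw [sup_assoc, Sg_sup hM a1], ?_⟩
  rw [a2]
  exact (der_sup_le (nn_Sg' ((der_le _).trans a1.le))).trans
    (sup_le le_rfl (ab_iff_der.1 (bg12_10b hM a1) ▸ bot_le))
/-- BG 15.1(b) -/
theorem bg15_1b (hM : IsCoatom M) (h : KC M U K) (h0 : K ≠ ⊥) : Sg M ⊔ U = ⁅M, M⁆ := by
  have a1 := h.compl hM
  have a2 := h.reg hM
  have a3 : ⁅U, K⁆ = U := cop_comm_eq h.nn (a2.coprime h.nn) (sol_of_le hM h.hU.le) (a2.cc le_rfl h0)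
  rw [der_eq_Sg_sup hM a1]
  congr 1
  exact le_antisymm (a3.ge.trans (commutator_mono le_sup_left le_sup_right)) ((der_sup_le h.nn).trans
    (sup_le le_rfl (ab_iff_der.1 (ab_of_cyc (kappa_cyc hM h.hK)) ▸ bot_le)))
/-- BG 15.1(c) -/
theorem bg15_1c (hM : IsCoatom M) (hX : X ≤ M) (h : IsPi (sigma M ∪ kappa M)ᶜ X) (h0 : X ≠ ⊥)
    (h1 : Sg M ⊓ CC X ≠ ⊥) : UM (CC X) M ∧ IsCyclic X ∧ IsPi (tau2 M) X := by
  have a1 : IsPi (tau2 M) X := fun p hp hd => by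
    obtain ⟨Y, b1, b2⟩ := exists_card_eq hp hd
    have b3 := h p hp hd
    rw [Set.mem_compl_iff, Set.mem_union, not_or] at b3
    by_contra b4
    refine b3.2 (mem_kappa.2 ⟨?_, Y, b1.trans hX, b2, fun e => h1 (eq_bot_iff.2
      ((inf_le_inf_left _ (cc_anti b1)).trans e.le))⟩)
    rcases tau_cases hM hp (hd.trans (card_dvd hX)) with b | b | b | b
    exacts [absurd b b3.1, Or.inl b, absurd b b4, Or.inr b]
  have a2 : IsCyclic X := ab_cyc (bg12_10b' hM hX a1) fun ⟨p, hp, A, hA⟩ => by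
    haveI := Fact.mk hp
    exact h1 (eq_bot_iff.2 ((inf_le_inf_left _ (cc_anti hA.le)).trans
      (bg12_5 hM (a1 p hp hA.dvd) (hA.mono hX)).2.1.le))
  refine ⟨?_, a2, a1⟩
  obtain ⟨x, hx, rfl⟩ := exists_zpowers a2
  rw [cc_zpowers] at h1 ⊢
  exact bg12_10e hM (hX hx) (zpowers_ne_bot.1 h0) a1 h1
/-- BG 15.1(d), (e) -/
theorem bg15_1de (hM : IsCoatom M) (hU : Hall (sigma M ∪ kappa M)ᶜ U M) :
    (∃ A0 ≤ U, U ≤ NN A0 ∧ IsMulCommutative A0 ∧ ∀ x ∈ Sg M, x ≠ 1 → U ⊓ C1 x ≤ A0) ∧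
      ∃ U0 ≤ U, Monoid.exponent U0 = Monoid.exponent U ∧ Reg (Sg M) U0 := by
  refine bg12_12 hM hU (hU.pi.sub fun p a b => a (Or.inl b))
    (fun p a b => b.elim (tau2_ns a) fun b => kappa_not2 b a) fun e a b c => ?_
  obtain ⟨X, d1, d2⟩ := exists_prime_sub (zpowers_ne_bot.2 b)
  by_contra d3
  exact hU.pi _ d2 (card_dvd (d1.trans (zpowers_le.2 a))) (Or.inr (mem_kappa.2 ⟨c _ d2 (card_dvd d1), X,
    d1.trans ((zpowers_le.2 a).trans hU.le), rfl, fun e => d3 (eq_bot_iff.2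
      ((inf_le_inf_left _ ((cc_zpowers _).ge.trans (cc_anti d1))).trans e.le))⟩))
theorem MF_le_Sg (hM : IsCoatom M) : MF M ≤ Sg M := by
  refine le_Sg hM (MF_le M) fun p hp hd => ?_
  haveI := Fact.mk hp
  have a := syl_ne_bot (MF_syl hd) (hd.trans (card_dvd (MF_le M)))
  exact mem_sigma_of (MF_syl hd) a (nn_O_max hM a).le
theorem MF_eq_Sg_iff (hM : IsCoatom M) : MF M = Sg M ↔ Group.IsNilpotent (Sg M) := by
  exact ⟨fun h => h ▸ MF_nil M, fun h => le_antisymm (MF_le_Sg hM) (le_MF (Sg_hall hM) (nn_Sg' le_rfl) h)⟩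
theorem tp1_compl (hM : IsCoatom M) (hK : Hall (kappa M) K M) (h : TP1 M) :
    K ≠ ⊥ ∧ Hall (sigma M)ᶜ K M ∧ Sg M = ⁅M, M⁆ := by
  obtain ⟨U, hU⟩ := exists_KC hM hK
  obtain rfl := hU.tp1_iff.1 h
  have a := (kappa_nonempty_iff hK).1 (h.nonempty hM)
  exact ⟨a, bot_sup_eq K ▸ hU.compl hM, sup_bot_eq (Sg M) ▸ bg15_1b hM hU a⟩
theorem bg15_2a (hM : IsCoatom M) (hK : Hall (kappa M) K M) (hn : ¬ Group.IsNilpotent (Sg M))
    (hq : q = #(Sg M ⊓ CC K : Subgroup G)) :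
    q.Prime ∧ Sg M ⊓ CC K ≤ O {q} M ∧ NilMod (O {q} M) (Sg M) ∧ IsSyl q (O {q} M) M ∧ q ∈ sigma M := by
  have a1 : TP1 M := by_contra fun e => hn (Sg_nil_of_not_tp1 hM e)
  obtain ⟨a2, a3, a4⟩ := tp1_compl hM hK a1
  obtain ⟨H, hp⟩ := bg14_7 hM hK a2
  have a5 : q.Prime := hq ▸ (hp.p2.resolve_left fun e => e.1.2 a1).2
  haveI := Fact.mk a5
  have a6 : K ≤ NN (Sg M) := nn_Sg' hK.le
  have a7 : Sg M ⊓ CC K ≤ F (Sg M) := prime_le (hq ▸ a5) fun e => hn (nil_mono (F_nil _)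
    ((bg12_17a hM a3).2.ge.trans (bg3_8 (sol_of_le hM (sup_le (Sg_le M) hK.le)) (odd_sub _) a6
      (Sg_coprime a3.pi).symm (bg14_2a hM hK) (eq_bot_iff.2 ((le_inf (inf_le_inf_right _ (F_le _))
        inf_le_left).trans e.le)))))
  have a8 : Sg M ⊓ CC K ≤ O {q} M := (nil_le_O (F_nil _) a7 (pi1_of_pg (pg_of_card hq.symm))).trans
    ((O1_F _).le.trans (O_le_O (Sg_le M) (nn_Sg' le_rfl)))
  have a9 : q ∈ sigma M := Sg_pi M q a5 (hq ▸ card_dvd inf_le_left)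
  have b1 : O {q} M ≤ Sg M := pg_le_Sg hM a9 (O_le _ _) (O_pg M)
  obtain ⟨X, b2, b3⟩ := exists_prime_sub a2
  have b4 : NilMod (O {q} M) (Sg M) := nilMod_of_fpf b3 (b2.trans a6) (nn_O (nn_of_le (b2.trans hK.le))) b1
    (nn_O (nn_of_le (Sg_le M))) (coprime_mono (Sg_coprime a3.pi) b2 b1) (sol_of_pg (O_pg M))
    (((bg14_2a hM hK).cc b2 (prime_ne_bot b3)).le.trans a8)
  obtain ⟨P, hP⟩ := exists_isSyl q (Sg M)
  have b5 := Sg_syl hM a9 hP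
  have b6 := b4 q a5 P hP
  rw [sup_eq_right.2 (O_le_syl b5)] at b6
  exact ⟨a5, a8, b4, syl_eq_O b5 (syl_nn hP b6 (nn_Sg' le_rfl)) ▸ b5, a9⟩
theorem bg15_2b (hM : IsCoatom M) (hK : Hall (kappa M) K M) (hn : ¬ Group.IsNilpotent (Sg M))
    (hq : q = #(Sg M ⊓ CC K : Subgroup G)) (hQ : Q = O {q} M) (hD : Hall {q}ᶜ D (Sg M)) (hKD : K ≤ NN D) :
    (#K).Prime ∧ ¬ D ≤ CC Q ∧ BG.Chief (D ⊔ K) Q (Q ⊓ CC D) ∧ ¬ Sg M ⊓ CC K ≤ CC D ∧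
      #Q = #(Q ⊓ CC D : Subgroup G) * q ^ #K ∧ ⁅Q, ⁅D, D⁆⁆ ≤ Q ⊓ CC D := by
  have a1 : TP1 M := by_contra fun e => hn (Sg_nil_of_not_tp1 hM e)
  obtain ⟨a2, a3, a4⟩ := tp1_compl hM hK a1
  obtain ⟨a5, a6, a7, a8, a9⟩ := bg15_2a hM hK hn hq
  rw [← hQ] at a6 a7 a8
  haveI := Fact.mk a5
  have nQ : ∀ {X}, X ≤ M → X ≤ NN Q := fun h => hQ ▸ nn_O (nn_of_le h)
  have b1 : Q ≤ Sg M := pg_le_Sg hM a9 a8.le a8.pgroup
  have b2 : Q ⊓ D = ⊥ := pg_inf a8.pgroup hD.pi (by simp)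
  have b3 : Q ⊔ D = Sg M := (hall_of_syl (syl_Sg hM a9 a8)).sup hD
  have DM := hD.le.trans (Sg_le M)
  have b4 := a7.nil (nQ (Sg_le M)) hD.le b2
  have b5 : ¬ D ≤ CC Q := fun e => hn (b3 ▸ nil_sup (nil_of_pg a8.pgroup) b4 (nn_of_cc (cc_symm e)) (nQ DM))
  have b6 : Q ⊓ CC D < Q := lt_of_le_of_ne inf_le_left fun e => b5 (cc_symm (e.ge.trans inf_le_right))
  have XM : D ⊔ K ≤ M := sup_le DM hK.le
  have b7 : D ⊔ K ≤ NN (Q ⊓ CC D) := nn_inf (nQ XM) (nn_cc (sup_le (le_nn D) hKD))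
  set Q0 := Q ⊓ CC D with hQ0
  obtain ⟨Q1, c1, c2⟩ := BG.exists_chief_above (nn_inf (nQ XM) (nn_nn b7)) b7
    (nil_lt_nn (nil_of_pg a8.pgroup) b6)
  have c3 := c1.trans inf_le_left
  have c4 := c1.trans inf_le_right
  have cK : ∀ {X Y}, X ≤ K → Y ≤ Sg M → (#X).Coprime #Y := fun h1 h2 => coprime_mono (Sg_coprime a3.pi) h1 h2
  have cD : ∀ {Y}, Y ≤ Q → (#D).Coprime #Y := fun h => (pg_coprime (a8.pgroup.to_le h) hD.pi (by simp)).symm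
  have sol : ∀ {Y}, Y ≤ Q → Group.IsSolvable Y := fun h => sol_of_pg (a8.pgroup.to_le h)
  obtain ⟨X, c5, c6⟩ := exists_prime_sub a2
  have c7 := (bg14_2a hM hK).cc c5 (prime_ne_bot c6)
  -- a section `Y / N` with `C(X) ∩ Y D ≤ N` is centralised by `D`
  have key : ∀ N Y, N ≤ Y → Y ≤ Q → Y ≤ NN N → D ⊔ K ≤ NN N → D ⊔ K ≤ NN Y → Q0 ≤ N →
      (Sg M ⊓ CC K ≤ Y → Sg M ⊓ CC K ≤ N) → Y ≤ N := fun N Y d1 d2 d3 d4 d5 d6 d7 => by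
    have e1 : Y ⊔ D ≤ Sg M := sup_le (d2.trans b1) hD.le
    have e2 : Y ⊔ D ≤ NN N := sup_le d3 (le_sup_left.trans d4)
    have e3 := nilMod_of_fpf c6 (nn_sup (c5.trans (le_sup_right.trans d5)) (c5.trans hKD))
      (c5.trans (le_sup_right.trans d4)) (d1.trans le_sup_left) e2 (cK c5 (d1.trans (d2.trans b1)))
      (sol (d1.trans d2)) (by
        have e4 : (Y ⊔ D) ⊓ CC X ≤ Sg M ⊓ CC K := (inf_le_inf_right _ e1).trans c7.le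
        rcases eq_or_ne ((Y ⊔ D) ⊓ CC X) ⊥ with e | e
        · exact e.le.trans bot_le
        have e5 := prime_eq_of_le (hq ▸ a5) e4 e
        refine e5.le.trans (d7 ((le_inf (e5.ge.trans inf_le_left) a6).trans ?_))
        rw [dedekind d2 (le_sup_left.trans d5), inf_comm, b2, sup_bot_eq])
    have e4 := cop_sup_cc d1 d3 (le_sup_left.trans d4) (cD (d1.trans d2)) (sol (d1.trans d2))
      (e3.comm_le e2 le_sup_left le_sup_right (cD d2).symm)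
    exact e4.ge.trans (sup_le le_rfl ((inf_le_inf_right _ d2).trans d6))
  have c8 : Sg M ⊓ CC K ≤ Q1 ∧ ¬ Sg M ⊓ CC K ≤ Q0 := by
    by_contra! e
    exact c2.lt.not_ge (key Q0 Q1 c2.lt.le c3 c4 b7 c2.nU le_rfl e)
  obtain rfl : Q1 = Q := by_contra fun e => (nil_lt_nn (nil_of_pg a8.pgroup) (lt_of_le_of_ne c3 e)).not_ge
    (key Q1 _ (le_inf c3 (le_nn _)) inf_le_left inf_le_right c2.nU (nn_inf (nQ XM) (nn_nn c2.nU)) c2.lt.le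
      fun _ => c8.1)
  have d1 : M ≤ NN Q0 := by
    rw [← Sg_sup hM a3, ← b3, sup_assoc]; exact sup_le c4 b7
  obtain ⟨T, _, _, f, s⟩ := exists_qm (inf_le_left.trans a8.le : Q0 ≤ M) d1
  have d2 : Q0 ⊓ (D ⊔ K) = ⊥ := pg_inf (a8.pgroup.to_le inf_le_left) (hD.pi.sup_l (a3.pi.ne (not_not.2 a9)) hKD)
    (by simp)
  have d3 : ∀ x (hx : x ∈ M), ∀ Y ≤ M, Q0 ≤ Y → Y ≤ Sg M → x ∈ NN Y → x ∈ K → x ≠ 1 →
      im f Y ⊓ C1 (f ⟨x, hx⟩) = im f (Y ⊓ CC K) := fun x hx Y e1 e2 e3 e4 e5 e6 => by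
    rw [← cc_zpowers, ← im_zpowers, ← s.im_inf_cc e1 (zpowers_le.2 hx) e2 (zpowers_le.2 e4)
      (cK (zpowers_le.2 e5) (inf_le_left.trans b1)) (sol inf_le_left),
      ((bg14_2a hM hK).mono_l e3).cc (zpowers_le.2 e5) (zpowers_ne_bot.2 e6)]
  have d4 : im f Q1 ⊓ CC (im f K) = im f (Sg M ⊓ CC K) := by
    rw [← s.im_inf_cc a8.le hK.le inf_le_left (nQ hK.le) (cK le_rfl (inf_le_left.trans b1)) (sol inf_le_left)]
    exact congrArg _ (le_antisymm (inf_le_inf_right _ b1) (le_inf a6 inf_le_right))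
  have KsM : Sg M ⊓ CC K ≤ M := a6.trans a8.le
  have d5 : #(im f (Sg M ⊓ CC K)) = q := by
    rw [s.card_im_of_disj KsM (by rw [inf_comm]; exact prime_inf (hq ▸ a5) c8.2), hq]
  have d6 : ∀ {Y}, Y ≤ D ⊔ K → Y ≠ ⊥ → im f Y ≠ ⊥ := fun h1 h2 e =>
    h2 (eq_bot_of_le d2 ((s.im_eq_bot (h1.trans XM)).1 e) h1)
  obtain ⟨d7, d8, d9⟩ := bg3_10 (K := im f D) (R := im f K) (M := im f Q1)
    (d6 le_sup_left fun e => b5 (e ▸ bot_le)) (d6 le_sup_right a2) (im_nn hK.le DM hKD)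
    (fun y h1 h2 => by
      obtain ⟨⟨x, hx⟩, e1, rfl⟩ := mem_im.1 h1
      have e2 : Q0 ⊔ D ≤ Sg M := sup_le (inf_le_left.trans b1) hD.le
      rw [← s.im_sup_N DM, d3 x hx _ (e2.trans (Sg_le M)) le_sup_left e2
        (nn_sup (le_sup_right.trans b7) hKD e1) e1 (fun e => h2 (by subst e; exact map_one f)),
        s.im_eq_bot (inf_le_left.trans (e2.trans (Sg_le M)))]
      refine (le_inf inf_le_left ((inf_le_inf_right _ e2).trans a6)).trans ?_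
      rw [dedekind inf_le_left (le_sup_left.trans b7), inf_comm D, b2, sup_bot_eq])
    (by rw [← im_sup DM hK.le]; exact im_sol (sol_of_le hM XM) XM)
    (by rw [← im_sup DM hK.le]; exact im_odd (odd_sub _) XM)
    (fun e => b6.not_ge ((s.im_eq_bot a8.le).1 e)) (im_nil (nil_of_pg a8.pgroup) a8.le)
    (im_nn DM a8.le (nQ DM)) (im_nn hK.le a8.le (nQ hK.le))
    (by
      rw [← im_sup DM hK.le]
      exact im_coprime (pg_coprime a8.pgroup (hD.pi.sup_l (a3.pi.ne (not_not.2 a9)) hKD) (by simp)).symm XM a8.le)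
    (by rw [← s.im_inf_cc a8.le DM inf_le_left (nQ DM) (cD inf_le_left) (sol inf_le_left), s.im_N])
    (fun y h1 h2 => by
      obtain ⟨⟨x, hx⟩, e1, rfl⟩ := mem_im.1 h1
      rw [d3 x hx _ a8.le inf_le_left b1 (nQ le_rfl hx) e1 (fun e => h2 (by subst e; exact map_one f)),
        s.im_inf_cc a8.le hK.le inf_le_left (nQ hK.le) (cK le_rfl (inf_le_left.trans b1)) (sol inf_le_left)])
  rw [d4, d5] at d8
  rw [d4, ← im_comm DM DM] at d9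
  rw [s.card_im_of_disj hK.le (inf_bot_mono d2 le_rfl le_sup_right)] at d7 d8
  refine ⟨d7, b5, c2, fun e => c8.2 (le_inf a6 e), ?_, ?_⟩
  · rw [← d8, ← s.card_pre, s.pre_im' a8.le inf_le_left]
  · exact (s.cc_iff a8.le ((der_le D).trans DM)).1 (cc_symm (d9 (prime_cyc (d5 ▸ a5))))
/-- BG 15.2, when `M_F ≠ M_σ`; here `q = |K*|`, `Q = O_q(M)`, `Q₀ = C_Q(D)` -/
theorem bg15_2 (hM : IsCoatom M) (hK : Hall (kappa M) K M) (hne : MF M ≠ Sg M)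
    (hq : q = #(Sg M ⊓ CC K : Subgroup G)) (hQ : Q = O {q} M) :
    (TP1 M ∧ Sg M ⊔ K = M ∧ Sg M = ⁅M, M⁆) ∧ ((#K).Prime ∧ q.Prime ∧ q ∣ #(MF M) ∧ q ∈ beta M) ∧
      IsSyl q Q M ∧ (⁅⁅M, M⁆, ⁅M, M⁆⁆ ≤ F M ∧ Q ⊔ (M ⊓ CC Q) = F M ∧ F M < Sg M) ∧
      ∀ D, Hall {q}ᶜ D (Sg M) → Group.IsNilpotent D ∧ M ≤ NN (Q ⊓ CC D) ∧ Q ⊓ CC D < Q ∧
        #Q = #(Q ⊓ CC D : Subgroup G) * q ^ #K ∧ ⁅Q, Q⁆ ≤ Q ⊓ CC D ∧ (∀ a ∈ Q, a ^ q ∈ Q ⊓ CC D) ∧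
        (∀ N, Q ⊓ CC D < N → N < Q → ¬ M ≤ NN N) ∧
        (∀ X ≤ M, ⁅Q, X⁆ ≤ Q ⊓ CC D → X ≤ F M) ∧
        ∀ X ≤ Sg M, ⁅Sg M ⊓ CC K, X⁆ ≤ Q ⊓ CC D → X ≤ F M := by
  have hn := mt (MF_eq_Sg_iff hM).2 hne
  have a1 : TP1 M := by_contra fun e => hn (Sg_nil_of_not_tp1 hM e)
  obtain ⟨a2, a3, a4⟩ := tp1_compl hM hK a1
  obtain ⟨a5, a6, a7, a8, a9⟩ := bg15_2a hM hK hn hq
  rw [← hQ] at a6 a7 a8
  haveI := Fact.mk a5
  have nQ : ∀ {X}, X ≤ M → X ≤ NN Q := fun h => hQ ▸ nn_O (nn_of_le h)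
  have sS := sol_of_le hM (Sg_le M)
  obtain ⟨D, hD, hKD⟩ := cop_hall (nn_Sg' hK.le) (Sg_coprime a3.pi) sS {q}ᶜ
  obtain ⟨c1, c2, c3, c4, c5, c6⟩ := bg15_2b hM hK hn hq hQ hD hKD
  have b1 : Q ≤ Sg M := pg_le_Sg hM a9 a8.le a8.pgroup
  have b2 : Q ⊓ D = ⊥ := pg_inf a8.pgroup hD.pi (by simp)
  have b3 : Q ⊔ D = Sg M := (hall_of_syl (syl_Sg hM a9 a8)).sup hD
  have DM := hD.le.trans (Sg_le M)
  have b4 := a7.nil (nQ (Sg_le M)) hD.le b2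
  have nil := nil_of_pg a8.pgroup
  have d1 : M ≤ NN (Q ⊓ CC D) := by
    rw [← Sg_sup hM a3, ← b3, sup_assoc]; exact sup_le (c3.le_normalizer nil) c3.nV
  have d2 := c3.commutator_le (c3.le_normalizer nil) (sol_of_nil nil)
  obtain ⟨r, d3, d4, d5⟩ := c3.exists_prime (c3.le_normalizer nil) (sol_of_nil nil)
  obtain rfl : r = q := pi1_of_pg a8.pgroup r d3 (d4.trans (relIndex_dvd _ _))
  have st : ∀ {Y}, Y ≤ D → ⁅Q, Y⁆ ≤ Q ⊓ CC D → Y ≤ CC Q := fun h1 h2 => cop_stable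
    (pg_coprime (a8.pgroup.to_le inf_le_left) (hD.pi.mono h1) (by simp)).symm h2
    (h1.trans (cc_symm inf_le_right))
  set Q0 := Q ⊓ CC D with hQ0
  have e1 : ∀ X ≤ M, ⁅Q, X⁆ ≤ Q0 → X ≤ F M ⊓ Sg M := fun X h1 h2 => by
    have f1 : M ≤ NN (M ⊓ AK Q0 Q) := nn_inf (le_nn M) (nn_AK d1 (nQ le_rfl))
    have f2 : M ⊓ AK Q0 Q ≤ Sg M := le_Sg hM inf_le_left fun p hp hd => by
      by_contra g1
      obtain ⟨Y, g2, g3⟩ := exists_card_eq hp hd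
      obtain ⟨g, g4, g5⟩ := a3.exists_cj_le (max_sol hM) (g2.trans inf_le_left) (pi_of_card g3 hp g1)
      have g6 := prime_eq_of_le c1 g5 (mt cj_eq_bot_iff.1 (prime_ne_bot (g3 ▸ hp)))
      have g7 : K ≤ M ⊓ AK Q0 Q := g6 ▸ cj_le g2 (f1 g4)
      exact c2 (st le_rfl (comm_AK ((hD.le.trans ((bg12_17a hM a3).2.ge.trans ((commutator_mono le_rfl g7).trans
        (comm_le_right ((Sg_le M).trans f1))))).trans inf_le_right)))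
    have f3 : Q ≤ M ⊓ AK Q0 Q := le_inf a8.le (le_AK.2 ⟨a8.le.trans d1, d2⟩)
    have f4 := dedekind f3 (nQ DM)
    rw [b3, inf_eq_right.2 f2] at f4
    have f5 := st inf_le_left (comm_AK (inf_le_right.trans inf_le_right : D ⊓ (M ⊓ AK Q0 Q) ≤ _))
    exact (le_inf h1 (le_AK.2 ⟨h1.trans d1, h2⟩)).trans (le_inf (le_F inf_le_left f1 (f4 ▸ nil_sup nil
      (nil_mono b4 inf_le_left) (nn_of_cc (cc_symm f5)) (nn_of_cc f5))) f2)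
  have e2 : Q ⊔ (M ⊓ CC Q) = F M := by
    refine le_antisymm (sup_le (hQ ▸ O_le_F M) ((e1 _ inf_le_left ?_).trans inf_le_left)) (F_le_of (p := r) ?_ ?_)
    · exact (comm_eq_bot'.2 inf_le_right).le.trans bot_le
    · exact hQ ▸ le_sup_left
    · refine le_sup_of_le_right (le_inf ((O_le _ _).trans (F_le M)) (cc_symm ?_))
      rw [hQ, ← O1_F]; exact O_cc_O _ _
  have e3 : F M ≤ Sg M := e2 ▸ sup_le b1 ((e1 _ inf_le_left
    ((comm_eq_bot'.2 inf_le_right).le.trans bot_le)).trans inf_le_right)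
  have e4 : ∀ X ≤ Sg M, ⁅Sg M ⊓ CC K, X⁆ ≤ Q0 → X ≤ F M := fun X h1 h2 => by
    have f3 : Q ≤ Sg M ⊓ AK Q0 (Sg M ⊓ CC K) := le_inf b1 (le_AK.2 ⟨a8.le.trans d1,
      (commutator_mono a6 le_rfl).trans d2⟩)
    have f4 := dedekind f3 (nQ DM)
    rw [b3, inf_eq_right.2 inf_le_left] at f4
    set Y := D ⊓ (Sg M ⊓ AK Q0 (Sg M ⊓ CC K))
    have f5 : D ⊔ K ≤ NN Y := sup_le (nn_of_der_le (le_inf (der_le D) (le_inf ((der_le D).trans hD.le)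
      (le_AK.2 ⟨((der_le D).trans DM).trans d1, (commutator_mono a6 le_rfl).trans c6⟩))) inf_le_left)
      (nn_inf hKD (nn_inf (nn_Sg' hK.le) (nn_AK (hK.le.trans d1) (nn_inf (nn_Sg' hK.le) (nn_cc (le_nn K))))))
    have f6 : Y ≤ NN Q0 := (inf_le_left.trans DM).trans d1
    have f7 := (c3.min (Q ⊓ AK Q0 Y) (nn_inf c3.nU (nn_AK c3.nV f5)) (le_inf inf_le_left
      (le_AK.2 ⟨le_nn _, comm_le_right f6⟩)) inf_le_left).resolve_left fun e => c4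
      (((le_inf a6 (le_AK.2 ⟨a6.trans (a8.le.trans d1), commutator_comm _ Y ▸
        comm_AK (inf_le_right.trans inf_le_right)⟩)).trans e.le).trans inf_le_right)
    exact (le_inf h1 (le_AK.2 ⟨(h1.trans (Sg_le M)).trans d1, h2⟩)).trans (f4.le.trans (sup_le
      (hQ ▸ O_le_F M) ((e1 Y (inf_le_left.trans DM) (commutator_comm Y _ ▸
        comm_AK (f7.ge.trans inf_le_right))).trans inf_le_left)))
  refine ⟨⟨a1, Sg_sup hM a3, a4⟩, ⟨c1, a5, ?_, ?_⟩, a8, ⟨?_, e2, lt_of_le_of_ne e3 fun e => hn (e ▸ F_nil M)⟩,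
    fun D' hD' => ?_⟩
  · exact (pg_dvd a8.pgroup (sigma_syl_ne_bot a9 a8)).trans (card_dvd (syl_le_MF a8 (nQ le_rfl)))
  · by_contra e
    exact c2 (bg5_5a (pg_ne_two a8.pgroup (sigma_syl_ne_bot a9 a8)) a8.pgroup (narrow_of_not_beta hM e a8)
      (nQ le_rfl) (max_sol hM) (odd_sub M) (a4 ▸ hD.le) hD.pi)
  · rw [← a4, ← b3]
    exact (der_sup_le (nQ DM)).trans (sup_le (hQ ▸ O_le_F M)
      ((e1 _ ((der_le D).trans DM) c6).trans inf_le_left))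
  obtain ⟨g, g1, rfl⟩ := hD.conj sS hD'
  have g2 : Q ⊓ CC (cj g D) = Q0 := by
    rw [← cj_nn (d1 (Sg_le M g1)), hQ0, cj_inf, cj_centralizer, cj_nn (nQ (Sg_le M) g1)]
  rw [g2]
  exact ⟨nil_cj b4 g, d1, c3.lt, c5, d2, d5, fun N h1 h2 h3 => (c3.min N ((sup_le DM hK.le).trans h3) h1.le
    h2.le).elim h1.ne' h2.ne, fun X h1 h2 => (e1 X h1 h2).trans inf_le_left, e4⟩
theorem MF_ne_bot (hM : IsCoatom M) : MF M ≠ ⊥ := by
  rcases eq_or_ne (MF M) (Sg M) with h | h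
  · exact h ▸ Sg_ne_bot hM
  obtain ⟨K, hK⟩ := exists_hall (max_sol hM) (kappa M)
  obtain ⟨-, ⟨-, a, b, -⟩, -⟩ := bg15_2 hM hK h rfl rfl
  exact ne_bot_of_dvd a b
theorem bg15_3aux (hM : IsCoatom M) (hH : Hall π H (Sg M)) (h0 : H ≠ ⊥) (hX : X ≤ M)
    (h1 : IsPi (sigma M)ᶜ X) (h2 : X ≤ CC H) : IsCyclic X ∧ IsPi (tau2 M) X := by
  rcases eq_or_ne X ⊥ with rfl | h3
  · exact ⟨cyc_bot, IsPi.bot⟩
  refine (bg15_1c hM hX (fun p hp hd e => e.elim (h1 p hp hd) fun e => ?_) h3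
    fun e => h0 (eq_bot_iff.2 ((le_inf hH.le (cc_symm h2)).trans e.le))).2
  obtain ⟨Y, a1, a2⟩ := exists_card_eq hp hd
  obtain ⟨K, hK, a3⟩ := exists_hall_ge (max_sol hM) (a1.trans hX) (pi_of_card a2 hp e)
  have a4 := prime_ne_bot (a2 ▸ hp)
  have a5 := (le_inf hH.le (cc_symm (a1.trans h2))).trans ((bg14_2a hM hK).cc a3 a4).le
  obtain ⟨r, hr, a6⟩ := exists_prime_dvd h0
  haveI := Fact.mk hr
  obtain ⟨S, hS⟩ := exists_isSyl r H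
  exact (bg14_2e hM hK (ne_bot_of_le_ne_bot a4 a3) (a6.trans (card_dvd a5))
    (hH.syl_trans hS (hH.pi r hr a6))).2 (hS.le.trans (a5.trans inf_le_right))
/-- BG 15.3(a) -/
theorem bg15_3a (hM : IsCoatom M) (hH : Hall π H (Sg M)) (h0 : H ≠ ⊥) :
    ∃ X : Subgroup G, IsCyclic X ∧ IsPi (tau2 M) X ∧ (Sg M ⊓ CC H) ⊔ X = M ⊓ CC H := by
  obtain ⟨X, hX⟩ := exists_hall (sol_of_le hM (inf_le_left : M ⊓ CC H ≤ M)) (sigma M)ᶜ
  obtain ⟨a, b⟩ := bg15_3aux hM hH h0 (hX.le.trans inf_le_left) hX.pi (hX.le.trans inf_le_right)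
  refine ⟨X, a, b, ?_⟩
  have := ((Sg_hall hM).normal_inf (nn_Sg' le_rfl) (inf_le_left : M ⊓ CC H ≤ M)).sup hX
  rwa [← inf_assoc, inf_eq_left.2 (Sg_le M)] at this
/-- BG 15.3(b) -/
theorem bg15_3b (hM : IsCoatom M) (hH : Hall π H (Sg M)) (hx : x ∈ H) (h : g * x * g⁻¹ ∈ H) :
    ∃ n ∈ M ⊓ NN H, n * x * n⁻¹ = g * x * g⁻¹ := by
  rcases eq_or_ne x 1 with rfl | h1
  · exact ⟨1, one_mem _, by simp⟩
  obtain ⟨r, a1, a2⟩ := bg14_4t hM (hH.le hx) h1 (max_cj hM g⁻¹)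
    (by rw [← cj_Sg, mem_cj, inv_inv]; exact hH.le h)
  have a3 : g * r ∈ M := (cj_max_iff hM).1 (by rw [← cj_cj, a2, cj_cj_inv])
  have a4 : g * r * x * (g * r)⁻¹ = g * x * g⁻¹ := by
    conv_rhs => rw [← conj_eq_of_C1 (RR_le x a1)]
    group
  rw [← a4] at h ⊢
  generalize g * r = m at a3 h
  by_cases hn : M ≤ NN H
  · exact ⟨m, ⟨a3, hn a3⟩, rfl⟩
  have b1 : ¬ Group.IsNilpotent (Sg M) := fun e => hn (hH.nn (nil_hall_nn e hH) (nn_Sg' le_rfl))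
  obtain ⟨K, hK⟩ := exists_hall (max_sol hM) (kappa M)
  obtain ⟨b2, -, b3, b4, b5⟩ := bg15_2a hM hK b1 rfl
  generalize #(Sg M ⊓ CC K : Subgroup G) = q at *
  haveI := Fact.mk b2
  have nQ : M ≤ NN (O {q} M) := nn_O (le_nn M)
  have b6 := b3.nn_hall ((Sg_le M).trans nQ) hH nQ (nn_Sg' le_rfl)
  have b7 := pg_le_Sg hM b5 b4.le b4.pgroup
  have b8 : q ∉ π := fun e => hn (by
    rwa [sup_eq_right.2 (hH.le_of_nn' b7 (pi_of_pg b4.pgroup e) (hH.le.trans ((Sg_le M).trans nQ)))] at b6)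
  have b9 : O {q} M ⊔ H ≤ Sg M := sup_le b7 hH.le
  have c1 := (hH.mono le_sup_right b9).frattini (sol_of_le hM (b9.trans (Sg_le M))) (b9.trans (Sg_le M)) b6
  have c2 : H ≤ M ⊓ NN H := le_inf (hH.le.trans (Sg_le M)) (le_nn H)
  rw [sup_assoc, sup_eq_right.2 c2] at c1
  obtain ⟨u, c3, c, c4, rfl⟩ := bg6_5c (sol_of_pg b4.pgroup) (inf_le_left.trans nQ)
    ((zpowers_le.2 hx).trans c2) (pg_coprime b4.pgroup (hH.pi.zpow hx) b8).symm (c1.ge a3)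
    (by rw [cj_zpowers]; exact (zpowers_le.2 h).trans c2)
  refine ⟨u, c3, ?_⟩
  conv_lhs => rw [← conj_eq_of_cc c4.2 (mem_zpowers x)]
  group
/-- BG 15.4 -/
theorem bg15_4 (hH : Hall π H ⊤) (hn : Group.IsNilpotent H) :
    ∃ M : Subgroup G, IsCoatom M ∧ H ≤ Sg M := by
  rcases eq_or_ne H ⊥ with rfl | h0
  · obtain ⟨M, hM, -⟩ := exists_max (ne_top_of_nil hn)
    exact ⟨M, hM, bot_le⟩
  have syl : ∀ p : ℕ, p.Prime → p ∣ #H → IsSyl p (O {p} H) ⊤ ∧ O {p} H ≠ ⊥ := fun p hp hd => by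
    haveI := Fact.mk hp
    exact ⟨hH.syl_trans (nil_syl hn) (hH.pi p hp hd), syl_ne_bot (nil_syl hn) hd⟩
  obtain ⟨p, hp, hd⟩ := exists_prime_dvd h0
  haveI := Fact.mk hp
  obtain ⟨a1, a2⟩ := syl p hp hd
  obtain ⟨M, hM, a3, a4, a5⟩ := exists_max_nn_syl a1 a2
  have a6 : H ≤ M := (nn_O (le_nn H)).trans a3
  refine ⟨M, hM, le_Sg hM a6 fun q hq hd' => by_contra fun e => ?_⟩
  haveI := Fact.mk hq
  obtain ⟨b1, b2⟩ := syl q hq hd'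
  obtain ⟨b3, b4⟩ := bg15_3aux hM (hall_of_syl (syl_Sg hM a5 a4)) a2 ((O_le _ _).trans a6)
    (pi_of_pg b1.pgroup e) (nil_cc hn (O_le _ _) (O_le _ _) (pg_coprime_pg b1.pgroup a1.pgroup
      fun e' => e (e' ▸ a5)))
  exact not_rk2_of_cyc b3 ((tau2_rk (pg_mem_pi b1.pgroup b2 b4)).syl (b1.mono ((O_le _ _).trans a6) le_top))
theorem cc_Sg_ab (hM : IsCoatom M) : IsMulCommutative (M ⊓ CC (Sg M) : Subgroup G) := by
  obtain ⟨X, a, -, b⟩ := bg15_3a hM (Hall.self (Sg_pi M)) (Sg_ne_bot hM)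
  exact b ▸ ab_sup (ab_center _) (ab_of_cyc a)
    (inf_le_left.trans (cc_symm ((le_sup_right.trans b.le).trans inf_le_right)))
/-- BG 15.5 -/
theorem bg15_5 (hM : IsCoatom M) :
    (IsCyclic (O (sigma M)ᶜ (F M)) ∧ IsPi (tau2 M) (O (sigma M)ᶜ (F M))) ∧
      (⁅⁅M, M⁆, ⁅M, M⁆⁆ ≤ F M ∧ MF M ⊔ (M ⊓ CC (MF M)) = F M ∧
        F (Sg M) ⊔ O (sigma M)ᶜ (F M) = F M) ∧
      NilMod (MF M) ⁅M, M⁆ ∧ ((kappa M).Nonempty → F M ≤ ⁅M, M⁆) := by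
  obtain ⟨K, hK⟩ := exists_hall (max_sol hM) (kappa M)
  have a1 := MF_le_F M
  have a2 := MF_le_Sg hM
  have a3 : IsPi (tau2 M) (O (sigma M)ᶜ (F M)) := (bg15_3aux hM ((MF_hall M).mono a2 (Sg_le M)) (MF_ne_bot hM)
    ((O_le _ _).trans (F_le M)) (O_pi _ _) (nil_cc (F_nil M) (O_le _ _) a1
      (coprime_mono (Sg_coprime (O_pi _ _)) le_rfl a2))).2
  have a4 : F (Sg M) ⊔ O (sigma M)ᶜ (F M) = F M := by rw [Sg_eq, ← O_F, nil_O_sup (F_nil M)]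
  have a5 : ⁅⁅M, M⁆, ⁅M, M⁆⁆ ≤ F M ∧ M ⊓ CC (MF M) ≤ F M ∧ NilMod (MF M) ⁅M, M⁆ := by
    rcases eq_or_ne (MF M) (Sg M) with h | h
    · obtain ⟨U, hU⟩ := exists_KC hM hK
      rw [h] at a1 ⊢
      exact ⟨(bg15_1a hM hU).2.2.trans a1, le_F inf_le_left (by nrm) (nil_of_ab (cc_Sg_ab hM)),
        der_nilMod_Sg hM⟩
    obtain ⟨⟨-, -, b1⟩, -, b2, ⟨b3, b4, -⟩, -⟩ := bg15_2 hM hK h rfl rfl
    obtain ⟨b5, -, b6, -⟩ := bg15_2a hM hK (mt (MF_eq_Sg_iff hM).2 h) rfl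
    haveI := Fact.mk b5
    have b7 := syl_le_MF b2 (nn_O (le_nn M))
    exact ⟨b3, (inf_le_inf_left _ (cc_anti b7)).trans (le_sup_right.trans b4.le),
      b1 ▸ b6.sub (nn_MF' (Sg_le M)) b7⟩
  refine ⟨⟨O_ns_F_cyc hM, a3⟩, ⟨a5.1, le_antisymm (sup_le a1 a5.2.1) ?_, a4⟩, a5.2.2, fun h => ?_⟩
  · rw [← nil_O_sup (F_nil M) {p | p ∣ #(MF M)}]
    exact sup_le_sup ((MF_hall M).le_of_normal (nn_MF' le_rfl) ((O_le _ _).trans (F_le M)) (O_pi _ _))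
      (le_inf ((O_le _ _).trans (F_le M)) (nil_cc (F_nil M) (O_le _ _) a1
        ((MF_hall M).pi.coprime (O_pi _ _)).symm))
  · obtain ⟨U, hU⟩ := exists_KC hM hK
    rw [← a4, ← bg15_1b hM hU ((kappa_nonempty_iff hK).1 h)]
    exact sup_le_sup (F_le _) (hU.hU.le_of_nn' ((O_le _ _).trans (F_le M))
      (a3.sub fun p a b => b.elim (tau2_ns a) fun b => kappa_not2 b a) (nn_O (nn_F (nn_of_le hU.hU.le))))
/-- BG 15.6 -/
theorem bg15_6 (hM : IsCoatom M) (hK : Hall (kappa M) K M) (h0 : K ≠ ⊥) :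
    Sg M ⊓ CC K ≤ ⁅⁅M, M⁆, ⁅M, M⁆⁆ ∧ Sg M ⊓ CC K ≤ MF M ∧ ¬ IsCyclic (MF M) := by
  obtain ⟨U, hU⟩ := exists_KC hM hK
  obtain ⟨H, hp⟩ := bg14_7 hM hK h0
  have a1 : IsPi (kappa M)ᶜ ⁅M, M⁆ := bg15_1b hM hU h0 ▸ ((Sg_pi M).sub fun p a b => kappa_ns b a).sup_l
    (hU.hU.pi.sub fun p a b => a (Or.inr b)) (nn_Sg' hU.hU.le)
  have a2 : K ≤ NN ⁅M, M⁆ := nn_comm (nn_of_le hK.le) (nn_of_le hK.le)
  have a3 := (inf_le_inf_right _ (Sg_le_der hM)).trans (cop_cc_le_der a2 (hK.pi.coprime a1)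
    (bg6_3a (sol_of_le hM (der_le M)) a2 (hK.pi.coprime a1).symm (by rw [hp.der.1])))
  refine ⟨a3, ?_⟩
  rcases eq_or_ne (MF M) (Sg M) with h | h
  · rw [h]
    exact ⟨inf_le_left, fun e => bg14_2c hM hK (eq_bot_iff.2 (a3.trans (ab_iff_der.1 (ab_mono (cc_Sg_ab hM)
      (le_inf (der_le M) (der_cc_of_cyc e (nn_Sg' le_rfl))))).le))⟩
  obtain ⟨-, ⟨-, -, -, b1⟩, b2, -⟩ := bg15_2 hM hK h rfl rfl
  obtain ⟨b5, b6, -⟩ := bg15_2a hM hK (mt (MF_eq_Sg_iff hM).2 h) rfl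
  haveI := Fact.mk b5
  have b7 := syl_le_MF b2 (nn_O (le_nn M))
  exact ⟨b6.trans b7, fun e => not_rk2_of_cyc (cyc_mono e b7)
    (((alpha_iff.1 (beta_sub_alpha M b1)).syl b2).anti (by norm_num))⟩
theorem bg15_7a (hM : IsCoatom M) (hg : g ∉ M) (hX : X = F M ⊓ cj g (F M)) :
    X ≤ Sg M ⊓ cj g (Sg M) ∧ ∀ Y ≤ X, (#Y).Prime → ¬ CC Y ≤ M := by
  have a1 : X ≤ F M := hX ▸ inf_le_left
  have a2 : cj g⁻¹ X ≤ F M := le_cj_iff_cj_inv_le.1 (hX ▸ inf_le_right)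
  have a3 : IsPi (sigma M) X := fun p hp hd => by_contra fun e => by
    obtain ⟨Y, b1, b2⟩ := exists_card_eq hp hd
    have b3 := nil_le_O (F_nil M) (b1.trans a1) (pi_of_card (π := (sigma M)ᶜ) b2 hp e)
    have b4 := nil_le_O (F_nil M) ((cj_mono _ b1).trans a2) ((pi_of_card (π := (sigma M)ᶜ) b2 hp e).cj _)
    refine hg (inv_mem_iff.1 ((max_nn' hM (prime_ne_bot (b2 ▸ hp)) (b1.trans (a1.trans (F_le M)))
      (cyc_nn (O_ns_F_cyc hM) b3 (by nrm))).le (mem_normalizer_iff_cj.2 ?_)))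
    exact cyc_eq (O_ns_F_cyc hM) b4 b3 (card_cj _ _)
  refine ⟨le_inf (le_Sg hM (a1.trans (F_le M)) a3) (le_cj_iff_cj_inv_le.2
    (le_Sg hM (a2.trans (F_le M)) (a3.cj _))), fun Y h1 h2 h3 => ?_⟩
  haveI := Fact.mk h2
  exact hg (inv_mem_iff.1 (bg10_1e hM (a3 _ h2 (card_dvd h1)) (pg_of_card rfl) (h1.trans (a1.trans (F_le M))) h3
    ((cj_mono _ h1).trans (a2.trans (F_le M)))))
theorem bg15_7b [hp : Fact p.Prime] (hM : IsCoatom M) (hn : Group.IsNilpotent (Sg M)) (h2 : ¬ TP2 M)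
    (hb : p ∉ beta M) (hP : P = O {p} (Sg M)) (ha : ¬ IsMulCommutative P) (hc : IsCyclic (O {p}ᶜ (Sg M)))
    (hz : #(omegaOne p (P ⊓ CC P)) = p) :
    (∀ q : ℕ, q.Prime → q ∣ #(Sg M) → ∀ m ∈ M, m ^ (q - 1) ∈ Sg M) ∨
      (#P = p ^ 3 ∧ TP1 M ∧ (Sg M).relIndex M ∣ p + 1) := by
  have nP : M ≤ NN P := hP ▸ by nrm
  have sP : IsSyl p P (Sg M) := hP ▸ nil_syl hn
  have a1 : ∀ q : ℕ, q.Prime → q ∣ #(Sg M) → q ≠ p → ∃ Z ≤ O {p}ᶜ (Sg M), #Z = q ∧ M ≤ NN Z :=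
    fun q hq hd hne => by
    haveI := Fact.mk hq
    exact ⟨_, omega_le q _, omega_cyc hc ((nil_hall hn _).dvd hq hne hd), by nrm⟩
  have a2 : omegaOne p (P ⊓ CC P) ≤ P ⊓ CC P := omega_le _ _
  have a3 : M ≤ NN (omegaOne p (P ⊓ CC P)) := by nrm
  set Z := omegaOne p (P ⊓ CC P) with hZ
  have a4 := a2.trans (inf_le_left.trans sP.le)
  obtain ⟨K, hK⟩ := exists_hall (max_sol hM) (kappa M)
  obtain ⟨U, hU⟩ := exists_KC hM hK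
  have a5 := (bg15_1a hM hU).2.1
  rcases eq_or_ne K ⊥ with rfl | h0
  · obtain ⟨-, U0, b1, b2, b3⟩ := bg15_1de hM hU.hU
    rw [sup_bot_eq] at a5
    refine Or.inl fun q hq hd m hm => pow_mem_of_sup (nn_Sg' hU.hU.le) (fun u hu => ?_) (a5.ge hm)
    obtain ⟨Y, c1, c2, c3⟩ : ∃ Y ≤ Sg M, #Y = q ∧ M ≤ NN Y := by
      rcases eq_or_ne q p with rfl | e
      · exact ⟨Z, a4, hz, a3⟩
      obtain ⟨Y, c1, c2⟩ := a1 q hq hd e
      exact ⟨Y, c1.trans (O_le _ _), c2⟩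
    rw [exp_dvd_iff.1 (b2 ▸ Group.exponent_dvd_nat_card.trans
      (c2 ▸ (b3.mono c1 le_rfl).dvd (b1.trans (hU.hU.le.trans c3)))) u hu]
    exact one_mem _
  have b1 : TP1 M := by_contra fun e => h2 ⟨(kappa_nonempty_iff hK).2 h0, e⟩
  obtain ⟨-, b2, -⟩ := tp1_compl hM hK b1
  have b3 := bg14_2a hM hK
  have b4 := (bg12_17a hM b2).1
  have b5 : P ⊔ O {p}ᶜ (Sg M) = Sg M := hP ▸ nil_O_sup hn _
  have b6 : O {p}ᶜ (Sg M) ≤ CC P := hP ▸ cc_symm (O_cc_O _ _)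
  have b7 := der_sup_center (le_cc_sup b6 (ab_cc (ab_of_cyc hc)))
  rw [b5] at b7
  replace b4 := b4.trans b7
  by_cases h1 : #K ∣ p - 1
  · refine Or.inl fun q hq hd m hm => pow_mem_of_sup (nn_Sg' hK.le) (fun u hu => ?_) ((Sg_sup hM b2).ge hm)
    rw [orderOf_dvd_iff_pow_eq_one.1 ((orderOf_dvd hu).trans ?_)]
    · exact one_mem _
    rcases eq_or_ne q p with rfl | e
    · exact h1
    obtain ⟨Y, c1, c2, c3⟩ := a1 q hq hd e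
    exact c2 ▸ ((b3.mono_l (c1.trans (O_le _ _))).reg (eq_bot_of_le (pg_inf sP.pgroup (O_pi _ _) (by simp))
      ((inf_le_inf_right _ (c1.trans (O_le _ _))).trans (b4.trans (der_le P)))
      (inf_le_left.trans c1))).dvd (hK.le.trans c3)
  have c1 : Z ≤ CC K := prime_le (hz ▸ hp.out) fun e => h1 (hz ▸ ((b3.mono_l a4).reg e).dvd (hK.le.trans a3))
  have c2 : p ∈ sigma M := Sg_pi M p hp.out (hz ▸ card_dvd a4)
  have c3 := Sg_syl hM c2 sP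
  have p2 := ne_two_of_dvd (sigma_dvd c2)
  have c4 : ¬ Rk p 3 P := fun e => by
    obtain ⟨a, ha, rfl⟩ := exists_zpowers (kappa_cyc hM hK)
    have d1 := bg5_5b p2 sP.pgroup (narrow_of_not_beta hM hb c3) e (nP (hK.le ha))
      (Nat.card_zpowers a ▸ odd_sub _) (b2.pi.ne (not_not.2 c2))
    refine (bg14_2e hM hK h0 (hz ▸ card_dvd (le_inf a4 c1)) sP).2 (((le_inf sP.le (le_C1_iff.2 d1)).trans
      (b3 _ (pow_mem ha _) fun e => h1 ?_).le).trans inf_le_right)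
    rw [Nat.card_zpowers]; exact orderOf_dvd_of_pow_eq_one e
  obtain ⟨S, C, d1, d2, d3, d4, -, d5, d6⟩ := bg10_7b (sigma_syl c2 c3) c4 ha
  have d7 : C ≤ CC (S ⊔ C) := le_cc_sup (cc_symm d2) (ab_cc (ab_of_cyc d5))
  have d8 := der_sup_center d7
  rw [d1] at d7 d8
  have pZ := sP.pgroup.to_le (inf_le_left : P ⊓ CC P ≤ P)
  have d9 : K ≤ CC (P ⊓ CC P) := cop_cyc pZ (pg_cyc pZ fun ⟨A, hA⟩ => hA.not_cyc (cyc_mono
    (prime_cyc (hz.symm ▸ hp.out : (#Z).Prime)) (le_omega hA.le hA.elem))) (hK.le.trans (by nrm)) (b2.pi.ne (not_not.2 c2))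
    fun e => prime_ne_bot (hz ▸ hp.out) (eq_bot_iff.2 ((le_inf a2 c1).trans e.le))
  have e1 : C ≤ P ⊓ CC P := le_inf (d1 ▸ le_sup_right) d7
  obtain rfl : S = P := by
    rw [← d1, eq_comm, sup_eq_left]
    exact (le_inf (e1.trans (inf_le_left.trans sP.le)) (e1.trans (cc_symm d9))).trans
      (b4.trans (d8.trans (der_le S)))
  refine Or.inr ⟨d4, b1, ?_⟩
  rw [(Sg_hall hM).relIndex_eq b2]
  refine (bg2_5 d4 d3 ?_ (kappa_cyc hM hK) (hK.le.trans nP) (b2.pi.not_dvd hp.out (not_not.2 c2)) d9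
    fun a e2 e3 => ((inf_le_inf_right _ sP.le).trans (b3 a e2 e3).le).trans
      (b4.trans (p3_der_le d4))).resolve_left h1
  rw [← hz, le_antisymm a2 (d6 ▸ omega_mono e1)]
/-- BG 15.7 -/
theorem bg15_7 (hM : IsCoatom M) (hg : g ∉ M) (hX : X = F M ⊓ cj g (F M)) (h0 : X ≠ ⊥) :
    ¬ TP2 M ∧ MF M = Sg M ∧ X ≤ MF M ∧ IsCyclic X ∧ ⁅M, M⁆ ≤ F M ∧
      (∀ E E1 E2 E3, SC M E E1 E2 E3 → E3 = ⊥ ∧ E ≤ NN E2) ∧
      ((kappa M = ∅ ∧ IsMulCommutative (MF M) ∧ RkA 2 (MF M) ∧ ¬ RkA 3 (MF M)) ∨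
        ((#X).Prime ∧ #X ∉ beta M ∧ ¬ IsMulCommutative (O {#X} (MF M)) ∧ IsCyclic (O {#X}ᶜ (MF M)) ∧
          ((∀ q : ℕ, q.Prime → q ∣ #(MF M) → ∀ m ∈ M, m ^ (q - 1) ∈ MF M) ∨
            (#(O {#X} (MF M)) = #X ^ 3 ∧ TP1 M ∧ (MF M).relIndex M ∣ #X + 1)))) := by
  obtain ⟨a1, a2⟩ := bg15_7a hM hg hX
  have XS := a1.trans inf_le_left
  have XM := XS.trans (Sg_le M)
  have a3 : X ≤ Sg M ⊓ cj g M := a1.trans (inf_le_inf_left _ (cj_mono g (Sg_le M)))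
  obtain ⟨a4, a5, -⟩ := bg12_17b hM hg
  replace a4 := cyc_mono a4 a3
  replace a5 := a5.mono a3
  have nu : ∀ Y ≤ X, (#Y).Prime → ∀ L ≤ M, L ≤ CC Y → ¬ UU L := fun Y h1 h2 L h3 h4 h5 =>
    a2 Y h1 h2 (h5.le_of hM h3 h4 (cc_ne_top (prime_ne_bot h2)))
  obtain ⟨Y, b1, b2⟩ := exists_prime_sub h0
  haveI := Fact.mk b2
  have b3 : ¬ RkA 3 (F M ⊓ CC Y) := fun e => nu Y b1 b2 _ (inf_le_left.trans (F_le M)) inf_le_right
    (um_of_rk3 hM (inf_le_left.trans (F_le M)) e).uu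
  have b4 := bg5_7 (max_sol hM) (odd_sub M) (b1.trans (hX ▸ inf_le_left)) (el_one le_rfl rfl).elem b3
  have b5 := (Sg_le_der hM).trans b4
  have hn := nil_mono (F_nil M) b5
  obtain ⟨K, hK⟩ := exists_hall (max_sol hM) (kappa M)
  have b6 : ¬ TP2 M := fun e => h0 (eq_bot_iff.2 (a1.trans ((bg14_2g hM hK e).2.2 g hg).le))
  rw [(MF_eq_Sg_iff hM).2 hn]
  refine ⟨b6, rfl, XS, a4, b4, fun E E1 E2 E3 h => ?_, ?_⟩
  · obtain rfl : E3 = ⊥ := eq_bot_of_le (inf_of_coprime (h.h3.pi.coprime' (bg15_5 hM).1.2 fun _ => tau3_not2))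
      le_rfl (nil_le_O (F_nil M) ((bg12_1_tau3 hM h.hE h.h3).1.trans ((der_mono h.hE.le).trans b4))
        (h.hE.pi.mono h.h3.le))
    exact ⟨rfl, bot_sup_eq E2 ▸ (h.sup hM).2⟩
  by_cases ha : IsMulCommutative (Sg M)
  · refine Or.inl ⟨(kappa_eq_empty_iff hK).2 (by_contra fun e => ?_), ha, by_contra fun e => ?_,
      fun e => b3 (e.mono (le_inf b5 (ab_le_cc ha le_rfl (b1.trans XS))))⟩
    · exact bg14_2c hM hK (eq_bot_iff.2 ((bg12_17a hM (tp1_compl hM hK (by_contra fun e' =>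
        b6 ⟨(kappa_nonempty_iff hK).2 e, e'⟩)).2.1).1.trans (ab_iff_der.1 ha).le))
    · exact a2 Y b1 b2 ((cc_le_nn Y).trans (max_nn' hM (prime_ne_bot b2) (b1.trans XM)
        (cyc_nn (ab_cyc ha e) (b1.trans XS) (nn_Sg' le_rfl))).le)
  obtain ⟨p, hp, -, c1⟩ : ∃ p : ℕ, p.Prime ∧ p ∣ #(Sg M) ∧ ¬ IsMulCommutative (O {p} (Sg M)) := by
    by_contra! e; exact ha (nil_ab hn e)
  haveI := Fact.mk hp
  have pP := O_pg (p := p) (Sg M)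
  have c2 := bg12_13 pP c1
  set P := O {p} (Sg M) with hP
  have PM : P ≤ M := (O_le _ _).trans (Sg_le M)
  have c3 : IsPi {p} X := fun q hq hd => by_contra fun e => by
    obtain ⟨Y', d1, d2⟩ := exists_card_eq hq hd
    exact nu Y' d1 (d2 ▸ hq) P PM (nil_cc hn (O_le _ _) (d1.trans XS)
      (pg_coprime pP (pi_of_card (π := {q}) d2 hq rfl) fun e' => e e'.symm)) c2
  have c4 : #Y = p := c3 _ b2 (card_dvd b1)
  have c5 : X ≤ P := nil_le_O hn XS c3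
  have c6 : IsCyclic (O {p}ᶜ (Sg M)) := nil_cyc (nil_mono hn (O_le _ _)) (odd_sub _) fun e =>
    nu Y b1 b2 _ ((O_le _ _).trans (Sg_le M)) ((cc_symm (O_cc_O _ _)).trans (cc_anti (b1.trans c5)))
      (bg9_2 c2 (cc_symm (O_cc_O _ _)) e)
  have c7 : ¬ Y ≤ CC P := fun e => nu Y b1 b2 P PM (cc_symm e) c2
  obtain ⟨Z1, d1, d2⟩ := pg_exists_card (pP.to_le inf_le_left) (nil_meet (nil_of_pg pP) le_rfl (le_nn P)
    (ne_bot_of_le_ne_bot h0 c5))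
  have d3 : X ≤ CC Z1 := c5.trans (cc_symm (d1.trans inf_le_right))
  have d4 : El p 2 (Y ⊔ Z1) P := (el_one (b1.trans c5) c4).sup (el_one (d1.trans inf_le_left) d2)
    (b1.trans d3) (prime_inf b2 fun e => c7 (e.trans (d1.trans inf_le_right)))
  obtain ⟨-, d5, ⟨Z, -, -, d6⟩, -⟩ := bg10_13 d4 (by_contra fun e => nu Y b1 b2 _ (d4.le.trans PM)
    (d4.cc.trans (cc_anti le_sup_left)) (uu_of_not_maxEl d4 e)) pP c1
  obtain ⟨d7, d8⟩ := d6 Y le_sup_left c4 fun e => c7 (e.le.trans ((omega_le _ _).trans inf_le_right))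
  have d9 : Z ≤ CC Y := (le_sup_right.trans d8.le).trans (inf_le_right.trans (cc_anti le_sup_left))
  have e1 : X ⊓ Z = ⊥ := by_contra fun e => prime_ne_bot b2 (eq_bot_of_le d7 le_rfl
    ((cyc_line_le a4 b1 c4 inf_le_left ((pg_of_pi c3).to_le inf_le_left) e).trans inf_le_right))
  obtain rfl : X = Y := le_antisymm (fun x hx => by
    rcases eq_or_ne x 1 with rfl | e2
    · exact one_mem _
    obtain ⟨a, e3, z, e4, rfl⟩ := (mem_sup_l (nn_of_cc d9)).1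
      (d8.ge (le_inf c5 (le_cc_sup (ab_le_cc (ab_of_cyc a4) le_rfl b1) d3) hx))
    have e5 : (a * z) ^ p = z ^ p := by
      rw [Commute.mul_pow (mem_CC.1 (d9 e4) a e3), (el_one le_rfl c4).elem.2 a e3, one_mul]
    have e6 := eq_one_of_inf e1 (pow_mem hx p) (e5 ▸ pow_mem e4 p)
    exact (cyc_eq a4 (zpowers_le.2 hx) b1 (by rw [Nat.card_zpowers, orderOf_eq_prime e6 e2, c4])).le
      (mem_zpowers _)) b1
  subst c4
  exact Or.inr ⟨b2, a5 _ b2 dvd_rfl, c1, c6, bg15_7b hM hn b6 (a5 _ b2 dvd_rfl) rfl c1 c6 d5⟩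
/-- BG 15.8 -/
theorem bg15_8 [Fact r.Prime] (hM : IsCoatom M) (h : KC M U K) (h0 : K ≠ ⊥) (hR : IsSyl r R U)
    (hH : IsCoatom H) (h1 : NN R ≤ H) (hq : q ∈ tau2 H) :
    (#K).Prime ∧ tau2 H = {#K} ∧ tau2 M = ∅ := by
  have U0 : U ≠ ⊥ := by
    rintro rfl
    obtain rfl := le_bot_iff.1 hR.le
    exact hH.1 (top_le_iff.1 (nn_bot.trans h1))
  have p2 : TP2 M := ⟨(kappa_nonempty_iff h.hK).2 h0, fun e => U0 (h.tp1_iff.1 e)⟩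
  have pK := (bg14_2g hM h.hK p2).2.1
  obtain ⟨L, hp⟩ := bg14_7 hM h.hK h0
  obtain ⟨a1, a2, a3, -, a4, hD⟩ := bg14_12 hM h h0 hp hR hH h1
  have s0 := bg14_2c hM h.hK
  have ne : H ≠ L := fun e => s0 ((kappa_eq_empty_iff hp.hk).1 (e ▸ a1))
  have KD := a4.trans (F_le _)
  have KL : K ≤ Sg L := hp.cc ▸ inf_le_left
  haveI := Fact.mk pK
  have sK : #K ∈ sigma L := Sg_pi L _ pK (card_dvd KL)
  obtain ⟨Q, hQ⟩ := exists_isSyl (#K) (Sg L)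
  have uQ := (bg14_2e hp.max hp.hk s0 (by rw [hp.cc]) hQ).1
  have b1 : ∀ t ∈ tau2 H, t = #K := fun t ht => by_contra fun e => by
    haveI := Fact.mk (tau2_prime ht)
    obtain ⟨A, hA⟩ := (tau2_rk ht).hall hD (tau2_ns ht)
    have c1 : A ≤ CC K := nil_cc (F_nil _) (le_F hA.le (bg12_6ab hH hD ht hA).1 (nil_of_pg hA.pg)) a4
      (pg_coprime_pg hA.pg (pg_of_card rfl) e)
    have AL := hA.mono (inf_le_right : H ⊓ L ≤ L)
    have c2 : A ≤ Sg L := pg_le_Sg hp.max (by_contra fun e => h0 (eq_bot_iff.2 ((le_inf KL (cc_symm c1)).trans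
      (bg12_5 hp.max (mem_tau2_of hp.max e AL.rk) AL).2.1.le))) AL.le hA.pg
    have c3 : A ≤ F L ∧ Q ≤ F L := by
      rcases eq_or_ne (MF L) (Sg L) with e | e
      · exact ⟨c2.trans (e ▸ MF_le_F L), hQ.le.trans (e ▸ MF_le_F L)⟩
      obtain ⟨-, -, d1, -, d2⟩ := bg15_2 (q := #K) hp.max hp.hk e (by rw [hp.cc]) rfl
      obtain ⟨D, hD⟩ := exists_hall (sol_of_le hp.max (Sg_le L)) {#K}ᶜ
      exact ⟨(d2 D hD).2.2.2.2.2.2.2.2 A c2 (by rw [hp.cc, comm_eq_bot'.2 c1]; exact bot_le),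
        (d1.le_of_normal' (by nrm) hQ.pgroup (hQ.le.trans (Sg_le L))).trans (O_le_F L)⟩
    exact not_uu_of hp.max hH AL.le (hA.le.trans inf_le_left) ne (bg9_2 uQ.uu (nil_cc (F_nil L) c3.1 c3.2
      (pg_coprime_pg hA.pg hQ.pgroup e)) hA.self.rk.rkA)
  obtain rfl := b1 q hq
  refine ⟨pK, Set.eq_singleton_iff_unique_mem.2 ⟨hq, b1⟩, Set.eq_empty_of_forall_notMem fun p hp2 => ?_⟩
  have b2 : #K ∉ beta L := fun e => tau2_not_ideal hH hq (mem_beta.1 e).2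
  have b3 : MF L = Sg L := by_contra fun e =>
    b2 (bg15_2 (q := #K) hp.max hp.hk e (by rw [hp.cc]) rfl).2.1.2.2.2
  have hn := (MF_eq_Sg_iff hp.max).1 b3
  have b4 : TP1 L := by_contra fun e =>
    b2 ((bg14_2g hp.max hp.hk ⟨(kappa_nonempty_iff hp.hk).2 s0, e⟩).1 ▸ sK)
  have b5 := (bg12_17a hp.max (tp1_compl hp.max hp.hk b4).2.1).1
  have b6 : ¬ IsMulCommutative (O {#K} (Sg L)) := fun e => by
    rw [hp.cc, ← nil_O_sup hn {#K}, sup_comm] at b5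
    replace b5 := b5.trans (der_sup_le (nn_O (nn_of_le (O_le _ _))))
    rw [ab_iff_der.1 e, sup_bot_eq] at b5
    exact O_pi _ _ _ pK (card_dvd b5) rfl
  obtain ⟨A, hA⟩ := (tau2_rk hq).hall hD (tau2_ns hq)
  obtain ⟨-, b7, -⟩ := bg12_7 hH hD hq hA (O_pg _) b6
  have b8 := (bg12_6ab hH hD hq hA).2.1 K KD rfl
  haveI := Fact.mk (tau2_prime hp2)
  obtain ⟨B, hB⟩ := (tau2_rk hp2).hall h.hU fun b => b.elim (tau2_ns hp2) fun b => kappa_not2 b hp2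
  have b9 : A ⊓ CC (Sg H) ≤ CC U := inf_le_right.trans (cc_anti a2)
  refine kappa_rk (h.hK.pi _ pK dvd_rfl) ⟨A, hA.of_le ?_⟩
  rw [← hA.sup_lines b8 inf_le_left rfl b7 fun e => U0 (eq_bot_iff.2 ((le_inf le_rfl
    (cc_symm (e.le.trans b9))).trans ((h.reg hM).cc le_rfl h0).le))]
  exact sup_le h.hK.le (b9.trans ((cc_anti hB.le).trans (bg12_4a hM (hB.mono h.hU.le))))
/-- BG 15.9 -/
theorem bg15_9 (hM : IsCoatom M) (hx : x ∈ Sg M) (h1 : x ≠ 1) (h : ¬ C1 x ≤ M) (hN : IsCoatom N)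
    (h2 : C1 x ≤ N) (hk : (kappa N).Nonempty) :
    kappa M = ∅ ∧ TP2 N ∧ ¬ TI (MF M) M ∧ ∀ E, Hall (sigma M)ᶜ E M → IsCyclic E ∧ Reg (Sg M) E := by
  obtain ⟨N', a1, a2, -, -, a3, -, a4, -, a5, -⟩ := bg14_4 hM hx h1 h
  obtain rfl := a1.uniq N hN h2
  obtain ⟨r, hr, hd⟩ := exists_prime_dvd (zpowers_ne_bot.2 h1)
  haveI := Fact.mk hr
  have b1 := a2 r hr hd
  obtain ⟨K0, hK0⟩ := exists_hall (max_sol hN) (kappa N)
  obtain ⟨U0, hU0⟩ := exists_KC hN hK0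
  obtain ⟨n, b2, b3⟩ := (hU0.compl hN).conj (max_sol hN) a5
  have hU : KC N (cj n U0) (cj n K0) := ⟨hK0.cj_nn (le_nn N b2), hU0.hU.cj_nn (le_nn N b2), nn_cj hU0.nn n⟩
  rw [cj_sup] at b3
  have b4 := (kappa_nonempty_iff hU.hK).1 hk
  obtain ⟨R, hR⟩ := exists_isSyl r (cj n U0)
  have b5 : NN R ≤ M := bg12_10d hM (a4 b1) hR.pgroup (hR.le.trans ((le_sup_left.trans b3.le).trans inf_le_left))
    fun e => not_rk2_of_cyc e (((tau2_rk b1).hall hU.hU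
      fun b => b.elim (tau2_ns b1) fun b => kappa_not2 b b1).syl hR)
  obtain ⟨L, hp⟩ := bg14_7 hN hU.hK b4
  have b6 := (bg14_12 hN hU b4 hp hR hM b5).1
  have b7 : ∀ q, q ∉ tau2 M := fun q hq => ((bg15_8 hN hU b4 hR hM b5 hq).2.2 ▸ b1 : r ∈ (∅ : Set ℕ))
  have hn := Sg_nil_of_not_tp1 hM fun e => (e.nonempty hM).ne_empty b6
  have b8 := (MF_eq_Sg_iff hM).2 hn
  obtain ⟨g, c1, c2⟩ := SetLike.not_le_iff_exists.1 h
  have c3 : x ∈ MF M ⊓ cj g (MF M) := ⟨b8 ▸ hx, conj_eq_of_C1 c1 ▸ conj_mem_cj_iff.2 (b8 ▸ hx)⟩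
  refine ⟨b6, ⟨hk, a3⟩, fun e => h1 (mem_bot.1 (e g c2 ▸ c3)), fun E hE => ⟨?_,
    reg_of_prime fun X d1 d2 => by_contra fun e => ?_⟩⟩
  · obtain ⟨E1, d1⟩ := exists_hall (sol_of_le hM hE.le) (tau1 M)
    obtain ⟨E2, E3, d2⟩ := exists_SC1 hM hE d1
    obtain rfl := ((bg15_7 hM c2 rfl (ne_bot_of_mem (inf_le_inf (MF_le_F M) (cj_mono g (MF_le_F M)) c3)
      h1)).2.2.2.2.2.1 E E1 E2 E3 d2).1
    obtain rfl : E2 = ⊥ := by_contra fun e => by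
      obtain ⟨q, e1, e2⟩ := exists_prime_dvd e
      exact b7 q (d2.h2.pi q e1 e2)
    have d3 := (d2.sup hM).1
    rw [bot_sup_eq, bot_sup_eq] at d3
    exact d3 ▸ bg12_1_tau1 hM (d1.le.trans hE.le) d1.pi
  · exact (b6 ▸ mem_kappa.2 ⟨(compl_tau hM hE d2 (card_dvd d1)).imp_right (·.resolve_left (b7 _)), X,
      d1.trans hE.le, rfl, e⟩ : #X ∈ (∅ : Set ℕ))
end

end Cfsg.Agent.MS
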