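import Cfsg.Agent.Lib.MS.Pre6

/-!
BG section 7: the transitivity theorem.
-/

set_option linter.unusedSectionVars false
set_option linter.unusedVariables false
set_option linter.style.haveILetI false
set_option linter.unusedSimpArgs false

namespace Cfsg.Agent.MS

open Subgroup Cfsg.Agent.Transfer

universe u
variable {G : Type u} [Group G] [Finite G]

/-- `π(A)` -/
abbrev PI (A : Subgroup G) : Set ℕ := {q | q ∣ #A}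

/-- `Q ∈ И*(A; q)` -/
structure MI (A : Subgroup G) (q : ℕ) (Q : Subgroup G) : Prop where
  pg : IsPGroup q Q
  nn : A ≤ NN Q
  max : ∀ R : Subgroup G, IsPGroup q R → A ≤ NN R → Q ≤ R → R = Q

/-- Hypothesis 7.1 -/
structure NC (A : Subgroup G) : Prop where
  ne_bot : A ≠ ⊥
  ne_top : A ≠ ⊤
  le : ∀ X Y : Subgroup G, A ≤ X → X ≠ ⊤ → Y ≤ X → IsPi (PI A)ᶜ Y → A ≤ NN Y → Y ≤ O (PI A)ᶜ X

/-- `K` is transitive on `И*(A; q)` -/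
def Tr (K A : Subgroup G) (q : ℕ) : Prop := ∀ Q R, MI A q Q → MI A q R → ∃ k ∈ K, cj k Q = R

section
variable {A B H K P Q R X Y : Subgroup G} {p q : ℕ} {g : G}

theorem exists_MI (h : IsPGroup q R) (h1 : A ≤ NN R) : ∃ Q, MI A q Q ∧ R ≤ Q := by
  obtain ⟨Q, h2, h3, h4⟩ := Solv.exists_maximal_ge (P := fun Q => IsPGroup q Q ∧ A ≤ NN Q) ⟨h, h1⟩
  exact ⟨Q, ⟨h3.1, h3.2, fun S a b c => h4 S ⟨a, b⟩ c⟩, h2⟩
theorem MI.cj (h : MI A q Q) (g : G) : MI (cj g A) q (cj g Q) :=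
  ⟨IsPGroup.cj h.pg g, nn_cj h.nn g, fun R a b c => by
    rw [← h.max (Transfer.cj g⁻¹ R) (IsPGroup.cj a _) (cj_inv_cj g A ▸ nn_cj b g⁻¹)
      (cj_le_iff_le_cj_inv.1 c), cj_cj_inv]⟩
theorem MI.cj_nn (h : MI A q Q) (hg : g ∈ NN A) : MI A q (Transfer.cj g Q) := MS.cj_nn hg ▸ h.cj g
theorem mi_of_syl [Fact q.Prime] (h : IsSyl q Q ⊤) (h1 : A ≤ NN Q) : MI A q Q :=
  ⟨h.pgroup, h1, fun R a _ c => h.eq_of_le a le_top c⟩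
theorem PI_pg [hp : Fact p.Prime] (h : IsPGroup p A) (h0 : A ≠ ⊥) (r : ℕ) (hr : r.Prime) :
    r ∈ (PI A)ᶜ ↔ r ∈ ({p}ᶜ : Set ℕ) :=
  not_congr ⟨fun h1 => pi1_of_pg h r hr h1, fun h1 => h1 ▸ pg_dvd h h0⟩
theorem O_PI_pg [Fact p.Prime] (h : IsPGroup p A) (h0 : A ≠ ⊥) (X : Subgroup G) :
    O (PI A)ᶜ X = O {p}ᶜ X := O_congr fun r hr _ => PI_pg h h0 r hr
theorem nc_of_pg [Fact p.Prime] (h : IsPGroup p A) (h0 : A ≠ ⊥) (h1 : A ≠ ⊤)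
    (h2 : ∀ X Y : Subgroup G, A ≤ X → X ≠ ⊤ → Y ≤ X → IsPi {p}ᶜ Y → A ≤ NN Y → Y ≤ O {p}ᶜ X) : NC A :=
  ⟨h0, h1, fun X Y a b c d e => O_PI_pg h h0 X ▸ h2 X Y a b c
    (d.sub' fun r hr _ => (PI_pg h h0 r hr).1) e⟩

theorem PI_pi (A : Subgroup G) : IsPi (PI A) A := isPi_self A
theorem MI.eq_of_bot (h : MI A q ⊥) (h1 : MI A q R) : R = ⊥ := h.max R h1.pg h1.nn bot_le
theorem Hall.sup_left {π : Set ℕ} (h : Hall π H X) (h1 : IsPi πᶜ K) (h2 : X ≤ NN K) : Hall π H (K ⊔ X) := by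
  refine Hall.mk' (h.le.trans le_sup_right) h.pi fun r hr hπ hd => ?_
  rw [← relIndex_mul_relIndex H X (K ⊔ X) h.le le_sup_right] at hd
  refine ((Nat.Prime.dvd_mul hr).1 hd).elim (h.nd hr hπ) fun hd => h1 r hr ?_ hπ
  have e1 := card_mul_relIndex (le_sup_right : X ≤ K ⊔ X)
  have e2 := card_sup_mul_card_inf h2
  rw [sup_comm, ← e1, mul_assoc, Nat.mul_right_inj (card_ne_zero X)] at e2
  exact e2 ▸ hd.mul_right _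
theorem nn_of_card_le [Fact p.Prime] (h : IsPGroup p P) (h1 : Q ≤ P) (h2 : #P ≤ p * #Q) : P ≤ NN Q := by
  rcases h1.eq_or_lt with e | e
  · exact e ▸ le_nn _
  · exact (eq_of_card_le inf_le_left (h2.trans (BG.mul_card_le_of_lt (h.to_le inf_le_left)
      (lt_inf_normalizer h e)))).ge.trans inf_le_right

theorem O_pnd (A X : Subgroup G) : O (primesNotDvd #A) X = O (PI A)ᶜ X :=
  O_congr fun r hr _ => ⟨fun h => h.2, fun h => ⟨hr, h⟩⟩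
theorem mi_iff [Fact q.Prime] : Q ∈ maxInvSubgroups ⊤ A {q} ↔ MI A q Q :=
  ⟨fun h => ⟨pg_of_pi h.1.2.1, h.1.2.2, fun R a b c => h.2 R ⟨le_top, pi1_of_pg a, b⟩ c⟩,
    fun h => ⟨⟨le_top, pi1_of_pg h.pg, h.nn⟩, fun R a b => h.max R (pg_of_pi a.2.1) a.2.2 b⟩⟩
theorem nc_iff : TransitivityHypothesis A ↔ NC A := by
  refine ⟨fun h => ⟨h.1, h.2.1, fun X Y a b c d e => ?_⟩, fun h => ⟨h.ne_bot, h.ne_top, fun X a b => ?_⟩⟩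
  · rw [← O_pnd, ← h.2.2 X b a]
    exact le_sSup ⟨c, fun r hr h1 => ⟨hr, d r hr h1⟩, e⟩
  · refine le_antisymm (sSup_le fun Y hY => ?_) (le_sSup ⟨O_le _ _, O_pi _ _, nn_O (nn_of_le b)⟩)
    rw [O_pnd]
    exact h.le X Y b a hY.1 (fun r hr h1 => (hY.2.1 r hr h1).2) hY.2.2
theorem tr_iff [Fact q.Prime] : (∀ Q₁ ∈ maxInvSubgroups ⊤ A {q}, ∀ Q₂ ∈ maxInvSubgroups ⊤ A {q}, ∃ k ∈ K,
    Q₂ = Q₁.map (MulAut.conj k).toMonoidHom) ↔ Tr K A q :=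
  ⟨fun h Q R a b => by
    obtain ⟨k, h1, h2⟩ := h Q (mi_iff.2 a) R (mi_iff.2 b); exact ⟨k, h1, h2.symm⟩,
   fun h Q a R b => by
    obtain ⟨k, h1, h2⟩ := h Q R (mi_iff.1 a) (mi_iff.1 b); exact ⟨k, h1, h2.symm⟩⟩

variable [hG : MinS G]
include hG

theorem NC.le_K (hA : NC A) (h : Y ≤ CC A) (h1 : IsPi (PI A)ᶜ Y) : Y ≤ O (PI A)ᶜ (CC A) :=
  (le_inf (hA.le _ _ (le_nn A) (nn_ne_top hA.ne_bot hA.ne_top) (h.trans (cc_le_nn A)) h1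
    (nn_of_cc (cc_symm h))) h).trans (O_inf_le (cc_le_nn A))
theorem NC.K_sol (hA : NC A) (h : A ≤ P) : Group.IsSolvable (O (PI A)ᶜ (CC P)) :=
  sol_of_ne (ne_top_of_le (cc_ne_top hA.ne_bot) ((O_le _ _).trans (cc_anti h)))
theorem NC.step [Fact q.Prime] (hA : NC A) (hq : ¬ q ∣ #A) (h1 : MI A q Q) (h2 : MI A q R) (hH : H ≠ ⊤)
    (hAH : A ≤ H) : ∃ k ∈ O (PI A)ᶜ (CC A), ∃ S, MI A q S ∧ cj k (Q ⊓ H) ≤ S ∧ R ⊓ H ≤ S := by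
  have hn : A ≤ NN (O (PI A)ᶜ H) := nn_O (nn_of_le hAH)
  have hc : (#A).Coprime #(O (PI A)ᶜ H) := (PI_pi A).coprime (O_pi _ _)
  have hs : Group.IsSolvable (O (PI A)ᶜ H) := sol_mono (sol_of_ne hH) (O_le _ _)
  have key : ∀ Q, MI A q Q → ∃ S, IsSyl q S (O (PI A)ᶜ H) ∧ Q ⊓ H ≤ S ∧ A ≤ NN S := fun Q h => by
    have h3 : A ≤ NN (Q ⊓ H) := nn_inf h.nn (nn_of_le hAH)
    have h4 := h.pg.to_le (inf_le_left : Q ⊓ H ≤ Q)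
    exact cop_syl_ge hn hc hs (hA.le _ _ hAH hH inf_le_right (pi_of_pg h4 hq) h3) h4 h3
  obtain ⟨S1, a1, a2, a3⟩ := key Q h1
  obtain ⟨S2, b1, b2, b3⟩ := key R h2
  obtain ⟨c, hc1, hc2⟩ := cop_syl_conj hn hc hs a1 b1 a3 b3
  obtain ⟨S, c1, c2⟩ := exists_MI b1.pgroup b3
  exact ⟨c, hA.le_K inf_le_right ((O_pi _ _).mono inf_le_left) hc1, S, c1,
    (cj_mono c a2).trans (hc2.le.trans c2), b2.trans c2⟩
theorem NC.conj_trans [Fact q.Prime] {S : Subgroup G} {k : G} (hk : k ∈ K)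
    (h1 : ∃ k' ∈ K, cj k' (cj k Q) = S) (h2 : ∃ k' ∈ K, cj k' S = R) : ∃ k ∈ K, cj k Q = R := by
  obtain ⟨a, ha, rfl⟩ := h1
  obtain ⟨b, hb, rfl⟩ := h2
  exact ⟨b * (a * k), mul_mem hb (mul_mem ha hk), by rw [cj_cj, cj_cj, mul_assoc]⟩
theorem NC.of_meet [Fact q.Prime] (hA : NC A) (hq : ¬ q ∣ #A) (h1 : MI A q Q) (h2 : MI A q R)
    (h3 : Q ⊓ R ≠ ⊥) : ∃ k ∈ O (PI A)ᶜ (CC A), cj k Q = R := by
  induction' hn : #G - #(Q ⊓ R : Subgroup G) using Nat.strong_induction_on with n ih generalizing Q R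
  by_cases e : Q = R
  · exact ⟨1, one_mem _, by rw [cj_one, e]⟩
  have l1 : Q ⊓ R < Q := inf_le_left.lt_of_ne fun h => e (h1.max R h2.pg h2.nn (h ▸ inf_le_right)).symm
  have l2 : Q ⊓ R < R := inf_le_right.lt_of_ne fun h => e (h2.max Q h1.pg h1.nn (h ▸ inf_le_left))
  obtain ⟨k, hk, S, c1, c2, c3⟩ := hA.step hq h1 h2 (pg_nn_ne_top (h1.pg.to_le inf_le_left) h3)
    (nn_inf h1.nn h2.nn)
  have m1 := card_lt_of_lt (lt_inf_normalizer h1.pg l1)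
  have m2 := card_lt_of_lt (lt_inf_normalizer h2.pg l2)
  have m3 : #(Q ⊓ NN (Q ⊓ R) : Subgroup G) ≤ #(cj k Q ⊓ S : Subgroup G) :=
    card_cj k (Q ⊓ NN (Q ⊓ R)) ▸ card_le_of_le (le_inf (cj_mono k inf_le_left) c2)
  have m4 : #(R ⊓ NN (Q ⊓ R) : Subgroup G) ≤ #(S ⊓ R : Subgroup G) := card_le_of_le (le_inf c3 inf_le_left)
  have m5 := card_le_card_group (cj k Q ⊓ S)
  have m6 := card_le_card_group (S ⊓ R)
  have m7 := card_pos' (Q ⊓ R)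
  refine NC.conj_trans (q := q) hk (ih _ ?_ (h1.cj_nn (cc_le_nn A (O_le _ _ hk))) c1 ?_ rfl) (ih _ ?_ c1 h2 ?_ rfl)
  · omega
  · intro h; rw [h, card_bot] at m3; omega
  · omega
  · intro h; rw [h, card_bot] at m4; omega

/-- BG 7.1 -/
theorem bg7_1 [Fact q.Prime] (hA : NC A) (hq : ¬ q ∣ #A) (h1 : MI A q Q) (h2 : MI A q R) (hH : H ≠ ⊤)
    (hAH : A ≤ H) (h3 : Q ⊓ H ≠ ⊥) (h4 : R ⊓ H ≠ ⊥) : ∃ k ∈ O (PI A)ᶜ (CC A), cj k Q = R := by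
  obtain ⟨k, hk, S, c1, c2, c3⟩ := hA.step hq h1 h2 hH hAH
  exact NC.conj_trans (q := q) hk (hA.of_meet hq (h1.cj_nn (cc_le_nn A (O_le _ _ hk))) c1
    fun h => h3 (cj_eq_bot_iff.1 (eq_bot_of_le h (cj_mono k inf_le_left) c2)))
    (hA.of_meet hq c1 h2 fun h => h4 (eq_bot_of_le h c3 inf_le_left))
theorem MI.exists_C1 [Fact p.Prime] [Fact q.Prime] (hq : ¬ q ∣ #A) (h1 : MI A q Q) (h0 : Q ≠ ⊥)
    (hB : El p 2 B A) : ∃ z ∈ B, z ≠ 1 ∧ Q ⊓ C1 z ≠ ⊥ := by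
  by_contra! h
  exact h0 (eq_bot_iff.2 (cop_gen hB.ab hB.not_cyc (hB.le.trans h1.nn)
    (pg_coprime_pg hB.pg h1.pg fun e => hq (e ▸ hB.dvd)) fun a b c => (h a b c).le))
/-- BG 7.2 -/
theorem bg7_2 [Fact q.Prime] (hA : NC A) (hq : ¬ q ∣ #A) (hr : RkA 3 (A ⊓ CC A)) :
    Tr (O (PI A)ᶜ (CC A)) A q := by
  intro Q R h1 h2
  obtain ⟨p, hp, B, hB⟩ := hr
  haveI := Fact.mk hp
  by_cases e : Q = ⊥
  · exact ⟨1, one_mem _, by subst e; rw [cj_one, h1.eq_of_bot h2]⟩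
  have e2 : R ≠ ⊥ := fun h => e ((h ▸ h2).eq_of_bot h1)
  have hBA := hB.mono inf_le_left
  obtain ⟨D, hD, h3⟩ : ∃ D, El p 2 D B ∧ Q ⊓ CC D ≠ ⊥ := by
    by_contra! h
    exact e (eq_bot_iff.2 (cop_hyper hB (hBA.le.trans h1.nn)
      (pi_of_pg h1.pg fun e => hq ((show q = p from e) ▸ hBA.dvd)) fun D a => (h D a).le))
  obtain ⟨z, a1, a2, a3⟩ := h2.exists_C1 hq e2 (hD.mono hBA.le)
  exact bg7_1 hA hq h1 h2 (C1_ne_top a2) (le_C1_iff.2 (hB.le (hD.le a1)).2)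
    (fun h => h3 (inf_bot_mono h le_rfl (cc_le_C1 a1))) a3
/-- BG 7.3 -/
theorem bg7_3 [hq' : Fact q.Prime] (hA : NC A) (hq : ¬ q ∣ #A) (hc : q ∣ #(CC A)) (hr : RkA 2 (A ⊓ CC A)) :
    Tr (O (PI A)ᶜ (CC A)) A q := by
  obtain ⟨p, hp, B, hB⟩ := hr
  haveI := Fact.mk hp
  obtain ⟨X, h1, h2⟩ := exists_card_eq hq'.out hc
  obtain ⟨S, h3, h4⟩ := exists_MI (pg_of_card h2) (nn_of_cc (cc_symm h1))
  have h5 : X ≠ ⊥ := prime_ne_bot (h2 ▸ hq'.out)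
  have key : ∀ Q, MI A q Q → ∃ z ≠ (1 : G), A ≤ C1 z ∧ Q ⊓ C1 z ≠ ⊥ ∧ S ⊓ C1 z ≠ ⊥ := fun Q h => by
    obtain ⟨z, a1, a2, a3⟩ := h.exists_C1 hq (fun e => h5 (eq_bot_iff.2 (h4.trans ((e ▸ h).eq_of_bot h3).le)))
      (hB.mono inf_le_left)
    exact ⟨z, a2, le_C1_iff.2 (hB.le a1).2, a3, fun e => h5 (eq_bot_of_le e h4
      (h1.trans (cc_le_C1 (hB.le a1).1)))⟩
  intro Q R hQ hR
  obtain ⟨z, a1, a2, a3, a4⟩ := key Q hQ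
  obtain ⟨y, b1, b2, b3, b4⟩ := key R hR
  exact NC.conj_trans (q := q) (one_mem _) ((cj_one Q).symm ▸ bg7_1 hA hq hQ h3 (C1_ne_top a1) a2 a3 a4)
    (bg7_1 hA hq h3 hR (C1_ne_top b1) b2 b4 b3)
theorem NC.mi_of_ne_bot [Fact q.Prime] (hA : NC A) (hq : ¬ q ∣ #A) (hAP : A ≤ P) (hp : IsPi (PI A) P)
    (h : MI P q Q) (h0 : Q ≠ ⊥) : MI A q Q := by
  refine ⟨h.pg, hAP.trans h.nn, fun R a b c => ?_⟩
  have h1 := pg_nn_ne_top h.pg h0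
  have h2 := hA.le _ Q (hAP.trans h.nn) h1 (le_nn Q) (pi_of_pg h.pg hq) (hAP.trans h.nn)
  obtain ⟨S, s1, s2, s3⟩ := cop_syl_ge (nn_O (nn_of_le h.nn)) (hp.coprime (O_pi _ _))
    (sol_mono (sol_of_ne h1) (O_le _ _)) h2 h.pg h.nn
  rw [h.max S s1.pgroup s3 s2] at s1
  by_contra e
  have h3 := lt_inf_normalizer a (c.lt_of_ne (Ne.symm e))
  exact h3.ne' (s1.eq_of_le (a.to_le inf_le_left) (hA.le _ _ (hAP.trans h.nn) h1 inf_le_right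
    (pi_of_pg (a.to_le inf_le_left) hq) (nn_inf b (nn_of_le (hAP.trans h.nn)))) h3.le)
omit hG in
theorem Tr.frattini (ht : Tr K P q) (hK : K ≤ NN P) (hQ : MI P q Q) (hX : X ≤ NN P) (h : K ≤ X) :
    K ⊔ (X ⊓ NN Q) = X := by
  refine le_antisymm (sup_le h inf_le_left) fun g hg => ?_
  obtain ⟨k, h1, h2⟩ := ht _ _ hQ (hQ.cj_nn (hX hg))
  rw [show g = k * (k⁻¹ * g) by group]
  refine mul_mem (mem_sup_left h1) (mem_sup_right (mem_inf.2 ⟨mul_mem (inv_mem (h h1)) hg, ?_⟩))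
  rw [mem_normalizer_iff_cj, ← cj_cj, ← h2, cj_inv_cj]
theorem NC.tr_aux [Fact q.Prime] (hA : NC A) (hq : ¬ q ∣ #A) (hs : Comp.SubnIn A P) (hP : P ≠ ⊤)
    (hp : IsPi (PI A) P) (ht : Tr (O (PI A)ᶜ (CC A)) A q) :
    Tr (O (PI A)ᶜ (CC P)) P q ∧ ∀ Q, MI P q Q → MI A q Q := by
  induction' hn : #P using Nat.strong_induction_on with n ih generalizing P
  rcases hs.eq_or_exists_lt with e | ⟨B, h1, h2, h3⟩
  · exact e ▸ ⟨ht, fun _ h => h⟩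
  obtain ⟨i1, i2⟩ := ih _ (hn ▸ card_lt_of_lt h1) h3 (ne_top_of_le hP h1.le) (hp.mono h1.le) rfl
  have hK : O (PI A)ᶜ (CC B) ≤ NN B := (O_le _ _).trans (cc_le_nn B)
  have hPK : P ≤ NN (O (PI A)ᶜ (CC B)) := nn_O (nn_cc h2)
  have hX : O (PI A)ᶜ (CC B) ⊔ P ≤ NN B := sup_le hK h2
  have hsK := hA.K_sol h3.le
  have hXK : O (PI A)ᶜ (CC B) ⊔ P ≤ NN (O (PI A)ᶜ (CC B)) := sup_le (le_nn _) hPK
  have j2 : ∀ Q, MI P q Q → MI A q Q := fun Q hQ => by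
    by_cases e : Q = ⊥
    swap
    · exact hA.mi_of_ne_bot hq hs.le hp hQ e
    obtain ⟨R, hR, -⟩ := exists_MI (A := B) (q := q) IsPGroup.of_bot nn_bot
    have hsX := sol_sup_l hsK (sol_of_ne hP) hPK
    obtain ⟨H, hH⟩ := exists_hall (sol_mono hsX (inf_le_left (b := NN R))) (PI A)
    have h4 := hH.sup_left (O_pi (PI A)ᶜ (CC B)) (inf_le_left.trans hXK)
    rw [i1.frattini hK hR hX le_sup_left] at h4
    obtain ⟨g, h5, h6⟩ := Hall.conj hsX h4 ((Hall.self hp).sup_left (O_pi _ _) hPK)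
    have h7 := hQ.max _ (IsPGroup.cj hR.pg g) (h6 ▸ nn_cj (hH.le.trans inf_le_right) g) (e ▸ bot_le)
    exact h7 ▸ i2 _ (hR.cj_nn (hX h5))
  refine ⟨fun Q R hQ hR => ?_, j2⟩
  have j3 : ∀ Q, MI P q Q → MI B q Q := fun Q hQ =>
    ⟨hQ.pg, h1.le.trans hQ.nn, fun R a b c => (j2 Q hQ).max R a (h3.le.trans b) c⟩
  obtain ⟨k, a1, a2⟩ := i1 Q R (j3 Q hQ) (j3 R hR)
  obtain ⟨u, b1, c, b2, b3⟩ := bg6_5c (U := (O (PI A)ᶜ (CC B) ⊔ P) ⊓ NN Q) (g := k⁻¹) hsK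
    (inf_le_left.trans hXK) (le_inf le_sup_right hQ.nn) (hp.coprime (O_pi _ _))
    (mem_sup_left (inv_mem a1)) (le_inf (cj_le' le_sup_right (mem_sup_left (inv_mem a1)))
      (cj_inv_cj k Q ▸ a2 ▸ nn_cj hR.nn k⁻¹))
  refine ⟨c⁻¹, inv_mem (O_inf_le (cc_anti h1.le) b2), ?_⟩
  rw [← a2, ← inv_inv k, b3, mul_inv_rev, ← cj_cj, cj_nn ((NN Q).inv_mem b1.2)]
/-- BG 7.4 -/
theorem bg7_4 [Fact q.Prime] (hA : NC A) (hq : ¬ q ∣ #A) (hs : Comp.SubnIn A P) (hP : P ≠ ⊤)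
    (hp : IsPi (PI A) P) (ht : Tr (O (PI A)ᶜ (CC A)) A q) :
    O (PI A)ᶜ (CC A) ⊓ CC P = O (PI A)ᶜ (CC P) ∧ Tr (O (PI A)ᶜ (CC P)) P q ∧
      (∀ Q, MI P q Q → MI A q Q) ∧ ∀ Q, MI P q Q →
        P ⊓ ⁅NN P, NN P⁆ ≤ ⁅NN Q, NN Q⁆ ∧ O (PI A)ᶜ (CC P) ⊔ (NN P ⊓ NN Q) = NN P := by
  obtain ⟨h1, h2⟩ := hA.tr_aux hq hs hP hp ht
  refine ⟨le_antisymm (O_inf_le (cc_anti hs.le)) (le_inf (hA.le_K ((O_le _ _).trans (cc_anti hs.le))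
    (O_pi _ _)) (O_le _ _)), h1, h2, fun Q hQ => ?_⟩
  have hK : O (PI A)ᶜ (CC P) ≤ NN P := (O_le _ _).trans (cc_le_nn P)
  have h3 := h1.frattini hK hQ le_rfl hK
  refine ⟨?_, h3⟩
  have h4 := bg6_5a (U := NN P ⊓ NN Q) (hA.K_sol hs.le) (inf_le_left.trans (nn_O (nn_cc le_rfl)))
    (le_inf (le_nn P) hQ.nn) (hp.coprime (O_pi _ _))
  rw [h3] at h4
  exact h4.le.trans (inf_le_right.trans (der_mono inf_le_right))
/-- BG 7.5(a) -/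
theorem bg7_5a [Fact p.Prime] (h0 : A ≠ ⊥) (hA : MaxEl p A ⊤) (hl : ∀ H : Subgroup G, H ≠ ⊤ → PL1 p H) :
    NC A :=
  nc_of_pg (elem_isPGroup hA.elem) h0 (pg_ne_top (elem_isPGroup hA.elem)) fun X Y a b c d e =>
    bg6_7 (pg_ne_two (elem_isPGroup hA.elem) h0) (sol_of_ne b) (hl X b) (hA.mono a le_top) c d e
/-- BG 7.5(b) -/
theorem bg7_5b [hp : Fact p.Prime] (hP : IsSyl p P ⊤) (hA : IsSCN P A) (hr : Rk p 2 A) : NC A := by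
  have hpA := hP.pgroup.to_le hA.le
  obtain ⟨B, hB, hn⟩ := exists_normal_el2 hr.ne_two hP.pgroup hA.le hA.norm fun h => not_rk2_of_cyc h hr
  have hBP := hB.mono hA.le
  obtain ⟨Z, h1, h2⟩ := pg_exists_card (hB.pg.to_le inf_le_left)
    (nil_meet (nil_of_pg hP.pgroup) hBP.le hn hB.ne_bot)
  have hZ : Z ≠ ⊥ := prime_ne_bot (h2 ▸ hp.out)
  have hZB := h1.trans inf_le_left
  have hPZ : P ≤ CC Z := cc_symm (h1.trans inf_le_right)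
  refine nc_of_pg hpA (ne_bot_of_dvd hp.out hr.dvd) (pg_ne_top hpA) fun X Y a b c d e => ?_
  refine cop_gen hB.ab hB.not_cyc (hB.le.trans e) (pg_coprime hB.pg d (by simp)) fun x hx h0 => ?_
  have hAx : A ≤ C1 x := (ab_cc hA.comm).trans (cc_le_C1 (hB.le hx))
  have hY : A ≤ NN (Y ⊓ C1 x) := nn_inf e (nn_C1 hAx)
  have hd : IsPi {p}ᶜ (Y ⊓ C1 x) := d.mono inf_le_left
  refine le_O_of_cent (L := C1 x) (sol_of_ne b) (hB.pg.to_le (zpowers_le.2 hx)) (zpowers_le.2 (a (hB.le hx)))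
    (cc_zpowers x ▸ inf_le_right) ?_ (inf_le_left.trans c) (cc_zpowers x ▸ inf_le_right)
  have hs := sol_of_ne (C1_ne_top h0)
  obtain ⟨S, s1, s2⟩ := exists_isSyl_ge (hP.pgroup.to_le (inf_le_left (b := CC B)))
    (inf_le_right.trans (cc_le_C1 hx))
  have s3 : S ≤ NN (P ⊓ CC B) := by
    refine nn_of_card_le s1.pgroup s2 ((hP.card_le s1.pgroup le_top).trans ?_)
    rw [← card_inf_mul_relIndex (CC B) P, inf_comm, mul_comm]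
    exact Nat.mul_le_mul_right _ (index_cc_el2 hP.pgroup hBP hn)
  have hZA := hZB.trans hB.le
  rw [← cop_comm_sup (hZA.trans hY) (pg_coprime (pg_of_card h2) hd (by simp)) (sol_mono hs inf_le_right)]
  refine sup_le (comm_le_O_of_ab hs (odd_sub _) s1 (inf_le_left.trans s2) (ab_center (P ⊓ CC B)) (by nrm)
    (le_inf (le_inf (hZA.trans hA.le) (hZB.trans hB.cc)) (cc_symm (inf_le_left.trans hPZ)))
    inf_le_right hd (hZA.trans hY)) ?_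
  exact le_O_of_cent (L := CC Z) hs (pg_of_card h2) (hZA.trans hAx) inf_le_right
    (scn_le_O (sol_of_ne (cc_ne_top hZ)) (odd_sub _) (hP.mono hPZ le_top) hA inf_le_right
      (hd.mono inf_le_left) (nn_inf hY (nn_of_le (hA.le.trans hPZ)))) (inf_le_left.trans inf_le_right)
    inf_le_right
/-- BG 7.6 -/
theorem bg7_6 [hp : Fact p.Prime] [hq' : Fact q.Prime] (hP : IsSyl p P ⊤) (hA : IsSCN P A) (hr : Rk p 3 A)
    (hq : q ≠ p) : Tr (O {p}ᶜ (CC A)) A q := by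
  have hpA := hP.pgroup.to_le hA.le
  rw [← O_PI_pg hpA (ne_bot_of_dvd hp.out hr.dvd)]
  exact bg7_2 (bg7_5b hP hA (hr.anti (by omega))) (fun h => hq (pi1_of_pg hpA q hq'.out h))
    (hr.mono (le_inf le_rfl (ab_cc hA.comm))).rkA
end

end Cfsg.Agent.MS
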