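import Cfsg.Agent.Lib.MS.Sec7

/-!
BG section 8: the Fitting subgroup of a maximal subgroup.
-/

set_option linter.unusedSectionVars false
set_option linter.unusedVariables false
set_option linter.style.haveILetI false
set_option linter.unusedSimpArgs false

namespace Cfsg.Agent.MS

open Subgroup Cfsg.Agent.Transfer

universe u
variable {G : Type u} [Group G] [Finite G]

section
variable {A B H K M P Q R X Y : Subgroup G} {p q r : ℕ} {g : G}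

/-- the centre of `F(M)`, `q`-part -/
abbrev ZF (q : ℕ) (M : Subgroup G) : Subgroup G := O {q} M ⊓ CC (F M)
theorem ZF_pg [Fact q.Prime] : IsPGroup q (ZF q M) := (O_pg M).to_le inf_le_left
theorem ZF_le_F [Fact q.Prime] : ZF q M ≤ F M := inf_le_left.trans (O_le_F M)
theorem O_ne_bot_of_F [Fact q.Prime] (h : q ∣ #(F M)) : O {q} M ≠ ⊥ :=
  O1_F (p := q) M ▸ syl_ne_bot (nil_syl (F_nil M)) h
theorem ZF_ne_bot [Fact q.Prime] (h : q ∣ #(F M)) : ZF q M ≠ ⊥ :=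
  nil_meet (F_nil M) (O_le_F M) (nn_O (nn_of_le (F_le M))) (O_ne_bot_of_F h)
theorem exists_prime_ne [hp : Fact p.Prime] (h : ¬ IsPGroup p H) (h1 : p ∣ #H) (q : ℕ) :
    ∃ r, r.Prime ∧ r ∣ #H ∧ r ≠ q := by
  by_cases e : p = q
  · by_contra! h2
    exact h (pg_of_pi fun r a b => e ▸ h2 r a b)
  · exact ⟨p, hp.out, h1, e⟩

variable [hG : MinS G]
include hG

theorem cc_ZF_le [Fact q.Prime] (hM : IsCoatom M) (h : q ∣ #(F M)) : CC (ZF q M) ≤ M :=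
  (cc_le_nn _).trans (max_nn' hM (ZF_ne_bot h) (ZF_le_F.trans (F_le M)) (by nrm)).le
theorem nn_O_max {π : Set ℕ} (hM : IsCoatom M) (h : O π M ≠ ⊥) : NN (O π M) = M :=
  max_nn' hM h (O_le _ _) (by nrm)
/-- a unique maximal invariant subgroup for a subnormal subgroup of `F(M)` is trivial -/
theorem NC.eq_bot_of_tr [Fact q.Prime] (hA : NC A) (hq : ¬ q ∣ #A) (hM : IsCoatom M) (h : A ≤ F M)
    (hp : IsPi (PI A) (F M)) (ht : Tr (O (PI A)ᶜ (CC A)) A q) (h0 : O (PI A)ᶜ (CC A) = ⊥)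
    (hR : IsPGroup q R) (h1 : A ≤ NN R) : R = ⊥ := by
  obtain ⟨-, -, h2, -⟩ := bg7_4 hA hq (Comp.subnIn_of_isNilpotent (F_nil M) h)
    (ne_top_of_le hM.1 (F_le M)) hp ht
  obtain ⟨Q, hQ, -⟩ := exists_MI (A := F M) (q := q) IsPGroup.of_bot nn_bot
  have h3 : M ≤ NN Q := fun g hg => by
    obtain ⟨k, a, b⟩ := ht _ _ (h2 Q hQ) (h2 _ (hQ.cj_nn (nn_F (le_nn M) hg)))
    rw [h0, mem_bot] at a
    rw [mem_normalizer_iff_cj, ← b, a, cj_one]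
  have h4 : Q = ⊥ := by
    by_contra e
    exact hq (pg_mem_pi hQ.pg e (hp.mono (le_F ((le_nn Q).trans (max_nn hM e (pg_ne_top hQ.pg) h3).le) h3
      (nil_of_pg hQ.pg))))
  exact (h2 Q hQ).max R hR h1 (h4 ▸ bot_le) ▸ h4

/-- BG 8.1(a) -/
theorem bg8_1a [hp : Fact p.Prime] (hM : IsCoatom M) (hF : ¬ IsPGroup p (F M)) (hA : MaxEl p A (F M))
    (hr : Rk p 3 A) : UU (F M ⊓ CC A) := by
  have hpF : p ∣ #(F M) := hr.dvd.trans (card_dvd hA.le)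
  have alt := exists_prime_ne hF hpF
  have hAB : A ≤ F M ⊓ CC A := le_inf hA.le (ab_cc hA.elem.1)
  have hZ : ∀ q, [Fact q.Prime] → ZF q M ≤ F M ⊓ CC A := fun q _ =>
    le_inf ZF_le_F (inf_le_right.trans (cc_anti hA.le))
  have hO : O {p}ᶜ (F M) ≤ F M ⊓ CC A := le_inf (O_le _ _) (nil_cc (F_nil M) (O_le _ _) hA.le
    (pg_coprime (elem_isPGroup hA.elem) (O_pi _ _) (by simp)).symm)
  have hBF : F M ⊓ CC A ≤ F M := inf_le_left
  have hrB : RkA 3 ((F M ⊓ CC A) ⊓ CC (F M ⊓ CC A)) := (hr.mono (le_inf hAB (cc_symm inf_le_right))).rkA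
  have hCB : F M ⊓ CC (F M ⊓ CC A) ≤ F M ⊓ CC A := inf_le_inf_left _ (cc_anti hAB)
  generalize F M ⊓ CC A = B at *
  have hπ : IsPi (PI B) (F M) := fun q a b => by
    haveI := Fact.mk a
    exact (pg_dvd ZF_pg (ZF_ne_bot b)).trans (card_dvd (hZ q))
  have hFM := F_le M
  have L1 : ∀ X, B ≤ X → X ≠ ⊤ → ∀ r, [Fact r.Prime] → r ∣ #(F M) → ∀ K ≤ B, IsPi {r}ᶜ K → K ≤ O {r}ᶜ X :=
    fun X a b r _ c K d e => le_O_of_cent (L := M) (sol_of_ne b) ZF_pg ((hZ r).trans a)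
      (inf_le_right.trans (cc_ZF_le hM c)) ((nil_le_O (F_nil M) (d.trans hBF) e).trans (O_le_O hFM (by nrm)))
      (d.trans a) (cc_symm (inf_le_right.trans (cc_anti (d.trans hBF))))
  have hC : ∀ Y ≤ CC B, IsPi (PI B)ᶜ Y → Y = ⊥ := fun Y a b => by
    have h1 : Y ≤ M := a.trans ((cc_anti (hZ p)).trans (cc_ZF_le hM hpF))
    have h2 := cop_nil_cc (F_nil M) (nn_F (nn_of_le h1)) (hπ.coprime b).symm
      ((inf_le_inf_left _ (cc_anti (le_inf hBF (cc_symm a)))).trans (hCB.trans (cc_symm a)))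
    exact (hπ.mono ((le_inf h1 h2).trans (cc_F_le (max_sol hM)))).eq_bot b
  have hB0 : B ≠ ⊥ := fun e => ZF_ne_bot hpF (eq_bot_iff.2 (e ▸ hZ p))
  have hB1 : B ≠ ⊤ := ne_top_of_le hM.1 (hBF.trans hFM)
  have hN : NC B := by
    refine ⟨hB0, hB1, fun X Y a b c d e => le_O_inter (fun r h1 h2 _ => ?_) c⟩
    obtain ⟨q, q1, q2, q3⟩ := alt r
    haveI := Fact.mk q1
    haveI := Fact.mk h2
    have h3 : Y ⊓ M = ⊥ := hC _ (comm_eq_bot.1 (eq_bot_of_le (hπ.inf d)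
      ((commutator_mono inf_le_right hBF).trans (comm_le_right (by nrm)))
      ((comm_le_left (nn_inf e (nn_of_le (hBF.trans hFM)))).trans inf_le_left))) (d.mono inf_le_left)
    rw [← cop_comm_eq ((hZ q).trans e) (((PI_pi B).mono (hZ q)).coprime d) (sol_mono (sol_of_ne b) c)
      (inf_bot_mono h3 le_rfl (cc_ZF_le hM q2))]
    exact (commutator_mono le_rfl (L1 X a b r (h1.trans (card_dvd hBF)) _ (hZ q) (pi_of_pg ZF_pg q3))).trans
      (comm_le_right (nn_O (nn_of_le c)))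
  have hI : ∀ q, [Fact q.Prime] → ¬ q ∣ #B → ∀ R : Subgroup G, IsPGroup q R → B ≤ NN R → R = ⊥ := fun q _ a R b c =>
    hN.eq_bot_of_tr a hM hBF hπ (bg7_2 hN a hrB) (hC _ (O_le _ _) (O_pi _ _)) b c
  refine ⟨M, um_of_forall hB1 fun H hH hBH => ?_⟩
  have hs := max_sol hH
  have h1 : ∀ q, [Fact q.Prime] → q ∣ #(F H) → q ∣ #(F M) := fun q _ a => by
    by_contra e
    exact O_ne_bot_of_F a (hI q (fun h => e (h.trans (card_dvd hBF))) _ (O_pg H) (nn_O (nn_of_le hBH)))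
  have h2 : p ∣ #(F H) := by
    by_contra e
    refine ZF_ne_bot hpF (eq_bot_iff.2 ((le_O_inter (π := PI (F H)) (fun r a b c => ?_)
      ((hZ p).trans hBH)).trans (O_eq_bot_of_F hs (PI_pi _).compl_compl).le))
    haveI := Fact.mk b
    exact L1 H hBH hH.1 r (h1 r a) _ (hZ p) (pi_of_pg ZF_pg fun h => e ((show p = r from h) ▸ a))
  have h3 : ∀ q, [Fact q.Prime] → q ∣ #(F H) → ∀ K ≤ B, IsPi {q}ᶜ K → K ≤ CC (O {q} H) := fun q _ a K b c =>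
    (L1 H hBH hH.1 q (h1 q a) K b c).trans (cc_symm (O_cc_O _ _))
  have h4 : O {p} H ≤ M := by
    obtain ⟨r, r1, r2, r3⟩ := alt p
    haveI := Fact.mk r1
    exact (cc_symm (h3 p h2 _ (hZ r) (pi_of_pg ZF_pg r3))).trans (cc_ZF_le hM r2)
  have h5 := nn_O_max hH (O_ne_bot_of_F h2)
  have h6 : ZF p M ≤ CC (O {p}ᶜ H) := by
    refine cop_cent_F (sol_mono hs (O_le _ _)) (nn_O (nn_of_le ((hZ p).trans hBH)))
      (pg_coprime ZF_pg (O_pi _ _) (by simp)) (cc_symm (F_le_of_O fun q a b => ?_))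
    haveI := Fact.mk a
    have b' := b.trans (card_dvd (F_le_F (O_le _ _) (by nrm)))
    exact (O_le_O (O_le _ _) (by nrm)).trans (cc_symm (h3 q b' _ (hZ p) (pi_of_pg ZF_pg
      fun h => O_pi {p}ᶜ H q a (b.trans (card_dvd (F_le _))) (show p = q from h).symm)))
  have h7 : O {p}ᶜ H ≤ O {p}ᶜ M := le_O_of_cent (L := H) (max_sol hM) (O_pg H) h4
    (inf_le_right.trans ((cc_le_nn _).trans h5.le)) le_rfl ((cc_symm h6).trans (cc_ZF_le hM hpF))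
    (cc_symm (O_cc_O _ _))
  have h8 : O {p} H ≤ CC (O {p}ᶜ M) := cop_cent_F (sol_mono (max_sol hM) (O_le _ _)) (nn_O (nn_of_le h4))
    (pg_coprime (O_pg H) (O_pi _ _) (by simp)) (O_F {p}ᶜ M ▸ cc_symm (h3 p h2 _ hO (O_pi _ _)))
  have h9 : O {p}ᶜ M ≤ O {p}ᶜ H := le_O_of_cent (L := M) hs ZF_pg ((hZ p).trans hBH)
    (inf_le_right.trans (cc_ZF_le hM hpF)) le_rfl ((cc_symm h8).trans ((cc_le_nn _).trans h5.le))
    (cc_symm (inf_le_left.trans (O_cc_O _ _)))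
  have h10 : O {p}ᶜ M ≠ ⊥ := by
    obtain ⟨r, r1, r2, r3⟩ := alt p
    haveI := Fact.mk r1
    exact fun e => O_ne_bot_of_F r2 (eq_bot_iff.2 (e ▸ O_sub (Set.singleton_subset_iff.2 r3) M))
  rw [← nn_O_max hM h10, le_antisymm h9 h7]
  exact (nn_O_max hH (le_antisymm h9 h7 ▸ h10)).symm
/-- a maximal subgroup `H ≠ M` over `A` with a largest `p`-intersection -/
theorem exists_max_inter [Fact p.Prime] (hM : IsCoatom M) (hA : IsPGroup p A) (h0 : A ≠ ⊥) (h1 : A ≤ M)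
    (hu : ¬ UM A M) (hS : ∀ S, IsSyl p S M → A ≤ S → NN S ≤ M) :
    ∃ H R, IsCoatom H ∧ H ≠ M ∧ A ≤ R ∧ R ≤ M ∧ IsSyl p R H ∧ NN R ≤ M := by
  obtain ⟨L, a1, a2, a3⟩ := exists_max_ne hu hM h1
  obtain ⟨R, b1, ⟨b2, b3, H, b4, b5, b6⟩, b7⟩ := Solv.exists_maximal_ge
    (P := fun R => IsPGroup p R ∧ R ≤ M ∧ ∃ H, IsCoatom H ∧ H ≠ M ∧ R ≤ H) ⟨hA, h1, L, a1, a3, a2⟩
  have h2 : NN R ≤ M := by
    obtain ⟨S, s1, s2⟩ := exists_isSyl_ge b2 b3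
    rcases s2.eq_or_lt with e | e
    · exact hS R (e ▸ s1) b1
    obtain ⟨L, c1, c2⟩ := exists_max (pg_nn_ne_top b2 fun e => h0 (eq_bot_iff.2 (e ▸ b1)))
    by_contra h
    have h3 := lt_inf_normalizer s1.pgroup e
    exact h3.ne' (b7 _ ⟨s1.pgroup.to_le inf_le_left, inf_le_left.trans s1.le, L, c1, fun e => h (e ▸ c2),
      inf_le_right.trans c2⟩ h3.le)
  exact ⟨H, R, b4, b5, b1, b3, syl_of_nn b6 (isSyl_of_maximal b2 (le_inf b6 (le_nn R)) fun T a b c =>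
    (b7 T ⟨a, b.trans (inf_le_right.trans h2), H, b4, b5, b.trans inf_le_left⟩ c).le), h2⟩
theorem nn_ZJ_max [Fact p.Prime] (hM : IsCoatom M) (hP : IsSyl p P M) (h0 : O {p}ᶜ M = ⊥) :
    NN (ZJ P) = M := by
  have h1 : P ≠ ⊥ := fun e => F_max_ne_bot hM (by
    rw [F_eq_O h0]; exact eq_bot_iff.2 (e ▸ O_le_syl hP))
  exact max_nn' hM (ZJ_ne_bot (.inr rfl) hP.pgroup h1) ((ZJ_le _).trans hP.le)
    (ZJ_nn (max_sol hM) (odd_sub _) hP h0)
/-- BG 8.1(b) -/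
theorem bg8_1b [hp : Fact p.Prime] (hM : IsCoatom M) (hF : IsPGroup p (F M)) (hP : IsSyl p P M) :
    IsSyl p P ⊤ ∧ ∀ A, IsSCN P A → Rk p 3 A → A ≤ F M ∧ UU A := by
  have h0 : O {p}ᶜ M = ⊥ := O_eq_bot_of_F (max_sol hM) (pi1_of_pg hF).compl_compl
  have h1 : ∀ S, IsSyl p S M → NN S ≤ M := fun S h => (nn_ZJ le_rfl).trans (nn_ZJ_max hM h h0).le
  have hP' := syl_top_of_nn hP (h1 P hP)
  refine ⟨hP', fun A hA hr => ?_⟩
  have hpA := hP.pgroup.to_le hA.le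
  have hA0 := ne_bot_of_dvd hp.out hr.dvd
  have h2 : A ≤ F M := (ab_le_O (max_sol hM) (odd_sub _) hP hA.le hA.comm hA.norm h0).trans (O_le_F M)
  have hAM := h2.trans (F_le M)
  refine ⟨h2, M, ?_⟩
  have h3 : CC A ≤ M := (cc_anti ((inf_le_inf (O_le_syl hP) (cc_anti h2)).trans hA.inf_eq.le)).trans
    (cc_ZF_le hM (pg_dvd hF (F_max_ne_bot hM)))
  have h4 : O (PI A)ᶜ (CC A) = ⊥ := by
    have := O_cc_le (max_sol hM) hpA hAM
    rw [inf_eq_right.2 h3, h0] at this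
    rw [O_PI_pg hpA hA0, eq_bot_iff.2 this]
  by_contra hu
  obtain ⟨H, R, a1, a2, a3, a4, a5, a6⟩ := exists_max_inter hM hpA hA0 hAM hu fun S h _ => h1 S h
  have h5 : O {p}ᶜ H = ⊥ := O_eq_bot_of_F (max_sol a1) fun q b c => by
    haveI := Fact.mk b
    by_contra e
    have e' : q ≠ p := fun h => e (by simpa using h)
    exact O_ne_bot_of_F c ((bg7_5b hP' hA (hr.anti (by omega))).eq_bot_of_tr
      (fun h => e' (pi1_of_pg hpA q b h)) hM h2 (pi_of_pg hF hr.dvd)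
      (O_PI_pg hpA hA0 _ ▸ bg7_6 hP' hA hr e') h4 (O_pg H) (nn_O (nn_of_le (a3.trans a5.le))))
  have h6 := nn_ZJ_max a1 a5 h5
  have h7 : IsSyl p R M := syl_of_nn a4 (a5.mono (le_inf a4 (le_nn R))
    (inf_le_right.trans ((nn_ZJ le_rfl).trans h6.le)))
  exact a2 (h6.symm.trans (nn_ZJ_max hM h7 h0))
theorem bg8_1 (hM : IsCoatom M) (hr : RkA 3 (F M)) : UU (F M) := by
  obtain ⟨p, hp, hr⟩ := hr
  haveI := Fact.mk hp
  have h0 := ne_top_of_le hM.1 (F_le M)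
  by_cases h : IsPGroup p (F M)
  · obtain ⟨P, hP⟩ := exists_isSyl p M
    obtain ⟨A, h1, h2⟩ := bg5_1a hr.ne_two hP.pgroup ((hr.mono (F_le M)).syl hP)
    obtain ⟨h3, h4⟩ := (bg8_1b hM h hP).2 A h1 h2
    exact h4.mono h3 h0
  · obtain ⟨E, hE⟩ := hr
    obtain ⟨A, h1, h2⟩ := exists_maxEl hE.elem hE.le
    exact (bg8_1a hM h h1 (hE.of_le h2).rk).mono inf_le_left h0
end

end Cfsg.Agent.MS
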