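import Cfsg.Agent.Lib.MS.Sec8
import Cfsg.Agent.Lib.MS.Pre5

/-!
BG section 9: the uniqueness theorem.
-/

set_option linter.unusedSectionVars false
set_option linter.unusedVariables false
set_option linter.style.haveILetI false
set_option linter.unusedSimpArgs false

namespace Cfsg.Agent.MS

open Subgroup Cfsg.Agent.Transfer

universe u
variable {G : Type u} [Group G] [Finite G]

section
variable {A B H K L M P Q R X Y : Subgroup G} {p q : ℕ} {g : G}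

theorem Rk.inf_cc [Fact p.Prime] {n : ℕ} (hP : IsPGroup p P) (hB : El p 2 B P) (hn : P ≤ NN B) (hA : A ≤ P)
    (h : Rk p (n + 1) A) : Rk p n (A ⊓ CC B) :=
  h.of_index (inf_relIndex_left A (CC B) ▸
    (relIndex_le_of_le_right hA (relIndex_pos _ _).ne').trans (index_cc_el2 hP hB hn))
theorem syl_le_O [Fact p.Prime] (hs : Group.IsSolvable H) (ho : Odd #H) (hP : IsSyl p P H) (h1 : Y ≤ H)
    (h2 : IsPi {p}ᶜ Y) (h3 : P ≤ NN Y) : Y ≤ O {p}ᶜ H := by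
  obtain ⟨A, -, hA⟩ := BG.exists_scn_ge (nil_of_pg hP.pgroup) bot_le (ab_of_cyc cyc_bot) nn_bot
  exact scn_le_O hs ho hP hA h1 h2 (hA.le.trans h3)
theorem frattini_der [Fact p.Prime] (hP : IsSyl p P H) : ⁅H, H⁆ ⊔ (H ⊓ NN P) = H := by
  have := frattini (hP.mono le_sup_right (sup_le (der_le H) hP.le)) (sup_le (der_le H) hP.le)
    (nn_of_der_le le_sup_left (sup_le (der_le H) hP.le))
  rwa [sup_assoc, sup_eq_right.2 (le_inf hP.le (le_nn P))] at this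
theorem F_le_of [Fact p.Prime] (h1 : O {p} H ≤ K) (h2 : O {p}ᶜ (F H) ≤ K) : F H ≤ K :=
  nil_O_sup (F_nil H) {p} ▸ sup_le ((O1_F H).le.trans h1) h2

variable [hG : MinS G]
include hG

theorem O_top_eq_bot {π : Set ℕ} (hp : p.Prime) (h : p ∣ #H) (h1 : p ∉ π) : O π (⊤ : Subgroup G) = ⊥ := by
  by_contra e
  exact nn_ne_top e (fun h2 => h1 (O_pi π ⊤ p hp (h2 ▸ h.trans (card_dvd le_top))))
    (eq_top_iff.2 (nn_O (le_nn _)))
theorem not_npc_top [hp : Fact p.Prime] (h : p ∣ #H) : ¬ NPC p (⊤ : Subgroup G) := fun h1 => by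
  obtain ⟨P, hP⟩ := exists_isSyl p (⊤ : Subgroup G)
  have := h1.sup hP
  rw [O_top_eq_bot hp.out h (by simp), bot_sup_eq] at this
  exact pg_ne_top hP.pgroup this
theorem comm_nn_ne_bot [hp : Fact p.Prime] (hP : IsSyl p P ⊤) (h : P ≠ ⊥) : ⁅P, NN P⁆ ≠ ⊥ := fun e =>
  not_npc_top (pg_dvd hP.pgroup h) (burnside hP (inf_le_right.trans (comm_eq_bot'.1 e)))

/-- BG 9.1(b) -/
theorem bg9_1b [Fact p.Prime] (hM : IsCoatom M) (hB : B ≤ M) (he : IsElementaryAbelian p B)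
    (hc : ¬ IsCyclic B) (h : ∀ K, IsPi {p}ᶜ K → B ≤ NN K → K ≤ M) : UU B := by
  refine ⟨M, ?_⟩
  by_contra hu
  obtain ⟨H, R, a1, a2, a3, a4, a5, a6⟩ := exists_max_inter hM (elem_isPGroup he) (fun e => hc (e ▸ cyc_bot))
    hB hu fun S hS hBS => by
      by_cases e : O {p}ᶜ M = ⊥
      · exact (nn_ZJ le_rfl).trans (nn_ZJ_max hM hS e).le
      refine fun g hg => (nn_O_max hM e).le (mem_normalizer_of_cj_le ?_)
      have h1 : S ≤ NN (cj g (O {p}ᶜ M)) := nn_cj_of (nn_O (nn_of_le hS.le)) hg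
      exact syl_le_O (max_sol hM) (odd_sub _) hS (h _ ((O_pi _ _).cj g) (hBS.trans h1)) ((O_pi _ _).cj g) h1
  have h1 : F H ≤ M := F_le_of ((O_le_syl a5).trans a4)
    (h _ (O_pi _ _) (nn_O (nn_F (nn_of_le (a3.trans a5.le)))))
  by_cases hr : RkA 3 (F H)
  · exact a2 ((bg8_1 a1 hr).eq hM a1 h1 (F_le H))
  · exact a2 (max_eq' a1 hM (frattini_der a5 ▸ sup_le ((bg4_20a (max_sol a1) (odd_sub _) hr).trans h1)
      (inf_le_right.trans a6))).symm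
/-- BG 9.1(a) -/
theorem bg9_1a [Fact p.Prime] (hM : IsCoatom M) (hB : B ≤ M) (he : IsElementaryAbelian p B)
    (hc : ¬ IsCyclic B) (h : ∀ b ∈ B, b ≠ 1 → C1 b ≤ M) : UU B :=
  bg9_1b hM hB he hc fun K a b => cop_gen he.1 hc b (pg_coprime (elem_isPGroup he) a (by simp))
    fun x c d => inf_le_right.trans (h x c d)
/-- BG 9.2 -/
theorem bg9_2 (hL : UU L) (hK : K ≤ CC L) (hr : RkA 2 K) : UU K := by
  obtain ⟨p, hp, B, hB⟩ := hr
  haveI := Fact.mk hp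
  obtain ⟨M, hM⟩ := hL
  have h : ∀ b ∈ B, b ≠ 1 → C1 b ≤ M := fun b c d =>
    hM.le_of (le_C1_iff.2 (hK (hB.le c))) (C1_ne_top d)
  obtain ⟨b, c, d⟩ := exists_ne_one hB.ne_bot
  exact (bg9_1a hM.max ((hB.cc.trans (cc_le_C1 c)).trans (h b c d)) hB.elem hB.not_cyc h).mono hB.le
    (ne_top_of_le (cc_ne_top hM.ne_bot) hK)
/-- BG 9.3 -/
theorem bg9_3 [Fact p.Prime] (hA : IsPGroup p A) (ha : IsMulCommutative A) (hr : Rk p 3 A) (hu : UU A)
    (hB : IsPGroup p B) (hc : ¬ IsCyclic B) (h : Rk p 3 (CC B)) : UU B := by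
  obtain ⟨E, hE⟩ := h
  obtain ⟨P, hP, h1⟩ := exists_isSyl_ge hE.pg le_top
  obtain ⟨g, -, h2⟩ := hP.exists_cj_le hA le_top
  obtain ⟨D, hD, h3⟩ := exists_normal_el2 hr.ne_two hP.pgroup le_rfl (le_nn P)
    fun h => hE.not_cyc (cyc_mono h h1)
  have h4 := bg9_2 (hu.cj g) (inf_le_left.trans (ab_cc (ab_cj ha g)))
    (Rk.inf_cc hP.pgroup hD h3 h2 (hr.cj g)).rkA
  have h5 := bg9_2 h4 (cc_symm inf_le_right) hD.self.rk.rkA
  have h6 := bg9_2 h5 inf_le_right (Rk.inf_cc hP.pgroup hD h3 h1 hE.self.rk).rkA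
  exact bg9_2 (h6.mono inf_le_left (pg_ne_top hE.pg)) (cc_symm hE.le) (pg_rk2 hB hc).rkA
theorem uu_of_ab_uu [Fact p.Prime] (hA : IsPGroup p A) (ha : IsMulCommutative A) (hr : Rk p 3 A) (hu : UU A)
    (h0 : K ≠ ⊤) (h : Rk p 3 K) : UU K := by
  obtain ⟨E, hE⟩ := h
  exact (bg9_3 hA ha hr hu hE.pg hE.not_cyc (hE.of_le hE.cc).rk).mono hE.le h0
/-- BG 9.4 -/
theorem bg9_4' [Fact p.Prime] (hM : IsCoatom M) (hF : Rk p 3 (F M)) (hK : K ≠ ⊤) (hr : Rk p 3 K) : UU K := by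
  by_cases h : IsPGroup p (F M)
  · obtain ⟨P, hP⟩ := exists_isSyl p M
    obtain ⟨A, h1, h2⟩ := bg5_1a hr.ne_two hP.pgroup ((hF.mono (F_le M)).syl hP)
    exact uu_of_ab_uu (hP.pgroup.to_le h1.le) h1.comm h2 ((bg8_1b hM h hP).2 A h1 h2).2 hK hr
  · obtain ⟨E, hE⟩ := hF
    obtain ⟨A, h1, h2⟩ := exists_maxEl hE.elem hE.le
    have h3 := (hE.of_le h2).rk
    exact uu_of_ab_uu (elem_isPGroup h1.elem) h1.elem.1 h3 (bg9_2 (bg8_1a hM h h1 h3) (cc_symm inf_le_right)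
      (h3.anti (by omega)).rkA) hK hr
theorem bg9_4 [Fact p.Prime] (hM : IsCoatom M) (hF : Rk p 3 (F M)) (hP : IsPGroup p P)
    (hr : Rk p 3 P) : UU P := bg9_4' hM hF (pg_ne_top hP) hr
theorem bg9_5_nn [hp : Fact p.Prime] (hP : IsSyl p P ⊤) (hA : IsSCN P A) (hr : Rk p 3 A) (hu : ¬ UU A)
    (hM : IsCoatom M) (hC : CC A ≤ M) : NN P ≤ M := by
  have hpA := hP.pgroup.to_le hA.le
  have hAM := (ab_cc hA.comm).trans hC
  have hA0 := ne_bot_of_dvd hp.out hr.dvd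
  obtain ⟨q, hq, h1, h2⟩ : ∃ q, q.Prime ∧ q ≠ p ∧ ∀ Q : Subgroup G, IsPGroup q Q → O {q} M ≤ Q → NN Q ≤ M := by
    by_cases h : RkA 3 (F M)
    · obtain ⟨q, hq, h⟩ := h
      haveI := Fact.mk hq
      have h3 := h.syl (nil_syl (F_nil M))
      rw [O1_F] at h3
      refine ⟨q, hq, fun e => hu (bg9_4 hM (e ▸ h) hpA hr), fun Q a b => ?_⟩
      have h4 := (bg9_4 hM h (O_pg M) h3).um hM (O_le _ _)
      exact (h4.mono b (pg_ne_top a)).nn_le
    · obtain ⟨q, hq, h3, h4⟩ := exists_max_prime (max_ne_bot hM)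
      haveI := Fact.mk hq
      have h5 := bg4_20_max (max_sol hM) (odd_sub _) h h4
      have h6 := nn_O_max hM (syl_ne_bot h5 h3)
      refine ⟨q, hq, fun e => h ?_, fun Q a b => ?_⟩
      · subst e
        exact (((hr.mono hAM).syl h5).mono (O_le_F M)).rkA
      · rw [(syl_top_of_nn h5 h6.le).eq_of_le a le_top b, h6]
  haveI := Fact.mk hq
  have key : NN (P ⊓ M) ≤ M := by
    obtain ⟨Q, a, b⟩ := exists_MI (A := P ⊓ M) (O_pg (p := q) M) (nn_O (nn_of_le inf_le_right))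
    have h3 := hP.pgroup.to_le (inf_le_left : P ⊓ M ≤ P)
    obtain ⟨-, -, -, h4⟩ := bg7_4 (bg7_5b hP hA (hr.anti (by omega))) (fun h => h1 (pi1_of_pg hpA q hq h))
      (Comp.subnIn_of_isNilpotent (nil_of_pg h3) (le_inf hA.le hAM)) (pg_ne_top h3) (pi_of_pg h3 hr.dvd)
      (O_PI_pg hpA hA0 _ ▸ bg7_6 hP hA hr h1)
    rw [← (h4 Q a).2]
    exact sup_le ((O_le _ _).trans ((cc_anti (le_inf hA.le hAM)).trans hC)) (inf_le_right.trans (h2 Q a.pg b))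
  rcases (inf_le_left : P ⊓ M ≤ P).eq_or_lt with e | e
  · exact e ▸ key
  · exact absurd (le_inf inf_le_left (inf_le_right.trans key)) (lt_inf_normalizer hP.pgroup e).not_ge
/-- BG 9.5 -/
theorem bg9_5 [hp : Fact p.Prime] (hP : IsSyl p P ⊤) (hA : IsSCN P A) (hr : Rk p 3 A) : UU A := by
  by_contra hu
  have hpA := hP.pgroup.to_le hA.le
  have hA0 := ne_bot_of_dvd hp.out hr.dvd
  have hP0 : P ≠ ⊥ := fun e => hA0 (eq_bot_iff.2 (e ▸ hA.le))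
  have h0 := comm_nn_ne_bot hP hP0
  have h1 : ⁅P, NN P⁆ ≤ P := comm_le_left le_rfl
  have h2 := hP.pgroup.to_le h1
  have h3 := pg_nn_ne_top h2 h0
  obtain ⟨E, hE⟩ := id hr
  have hb : ∀ B ≤ E, ¬ IsCyclic B → ∀ M, IsCoatom M → CC A ≤ M → ∃ L, IsCoatom L ∧ L ≠ M ∧ CC B ≤ L := by
    intro B a b M c d
    by_contra! h
    refine hu ((bg9_1a c (a.trans (hE.le.trans ((ab_cc hA.comm).trans d)))
      ⟨ab_mono hE.ab a, fun x hx => hE.elem.2 x (a hx)⟩ b fun x hx e => ?_).mono (a.trans hE.le) (pg_ne_top hpA))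
    obtain ⟨L, l1, l2⟩ := exists_max (C1_ne_top e)
    by_contra h4
    exact h L l1 (fun e => h4 (e ▸ l2)) ((cc_le_C1 hx).trans l2)
  have key : ∀ M, IsCoatom M → CC A ≤ M → UM (NN ⁅P, NN P⁆) M := fun M hM hC => by
    have a1 := bg9_5_nn hP hA hr hu hM hC
    have hAM := (ab_cc hA.comm).trans hC
    have u3 : ∀ K ≤ F M, RkA 3 K → UM K M := fun K a ⟨q, hq, b⟩ => by
      haveI := Fact.mk hq
      exact (bg9_4' hM (b.mono a) (ne_top_of_le hM.1 (a.trans (F_le M))) b).um hM (a.trans (F_le M))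
    have a2 : O {p}ᶜ (F M) ≤ CC ⁅P, NN P⁆ := by
      refine cop_hyper hE (nn_O (nn_F (nn_of_le (hE.le.trans hAM)))) (O_pi _ _) fun B hB => ?_
      obtain ⟨L, l1, l2, l3⟩ := hb B hB.le hB.not_cyc M hM hC
      have a3 := bg9_5_nn hP hA hr hu l1 ((cc_anti (hB.le.trans hE.le)).trans l3)
      have a4 : O {p}ᶜ (F M) ⊓ L ≤ F M := inf_le_left.trans (O_le _ _)
      refine (inf_le_inf_left _ l3).trans (cc_symm (nil_rank2_cc (A := NN P) (nil_mono (F_nil M) a4) (odd_sub _)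
        (fun h => l2 ((u3 _ a4 h).uniq L l1 inf_le_right)) (nn_inf (nn_O (nn_F (nn_of_le a1))) (nn_of_le a3))
        (sol_of_le hM a1) (odd_sub _) (commutator_mono (le_nn P) le_rfl)
        (pg_coprime h2 ((O_pi _ _).mono inf_le_left) (by simp))))
    have a3 : F M ≤ O {p}ᶜ (F M) ⊔ P := F_le_of ((O_le_syl (hP.mono ((le_nn P).trans a1) le_top)).trans
      le_sup_right) le_sup_left
    by_cases h : RkA 3 (F M)
    · obtain ⟨q, hq, h⟩ := h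
      haveI := Fact.mk hq
      exact (u3 _ (O_le _ _) (h.hall (nil_hall (F_nil M) {p}ᶜ) fun e =>
        hu (bg9_4 hM ((show q = p from e) ▸ h) hpA hr)).rkA).mono (nn_of_cc a2) h3
    · have a4 : M ≤ NN ⁅P, NN P⁆ := frattini_der (hP.mono ((le_nn P).trans a1) le_top) ▸ sup_le
        ((bg4_20a (max_sol hM) (odd_sub _) h).trans (a3.trans (sup_le (nn_of_cc a2) (left_nn_comm _ _))))
        (inf_le_right.trans (right_nn_comm _ _))
      rw [max_eq hM a4 h3]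
      exact ⟨hM, le_rfl, fun L a b => max_eq' hM a b⟩
  obtain ⟨M, hM, hC⟩ := exists_max (cc_ne_top hA0)
  obtain ⟨L, l1, l2, l3⟩ := hb E le_rfl hE.not_cyc M hM hC
  exact l2 ((key M hM hC).eq (key L l1 ((cc_anti hE.le).trans l3)))
/-- BG 9.6 -/
theorem uu_of_rk3 (hK : K ≠ ⊤) (hr : RkA 3 K) : UU K := by
  obtain ⟨p, hp, hr⟩ := hr
  haveI := Fact.mk hp
  obtain ⟨P, hP⟩ := exists_isSyl p (⊤ : Subgroup G)
  obtain ⟨A, h1, h2⟩ := bg5_1a hr.ne_two hP.pgroup ((hr.mono le_top).syl hP)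
  exact uu_of_ab_uu (hP.pgroup.to_le h1.le) h1.comm h2 (bg9_5 hP h1 h2) hK hr
theorem uu_of_cc_rk3 (h2 : RkA 2 K) (hr : RkA 3 (CC K)) : UU K := by
  obtain ⟨p, hp, E, hE⟩ := hr
  haveI := Fact.mk hp
  exact bg9_2 (uu_of_rk3 (pg_ne_top hE.pg) hE.self.rk.rkA) (cc_symm hE.le) h2
theorem uu_of_not_maxEl [Fact p.Prime] (hA : El p 2 A H) (h : ¬ MaxEl p A ⊤) : UU A :=
  uu_of_cc_rk3 hA.self.rk.rkA (((hA.mono le_top).rk_succ h).mono inf_le_right).rkA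
theorem um_of_rk3 (hM : IsCoatom M) (hK : K ≤ M) (hr : RkA 3 K) : UM K M :=
  (uu_of_rk3 (ne_top_of_le hM.1 hK) hr).um hM hK
end

end Cfsg.Agent.MS
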